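import Groth.Prelude.Def_CohDer
import Mathlib.CategoryTheory.Triangulated.Yoneda
import Mathlib.CategoryTheory.Triangulated.Subcategory
import Mathlib.CategoryTheory.Limits.Preserves.Basic

/-!
# Compact objects in preadditive / triangulated categories

Reformulations of `CohDer.IsCompactObject` in terms of finite sums and the closure of compact
objects under shifts and extensions.
-/

set_option autoImplicit false

universe v u w v' u'

open CategoryTheory CategoryTheory.Limits CategoryTheory.Pretriangulated ZeroObject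

namespace Groth.Agent.CohtopA.Compact

section Preadditive

variable {D : Type u} [Category.{v} D] [Preadditive D]

open scoped Classical in
lemma homSumToHomCoprod_of (K : D) {ι : Type v} (X : ι → D) [HasCoproduct X] (i : ι)
    (f : K ⟶ X i) :
    CohDer.homSumToHomCoprod K X (DirectSum.of (fun i => K ⟶ X i) i f) = f ≫ Sigma.ι X i := by
  unfold CohDer.homSumToHomCoprod
  have h := DirectSum.toAddMonoid_of (fun i => Preadditive.rightComp K (Sigma.ι X i)) i f
  convert h using 1
  rfl

open scoped Classical in
/-- The projection from a coproduct on one of the summands (given zero morphisms). -/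
noncomputable def proj {ι : Type w} {X : ι → D} {c : Cofan X} (hc : IsColimit c) (j : ι) :
    c.pt ⟶ X j :=
  Cofan.IsColimit.desc hc (fun i => if h : i = j then eqToHom (by rw [h]) else 0)

lemma inj_proj_self {ι : Type w} {X : ι → D} {c : Cofan X} (hc : IsColimit c) (j : ι) :
    c.inj j ≫ proj hc j = 𝟙 _ := by
  simp [proj]

lemma inj_proj_of_ne {ι : Type w} {X : ι → D} {c : Cofan X} (hc : IsColimit c) (i j : ι)
    (h : i ≠ j) : c.inj i ≫ proj hc j = 0 := by
  simp [proj, h]

/-- `f : K ⟶ c.pt` (with `c` a cofan on `X`) is a finite sum of morphisms through the summands. -/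
def IsFiniteSum {K : D} {ι : Type w} {X : ι → D} (c : Cofan X) (f : K ⟶ c.pt) : Prop :=
  ∃ (s : Finset ι) (g : ∀ i, K ⟶ X i), f = ∑ i ∈ s, g i ≫ c.inj i

lemma IsFiniteSum.zero {K : D} {ι : Type w} {X : ι → D} (c : Cofan X) :
    IsFiniteSum c (0 : K ⟶ c.pt) := ⟨∅, fun _ => 0, by simp⟩

lemma IsFiniteSum.add {K : D} {ι : Type w} {X : ι → D} {c : Cofan X} {f g : K ⟶ c.pt}
    (hf : IsFiniteSum c f) (hg : IsFiniteSum c g) : IsFiniteSum c (f + g) := by
  classical
  obtain ⟨s, a, rfl⟩ := hf
  obtain ⟨t, b, rfl⟩ := hg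
  refine ⟨s ∪ t, fun i => (if i ∈ s then a i else 0) + (if i ∈ t then b i else 0), ?_⟩
  simp only [Preadditive.add_comp, Finset.sum_add_distrib]
  congr 1
  · rw [← Finset.sum_subset (Finset.subset_union_left (s₁ := s) (s₂ := t))]
    · exact Finset.sum_congr rfl (fun i hi => by simp [hi])
    · intro i _ hi
      simp [hi]
  · rw [← Finset.sum_subset (Finset.subset_union_right (s₁ := s) (s₂ := t))]
    · exact Finset.sum_congr rfl (fun i hi => by simp [hi])
    · intro i _ hi
      simp [hi]

lemma IsFiniteSum.precomp {K K' : D} {ι : Type w} {X : ι → D} {c : Cofan X} {f : K ⟶ c.pt}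
    (hf : IsFiniteSum c f) (a : K' ⟶ K) : IsFiniteSum c (a ≫ f) := by
  obtain ⟨s, g, rfl⟩ := hf
  exact ⟨s, fun i => a ≫ g i, by simp [Preadditive.comp_sum]⟩

lemma IsFiniteSum.single {K : D} {ι : Type w} {X : ι → D} (c : Cofan X) (i : ι) (g : K ⟶ X i) :
    IsFiniteSum c (g ≫ c.inj i) := by
  classical
  exact ⟨{i}, fun j => if h : i = j then g ≫ eqToHom (by rw [h]) else 0, by simp⟩

lemma IsFiniteSum.eq_sum_proj {K : D} {ι : Type w} {X : ι → D} {c : Cofan X} (hc : IsColimit c)
    {f : K ⟶ c.pt} (hf : IsFiniteSum c f) :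
    ∃ (s : Finset ι), (∀ i, i ∉ s → f ≫ proj hc i = 0) ∧
      f = ∑ i ∈ s, (f ≫ proj hc i) ≫ c.inj i := by
  classical
  obtain ⟨s, g, rfl⟩ := hf
  have key : ∀ j, (∑ i ∈ s, g i ≫ c.inj i) ≫ proj hc j = if j ∈ s then g j else 0 := by
    intro j
    rw [Preadditive.sum_comp]
    split_ifs with hj
    · rw [Finset.sum_eq_single j]
      · simp [inj_proj_self]
      · intro b _ hb
        simp [inj_proj_of_ne hc b j hb]
      · intro h
        exact absurd hj h
    · apply Finset.sum_eq_zero
      intro i hi
      have : i ≠ j := by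
        rintro rfl
        exact hj hi
      simp [inj_proj_of_ne hc i j this]
  refine ⟨s, fun i hi => by rw [key, if_neg hi], ?_⟩
  refine Finset.sum_congr rfl (fun i hi => ?_)
  rw [key, if_pos hi]

/-- A compact object: every morphism to a coproduct is a finite sum. -/
lemma isCompactObject_iff [HasCoproducts.{v} D] (K : D) :
    CohDer.IsCompactObject K ↔
      ∀ (ι : Type v) (X : ι → D) (f : K ⟶ ∐ X), IsFiniteSum (Cofan.mk (∐ X) (Sigma.ι X)) f := by
  classical
  constructor
  · intro h ι X f
    obtain ⟨x, rfl⟩ := (h ι X).2 f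
    induction x using DirectSum.induction_on with
    | zero => rw [map_zero]; exact IsFiniteSum.zero _
    | of i g =>
      rw [homSumToHomCoprod_of]
      exact IsFiniteSum.single (Cofan.mk (∐ X) (Sigma.ι X)) i g
    | add x y hx hy =>
      rw [map_add]
      exact hx.add hy
  · intro h ι X
    constructor
    · intro x y hxy
      have key : ∀ (x : DirectSum ι (fun i => K ⟶ X i)) (j : ι),
          CohDer.homSumToHomCoprod K X x ≫ proj (coproductIsCoproduct X) j = x j := by
        intro x j
        induction x using DirectSum.induction_on with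
        | zero => simp
        | of i g =>
          rw [homSumToHomCoprod_of]
          by_cases hij : i = j
          · subst hij
            have := inj_proj_self (coproductIsCoproduct X) i
            simp only [Cofan.inj, Cofan.mk_ι_app] at this
            rw [Category.assoc, this, DirectSum.of_eq_same, Category.comp_id]
          · have := inj_proj_of_ne (coproductIsCoproduct X) i j hij
            simp only [Cofan.inj, Cofan.mk_ι_app] at this
            rw [Category.assoc, this, DirectSum.of_eq_of_ne _ _ _ (Ne.symm hij), comp_zero]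
        | add x y hx hy =>
          rw [map_add, Preadditive.add_comp, hx, hy, DirectSum.add_apply]
      ext j
      rw [← key x j, ← key y j, hxy]
    · intro f
      obtain ⟨s, g, rfl⟩ := h ι X f
      refine ⟨∑ i ∈ s, DirectSum.of (fun i => K ⟶ X i) i (g i), ?_⟩
      rw [map_sum]
      refine Finset.sum_congr rfl (fun i _ => ?_)
      rw [homSumToHomCoprod_of]
      rfl

lemma IsFiniteSum.of_iso {K : D} {ι : Type w} {X : ι → D} {c c' : Cofan X}
    (hc : IsColimit c) (hc' : IsColimit c')
    (h : ∀ f : K ⟶ c.pt, IsFiniteSum c f) (f : K ⟶ c'.pt) : IsFiniteSum c' f := by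
  obtain ⟨s, g, hg⟩ := h (f ≫ (hc'.coconePointUniqueUpToIso hc).hom)
  refine ⟨s, g, ?_⟩
  have := congr_arg (fun t => t ≫ (hc'.coconePointUniqueUpToIso hc).inv) hg
  simp only [Category.assoc, Iso.hom_inv_id, Category.comp_id] at this
  rw [this, Preadditive.sum_comp]
  refine Finset.sum_congr rfl (fun i _ => ?_)
  rw [Category.assoc]
  congr 1
  exact hc'.comp_coconePointUniqueUpToIso_inv hc ⟨i⟩

/-- Compactness against coproducts indexed by arbitrary small types, for any colimit cofan. -/
lemma isFiniteSum_of_isCompactObject [HasCoproducts.{v} D] {K : D} (hK : CohDer.IsCompactObject K)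
    {ι : Type w} [Small.{v} ι] {X : ι → D} {c : Cofan X} (hc : IsColimit c) (f : K ⟶ c.pt) :
    IsFiniteSum c f := by
  classical
  let e : Shrink.{v} ι ≃ ι := (equivShrink ι).symm
  let X' : Shrink.{v} ι → D := fun i => X (e i)
  let φ : ∐ X' ⟶ c.pt := Sigma.desc (fun i => c.inj (e i))
  let ψ : c.pt ⟶ ∐ X' := Cofan.IsColimit.desc hc
    (fun i => eqToHom (by simp [X']) ≫ Sigma.ι X' (e.symm i))
  have h1 : ψ ≫ φ = 𝟙 _ := by
    refine Cofan.IsColimit.hom_ext hc _ _ (fun i => ?_)
    simp only [ψ, φ, Cofan.IsColimit.fac_assoc, Category.assoc, colimit.ι_desc, Cofan.mk_ι_app,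
      Category.comp_id]
    have : ∀ (j : ι) (h : j = i), eqToHom (by rw [h]) ≫ c.inj j = c.inj i := by
      rintro j rfl
      simp
    exact this _ (by simp)
  obtain ⟨s, g, hg⟩ := (isCompactObject_iff K).1 hK _ X' (f ≫ ψ)
  have hf : f = ∑ i ∈ s, g i ≫ c.inj (e i) := by
    have := congr_arg (fun t => t ≫ φ) hg
    simp only [Category.assoc, h1, Category.comp_id] at this
    rw [this, Preadditive.sum_comp]
    refine Finset.sum_congr rfl (fun i _ => ?_)
    rw [Category.assoc]
    congr 1
    simp [φ, Cofan.inj]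
  rw [hf]
  clear hf hg
  induction s using Finset.induction_on with
  | empty => simpa using IsFiniteSum.zero c
  | insert a s ha ih =>
    rw [Finset.sum_insert ha]
    exact (IsFiniteSum.single c (e a) (g a)).add ih

end Preadditive

section Shift

variable {D : Type u} [Category.{v} D] [Preadditive D] [HasCoproducts.{v} D]
  {D' : Type u'} [Category.{v} D'] [Preadditive D'] [HasCoproducts.{v} D']

/-- If `F ⊣ G` with `F`, `G` additive and `G` commuting with coproducts, then `F` preserves compact
objects. -/
lemma isCompactObject_of_adj {F : D ⥤ D'} {G : D' ⥤ D} (adj : F ⊣ G) [F.Additive] [G.Additive]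
    [∀ (ι : Type v), PreservesColimitsOfShape (Discrete ι) G] {K : D}
    (hK : CohDer.IsCompactObject K) : CohDer.IsCompactObject (F.obj K) := by
  rw [isCompactObject_iff]
  intro ι X f
  let c : Cofan (fun i => G.obj (X i)) := Cofan.mk (G.obj (∐ X)) (fun i => G.map (Sigma.ι X i))
  have hc : IsColimit c := isColimitOfHasCoproductOfPreservesColimit G X
  obtain ⟨s, g, hg⟩ := isFiniteSum_of_isCompactObject hK hc (adj.homEquiv _ _ f)
  refine ⟨s, fun i => (adj.homEquiv _ _).symm (g i), ?_⟩
  apply (adj.homEquiv _ _).injective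
  rw [hg]
  have : ∀ (t : Finset ι), (adj.homEquiv K (∐ X)) (∑ i ∈ t, (adj.homEquiv _ _).symm (g i) ≫
      (Cofan.mk (∐ X) (Sigma.ι X)).inj i) = ∑ i ∈ t, g i ≫ c.inj i := by
    classical
    intro t
    induction t using Finset.induction_on with
    | empty => simp [Adjunction.homEquiv_unit]
    | insert a t ha ih =>
      rw [Finset.sum_insert ha, Finset.sum_insert ha, ← ih]
      simp only [Adjunction.homEquiv_unit, Functor.map_add, Preadditive.comp_add]
      congr 1
      simp [c, Cofan.inj, Adjunction.homEquiv_counit]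
  exact (this s).symm

lemma isCompactObject_of_equivalence (e : D ≌ D') [e.functor.Additive] {K : D}
    (hK : CohDer.IsCompactObject K) : CohDer.IsCompactObject (e.functor.obj K) :=
  isCompactObject_of_adj e.toAdjunction hK

lemma isCompactObject_of_iso {K L : D} (e : K ≅ L) (hK : CohDer.IsCompactObject K) :
    CohDer.IsCompactObject L := by
  rw [isCompactObject_iff] at hK ⊢
  intro ι X f
  have := (hK ι X (e.hom ≫ f)).precomp e.inv
  simpa using this

lemma isCompactObject_zero {Z : D} (hZ : IsZero Z) : CohDer.IsCompactObject Z := by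
  rw [isCompactObject_iff]
  intro ι X f
  rw [hZ.eq_of_src f 0]
  exact IsFiniteSum.zero _

lemma isCompactObject_shift [HasShift D ℤ] [∀ n : ℤ, (shiftFunctor D n).Additive] {K : D}
    (hK : CohDer.IsCompactObject K) (n : ℤ) : CohDer.IsCompactObject (K⟦n⟧) := by
  have : (shiftEquiv D n).functor.Additive := inferInstanceAs (shiftFunctor D n).Additive
  exact isCompactObject_of_equivalence (shiftEquiv D n) hK

end Shift

section Triangulated

variable {D : Type u} [Category.{v} D] [Preadditive D] [HasZeroObject D] [HasShift D ℤ]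
    [∀ n : ℤ, (shiftFunctor D n).Additive] [Pretriangulated D] [HasCoproducts.{v} D]

lemma isCompactObject_ext₂ (T : Triangle D) (hT : T ∈ distTriang D)
    (h₁ : CohDer.IsCompactObject T.obj₁) (h₃ : CohDer.IsCompactObject T.obj₃) :
    CohDer.IsCompactObject T.obj₂ := by
  classical
  rw [isCompactObject_iff]
  intro ι X f
  obtain ⟨s, hs, hs'⟩ := IsFiniteSum.eq_sum_proj (coproductIsCoproduct X)
    ((isCompactObject_iff _).1 h₁ ι X (T.mor₁ ≫ f))
  -- subtract a finite sum so that the restriction to `T.obj₁` vanishes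
  let y : T.obj₂ ⟶ ∐ X := ∑ i ∈ s, (f ≫ proj (coproductIsCoproduct X) i) ≫
    (Cofan.mk (∐ X) (Sigma.ι X)).inj i
  have hy : T.mor₁ ≫ (f - y) = 0 := by
    rw [Preadditive.comp_sub, sub_eq_zero]
    conv_lhs => rw [hs']
    simp only [y, Preadditive.comp_sum, Category.assoc]
  obtain ⟨z, hz⟩ := Triangle.yoneda_exact₂ T hT _ hy
  have hf : f = y + T.mor₂ ≫ z := by rw [← hz]; abel
  rw [hf]
  exact IsFiniteSum.add ⟨s, _, rfl⟩ (((isCompactObject_iff _).1 h₃ ι X z).precomp _)

lemma isTriangulated_isCompactObject :
    ObjectProperty.IsTriangulated (fun K : D => CohDer.IsCompactObject K) where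
  exists_zero := ⟨0, isZero_zero D, isCompactObject_zero (isZero_zero D)⟩
  isStableUnderShiftBy n := ⟨fun _ hK => isCompactObject_shift hK n⟩
  ext₂' T hT h₁ h₃ := ObjectProperty.le_isoClosure _ _ (isCompactObject_ext₂ T hT h₁ h₃)

end Triangulated

end Groth.Agent.CohtopA.Compact
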