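import Groth.Agent.CohtopA.Compact
import Mathlib.CategoryTheory.Triangulated.HomologicalFunctor
import Mathlib.CategoryTheory.Triangulated.Opposite.Pretriangulated
import Mathlib.CategoryTheory.Adjunction.PartialAdjoint
import Mathlib.CategoryTheory.Limits.Shapes.Opposites.Products
import Mathlib.Algebra.Category.Grp.Limits
import Mathlib.Algebra.Category.Grp.Zero
import Mathlib.CategoryTheory.Limits.Preserves.Opposites
import Mathlib.CategoryTheory.Triangulated.Opposite.Functor
import Mathlib.CategoryTheory.Preadditive.Yoneda.Limits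

/-!
# Brown representability for compactly generated triangulated categories
-/

set_option autoImplicit false

universe v u w v' u'

open CategoryTheory CategoryTheory.Limits CategoryTheory.Pretriangulated ZeroObject Opposite
open CategoryTheory.Pretriangulated.Opposite

namespace Groth.Agent.CohtopA.Brown

open Groth.Agent.CohtopA.Compact

section Products

variable {D : Type u} [Category.{v} D]
  (H : Dᵒᵖ ⥤ AddCommGrpCat.{v}) [∀ (ι : Type v), PreservesLimitsOfShape (Discrete ι) H]

include H in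
lemma preservesLimitsOfShape_small {ι : Type w} [Small.{v} ι] :
    PreservesLimitsOfShape (Discrete ι) H :=
  preservesLimitsOfShape_of_equiv (Discrete.equivalence (equivShrink.{v} ι).symm) H

lemma existsUnique_of_isColimit {ι : Type w} [Small.{v} ι] {X : ι → D} {c : Cofan X}
    (hc : IsColimit c) (e : ∀ i, H.obj (op (X i))) :
    ∃! x : H.obj (op c.pt), ∀ i, H.map (c.inj i).op x = e i := by
  have := preservesLimitsOfShape_small H (ι := ι)
  have h1 : IsLimit (Cofan.op c) := Cofan.IsColimit.op hc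
  have h2 := isLimitOfPreserves (H ⋙ forget AddCommGrpCat.{v}) h1
  obtain ⟨x, hx, hx'⟩ := (Types.isLimit_iff _).1 ⟨h2⟩
    (fun j => e j.as) (by
      rintro ⟨j⟩ ⟨k⟩ ⟨⟨⟨⟩⟩⟩
      change ((Discrete.functor fun i => op (X i)) ⋙ H ⋙ forget AddCommGrpCat.{v}).map (𝟙 _) _ = _
      rw [CategoryTheory.Functor.map_id]
      rfl)
  refine ⟨x, fun i => hx ⟨i⟩, fun y hy => hx' y ?_⟩
  rintro ⟨i⟩
  exact hy i

lemma ext_of_isColimit {ι : Type w} [Small.{v} ι] {X : ι → D} {c : Cofan X}
    (hc : IsColimit c) (x y : H.obj (op c.pt))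
    (h : ∀ i, H.map (c.inj i).op x = H.map (c.inj i).op y) : x = y :=
  (existsUnique_of_isColimit H hc (fun i => H.map (c.inj i).op y)).unique h (fun _ => rfl)

lemma exists_of_isColimit {ι : Type w} [Small.{v} ι] {X : ι → D} {c : Cofan X}
    (hc : IsColimit c) (e : ∀ i, H.obj (op (X i))) :
    ∃ x : H.obj (op c.pt), ∀ i, H.map (c.inj i).op x = e i :=
  (existsUnique_of_isColimit H hc e).exists

end Products

section Exact

variable {D : Type u} [Category.{v} D] [Preadditive D] [HasZeroObject D] [HasShift D ℤ]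
    [∀ n : ℤ, (shiftFunctor D n).Additive] [Pretriangulated D]
    (H : Dᵒᵖ ⥤ AddCommGrpCat.{v}) [H.IsHomological]

lemma exact_elem (T : Triangle D) (hT : T ∈ distTriang D) (y : H.obj (op T.obj₂))
    (hy : H.map T.mor₁.op y = 0) : ∃ z : H.obj (op T.obj₃), H.map T.mor₂.op z = y := by
  have := H.map_distinguished_op_exact T hT
  rw [ShortComplex.ab_exact_iff] at this
  exact this y hy

end Exact

section Telescope

variable {D : Type u} [Category.{v} D] [Preadditive D]

/-- The shift map on a coproduct of a sequence. -/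
noncomputable def sigma {X : ℕ → D} {c : Cofan X} (hc : IsColimit c) (t : ∀ n, X n ⟶ X (n + 1)) :
    c.pt ⟶ c.pt :=
  Cofan.IsColimit.desc hc (fun n => t n ≫ c.inj (n + 1))

lemma inj_sigma {X : ℕ → D} {c : Cofan X} (hc : IsColimit c) (t : ∀ n, X n ⟶ X (n + 1)) (n : ℕ) :
    c.inj n ≫ sigma hc t = t n ≫ c.inj (n + 1) := by
  simp [sigma]

lemma eq_zero_of_comp_eq_self {X : ℕ → D} {c : Cofan X} (hc : IsColimit c)
    (t : ∀ n, X n ⟶ X (n + 1)) (σ : c.pt ⟶ c.pt)
    (hσ : ∀ n, c.inj n ≫ σ = t n ≫ c.inj (n + 1)) {K : D} (F : K ⟶ c.pt)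
    (hF : IsFiniteSum c F) (hF' : F ≫ σ = F) : F = 0 := by
  classical
  have h0 : σ ≫ proj hc 0 = 0 := by
    refine Cofan.IsColimit.hom_ext hc _ _ (fun n => ?_)
    rw [← Category.assoc, hσ, Category.assoc, inj_proj_of_ne hc (n + 1) 0 (by simp)]
    simp
  have hs : ∀ n, σ ≫ proj hc (n + 1) = proj hc n ≫ t n := by
    intro n
    refine Cofan.IsColimit.hom_ext hc _ _ (fun m => ?_)
    rw [← Category.assoc, hσ, Category.assoc, ← Category.assoc (c.inj m) (proj hc n)]
    by_cases h : m = n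
    · subst h
      rw [inj_proj_self, inj_proj_self]
      simp
    · rw [inj_proj_of_ne hc _ _ h, inj_proj_of_ne hc (m + 1) (n + 1) (by simpa using h)]
      simp
  have key : ∀ n, F ≫ proj hc n = 0 := by
    intro n
    induction n with
    | zero => rw [← hF', Category.assoc, h0, comp_zero]
    | succ n ih => rw [← hF', Category.assoc, hs, ← Category.assoc, ih, zero_comp]
  obtain ⟨s, -, hs⟩ := hF.eq_sum_proj hc
  rw [hs]
  simp [key]

/-- The composed transition map `X n ⟶ X (n + k)`. -/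
def trans {X : ℕ → D} (t : ∀ n, X n ⟶ X (n + 1)) (n : ℕ) : ∀ k : ℕ, X n ⟶ X (n + k)
  | 0 => 𝟙 _
  | (k + 1) => trans t n k ≫ t (n + k)

lemma exists_trans_of_le {X : ℕ → D} (t : ∀ n, X n ⟶ X (n + 1)) {Z : D} (a : ∀ n, X n ⟶ Z)
    (ha : ∀ n, t n ≫ a (n + 1) = a n) {n m : ℕ} (h : n ≤ m) :
    ∃ (s : X n ⟶ X m), s ≫ a m = a n := by
  induction m, h using Nat.le_induction with
  | base => exact ⟨𝟙 _, by simp⟩
  | succ m hm ih =>
    obtain ⟨s, hs⟩ := ih
    exact ⟨s ≫ t m, by rw [Category.assoc, ha, hs]⟩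

end Telescope

section Hocolim

variable {D : Type u} [Category.{v} D] [Preadditive D] [HasZeroObject D] [HasShift D ℤ]
    [∀ n : ℤ, (shiftFunctor D n).Additive] [Pretriangulated D] [HasCoproducts.{v} D]

include D in
lemma hasColimitsOfShape_small {ι : Type w} [Small.{v} ι] :
    HasColimitsOfShape (Discrete ι) D :=
  hasColimitsOfShape_of_equivalence (Discrete.equivalence (equivShrink.{v} ι).symm)

/-- The existence of homotopy colimits of sequences with their main property with respect to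
compact objects. -/
lemma exists_hocolim {X : ℕ → D} (t : ∀ n, X n ⟶ X (n + 1)) :
    ∃ (Z : D) (a : ∀ n, X n ⟶ Z), (∀ n, t n ≫ a (n + 1) = a n) ∧
      (∀ (K : D), CohDer.IsCompactObject K → ∀ f : K ⟶ Z, ∃ (n : ℕ) (g : K ⟶ X n), f = g ≫ a n) ∧
      (∀ (H : Dᵒᵖ ⥤ AddCommGrpCat.{v}) [H.IsHomological]
        [∀ (ι : Type v), PreservesLimitsOfShape (Discrete ι) H]
        (h : ∀ n, H.obj (op (X n))), (∀ n, H.map (t n).op (h (n + 1)) = h n) →
        ∃ z : H.obj (op Z), ∀ n, H.map (a n).op z = h n) := by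
  classical
  have : HasCoproductsOfShape ℕ D := hasColimitsOfShape_small
  let c : Cofan X := Cofan.mk (∐ X) (Sigma.ι X)
  have hc : IsColimit c := coproductIsCoproduct X
  obtain ⟨Z, g, δ, hT⟩ := distinguished_cocone_triangle (𝟙 c.pt - sigma hc t)
  have hzero : (𝟙 c.pt - sigma hc t) ≫ g = 0 := comp_distTriang_mor_zero₁₂ _ hT
  have hcomp : ∀ n, t n ≫ c.inj (n + 1) ≫ g = c.inj n ≫ g := by
    intro n
    have := congr_arg (fun s => c.inj n ≫ s) hzero
    simp only [Preadditive.sub_comp, Category.id_comp, Preadditive.comp_sub, comp_zero,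
      sub_eq_zero] at this
    rw [this, ← Category.assoc, ← Category.assoc, inj_sigma]
  refine ⟨Z, fun n => c.inj n ≫ g, hcomp, ?_, ?_⟩
  · intro K hK f
    -- the shifted cofan
    let c1 : Cofan (fun n => (X n)⟦(1 : ℤ)⟧) :=
      Cofan.mk (c.pt⟦(1 : ℤ)⟧) (fun n => (c.inj n)⟦(1 : ℤ)⟧')
    have hc1 : IsColimit c1 := isColimitCofanMkObjOfIsColimit (shiftFunctor D (1 : ℤ)) _ _ hc
    have hfδ : f ≫ δ = 0 := by
      refine eq_zero_of_comp_eq_self hc1 (fun n => (t n)⟦(1 : ℤ)⟧') ((sigma hc t)⟦(1 : ℤ)⟧') ?_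
        (f ≫ δ) (isFiniteSum_of_isCompactObject hK hc1 _) ?_
      · intro n
        simp only [c1, Cofan.inj, Cofan.mk_ι_app]
        rw [← Functor.map_comp, ← Functor.map_comp]
        congr 1
        exact inj_sigma hc t n
      · have h31 : δ ≫ (𝟙 c.pt - sigma hc t)⟦(1 : ℤ)⟧' = 0 := comp_distTriang_mor_zero₃₁ _ hT
        rw [CategoryTheory.Functor.map_sub, CategoryTheory.Functor.map_id, Preadditive.comp_sub, Category.comp_id,
          sub_eq_zero] at h31
        rw [Category.assoc, ← h31]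
    obtain ⟨F, hF⟩ : ∃ F : K ⟶ c.pt, f = F ≫ g := Triangle.coyoneda_exact₃ _ hT f hfδ
    obtain ⟨s, u, hu⟩ := isFiniteSum_of_isCompactObject hK hc F
    -- choose a bound
    obtain ⟨N, hN⟩ := s.exists_le
    have hex : ∀ n ∈ s, ∃ (v : X n ⟶ X N), v ≫ c.inj N ≫ g = c.inj n ≫ g := fun n hn =>
      exists_trans_of_le t (fun n => c.inj n ≫ g) hcomp (hN n hn)
    choose! v hv using hex
    refine ⟨N, ∑ n ∈ s, u n ≫ v n, ?_⟩
    rw [hF, hu, Preadditive.sum_comp, Preadditive.sum_comp]
    refine Finset.sum_congr rfl (fun n hn => ?_)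
    rw [Category.assoc, Category.assoc, hv n hn]
  · intro H _ _ h hh
    obtain ⟨x, hx⟩ := exists_of_isColimit H hc h
    have hx0 : H.map (𝟙 c.pt - sigma hc t).op x = 0 := by
      refine ext_of_isColimit H hc _ _ (fun n => ?_)
      rw [map_zero]
      rw [← ConcreteCategory.comp_apply, ← Functor.map_comp, ← op_comp, Preadditive.comp_sub,
        Category.comp_id, inj_sigma, op_sub, Functor.map_sub]
      have e1 : (H.map (c.inj n).op - H.map (t n ≫ c.inj (n + 1)).op) x =
        H.map (c.inj n).op x - H.map (t n ≫ c.inj (n + 1)).op x := rfl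
      rw [e1, hx, op_comp, Functor.map_comp, ConcreteCategory.comp_apply, hx, hh, sub_self]
    obtain ⟨z, hz⟩ := exact_elem H _ hT x hx0
    refine ⟨z, fun n => ?_⟩
    rw [op_comp, Functor.map_comp, ConcreteCategory.comp_apply]
    change H.map (c.inj n).op (H.map g.op z) = h n
    erw [hz]
    exact hx n

end Hocolim

section Brown

variable {D : Type u} [Category.{v} D] [Preadditive D] [HasZeroObject D] [HasShift D ℤ]
    [∀ n : ℤ, (shiftFunctor D n).Additive] [Pretriangulated D] [HasCoproducts.{v} D]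
    (H : Dᵒᵖ ⥤ AddCommGrpCat.{v}) [H.IsHomological]
    [∀ (ι : Type v), PreservesLimitsOfShape (Discrete ι) H]

/-- One step of the construction: kill the kernel of `Hom(G k, X) ⟶ H(G k)`. -/
lemma exists_step {κ : Type v} (G : κ → D) (X : D) (h : H.obj (op X)) :
    ∃ (X' : D) (h' : H.obj (op X')) (j : X ⟶ X'), H.map j.op h' = h ∧
      ∀ (k : κ) (f : G k ⟶ X), H.map f.op h = 0 → f ≫ j = 0 := by
  let K : Type v := Σ (k : κ), {f : G k ⟶ X // H.map f.op h = 0}
  let Y : K → D := fun p => G p.1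
  let φ : ∐ Y ⟶ X := Sigma.desc (fun p => p.2.1)
  obtain ⟨X', j, δ, hT⟩ := distinguished_cocone_triangle φ
  have hφ : H.map φ.op h = 0 := by
    refine ext_of_isColimit H (coproductIsCoproduct Y) _ _ (fun p => ?_)
    rw [map_zero, ← ConcreteCategory.comp_apply, ← Functor.map_comp, ← op_comp]
    have : (Cofan.mk (∐ Y) (Sigma.ι Y)).inj p ≫ φ = p.2.1 := by
      simp [φ, Cofan.inj]
    rw [this]
    exact p.2.2
  obtain ⟨h', hh'⟩ := exact_elem H _ hT h hφ
  refine ⟨X', h', j, hh', fun k f hf => ?_⟩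
  have : f = Sigma.ι Y (⟨k, f, hf⟩ : K) ≫ φ := by simp [φ]
  rw [this, Category.assoc]
  have h0 : φ ≫ j = 0 := comp_distTriang_mor_zero₁₂ _ hT
  rw [h0, comp_zero]

/-- Iterating: any `h₀ ∈ H(X₀)` extends along some `X₀ ⟶ X` to `h ∈ H(X)` such that
`Hom(G k, X) ⟶ H(G k)` is injective for all `k`. -/
lemma exists_injective {κ : Type v} (G : κ → D) (hG : ∀ k, CohDer.IsCompactObject (G k))
    (X₀ : D) (h₀ : H.obj (op X₀)) :
    ∃ (X : D) (h : H.obj (op X)) (j : X₀ ⟶ X), H.map j.op h = h₀ ∧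
      ∀ (k : κ) (f : G k ⟶ X), H.map f.op h = 0 → f = 0 := by
  choose nX nh nj hnj hkill using fun (p : Σ X : D, H.obj (op X)) => exists_step H G p.1 p.2
  let S : ℕ → Σ X : D, H.obj (op X) := fun n => Nat.rec ⟨X₀, h₀⟩ (fun _ p => ⟨nX p, nh p⟩) n
  obtain ⟨Z, a, ha, hfac, hH⟩ := exists_hocolim (X := fun n => (S n).1) (fun n => nj (S n))
  obtain ⟨z, hz⟩ := hH H (fun n => (S n).2) (fun n => hnj (S n))
  refine ⟨Z, z, a 0, hz 0, fun k f hf => ?_⟩
  obtain ⟨n, g, rfl⟩ := hfac (G k) (hG k) f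
  rw [op_comp, Functor.map_comp, ConcreteCategory.comp_apply, hz] at hf
  have := hkill (S n) k g hf
  rw [← ha n, ← Category.assoc, this, zero_comp]

/-- There is `h ∈ H(X)` such that `Hom(G k, X) ⟶ H(G k)` is bijective for all `k`. -/
lemma exists_bijective {κ : Type v} (G : κ → D) (hG : ∀ k, CohDer.IsCompactObject (G k)) :
    ∃ (X : D) (h : H.obj (op X)),
      ∀ (k : κ), Function.Bijective (fun f : G k ⟶ X => H.map f.op h) := by
  let K : Type v := Σ (k : κ), H.obj (op (G k))
  let Y : K → D := fun p => G p.1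
  obtain ⟨h₀, hh₀⟩ := exists_of_isColimit H (coproductIsCoproduct Y) (fun p => p.2)
  obtain ⟨X, h, j, hj, hinj⟩ := exists_injective H G hG _ h₀
  refine ⟨X, h, fun k => ⟨fun f g hfg => ?_, fun y => ?_⟩⟩
  · dsimp only at hfg
    rw [← sub_eq_zero]
    apply hinj k
    rw [op_sub, Functor.map_sub]
    change H.map f.op h - H.map g.op h = 0
    rw [hfg, sub_self]
  · refine ⟨(Cofan.mk (∐ Y) (Sigma.ι Y)).inj ⟨k, y⟩ ≫ j, ?_⟩
    dsimp only
    rw [op_comp, Functor.map_comp, ConcreteCategory.comp_apply, hj]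
    exact hh₀ ⟨k, y⟩

/-- A morphism inducing bijections on `Hom((E i)⟦n⟧, -)` for all `i` and `n`, with `E` generating,
is an isomorphism. -/
lemma isIso_of_generates {κ : Type w} (E : κ → D) (hE : CohDer.Generates E) {X Y : D} (j : X ⟶ Y)
    (hj : ∀ (k : κ) (n : ℤ), Function.Bijective (fun f : (E k)⟦n⟧ ⟶ X => f ≫ j)) : IsIso j := by
  obtain ⟨Z, g, δ, hT⟩ := distinguished_cocone_triangle j
  have hZ : IsZero Z := by
    apply hE
    intro k
    have h1 : (preadditiveCoyoneda.obj (op (E k))).homologicalKernel.trW j := by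
      rw [Functor.mem_homologicalKernel_trW_iff]
      intro n
      have hb : Function.Bijective (fun f : E k ⟶ X⟦n⟧ => f ≫ j⟦n⟧') := by
        let adj := (shiftEquiv' D (-n) n (neg_add_cancel n)).toAdjunction
        have e : (fun f : E k ⟶ X⟦n⟧ => f ≫ j⟦n⟧') =
            (adj.homEquiv (E k) Y) ∘ (fun f => f ≫ j) ∘ (adj.homEquiv (E k) X).symm := by
          ext f
          simp only [Function.comp_apply]
          rw [Adjunction.homEquiv_naturality_right, Equiv.apply_symm_apply]
          rfl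
        rw [e]
        exact (adj.homEquiv (E k) Y).bijective.comp
          ((hj k (-n)).comp (adj.homEquiv (E k) X).symm.bijective)
      rw [ConcreteCategory.isIso_iff_bijective]
      exact hb
    have h2 : (preadditiveCoyoneda.obj (op (E k))).homologicalKernel Z :=
      (ObjectProperty.trW_iff_of_distinguished _ _ hT).1 h1
    intro n f
    have h3 : Subsingleton (E k ⟶ Z⟦n⟧) := AddCommGrpCat.subsingleton_of_isZero (h2 n)
    exact h3.elim f 0
  exact (Triangle.isZero₃_iff_isIso₁ _ hT).1 hZ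

/-- Given a "universal" pair `(X, h)` on the shifts of the generators and a morphism `j : X ⟶ X₁`
such that `h` extends to `X₁`, the morphism `j` has a retraction compatible with the extension. -/
lemma exists_retraction {κ : Type v} (E : κ → D) (hE : ∀ k, CohDer.IsCompactObject (E k))
    (hE' : CohDer.Generates E) {X : D} (h : H.obj (op X))
    (hX : ∀ (k : κ) (n : ℤ), Function.Bijective (fun f : (E k)⟦n⟧ ⟶ X => H.map f.op h))
    {X₁ : D} (h₁ : H.obj (op X₁)) (j : X ⟶ X₁) (hj : H.map j.op h₁ = h) :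
    ∃ (r : X₁ ⟶ X), j ≫ r = 𝟙 X ∧ H.map r.op h = h₁ := by
  obtain ⟨X₂, h₂, j₂, hj₂, hinj⟩ := exists_injective H (fun p : κ × ℤ => (E p.1)⟦p.2⟧)
    (fun p => isCompactObject_shift (hE p.1) p.2) X₁ h₁
  have hcomp : H.map (j ≫ j₂).op h₂ = h := by
    rw [op_comp, Functor.map_comp, ConcreteCategory.comp_apply, hj₂, hj]
  have : IsIso (j ≫ j₂) := by
    refine isIso_of_generates E hE' _ (fun k n => ⟨fun f g hfg => ?_, fun f => ?_⟩)
    · apply (hX k n).1
      dsimp only at hfg ⊢
      rw [← hcomp, ← ConcreteCategory.comp_apply, ← ConcreteCategory.comp_apply,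
        ← Functor.map_comp, ← Functor.map_comp, ← op_comp, ← op_comp, hfg]
    · obtain ⟨g, hg⟩ := (hX k n).2 (H.map f.op h₂)
      refine ⟨g, ?_⟩
      dsimp only at hg ⊢
      rw [← sub_eq_zero]
      apply hinj (k, n)
      rw [op_sub, Functor.map_sub]
      change H.map (g ≫ j ≫ j₂).op h₂ - H.map f.op h₂ = 0
      rw [op_comp, Functor.map_comp, ConcreteCategory.comp_apply, hcomp, hg, sub_self]
  refine ⟨j₂ ≫ inv (j ≫ j₂), ?_, ?_⟩
  · rw [← Category.assoc, IsIso.hom_inv_id]
  · have h3 : H.map (inv (j ≫ j₂)).op h = h₂ := by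
      rw [← hcomp, ← ConcreteCategory.comp_apply, ← Functor.map_comp, ← op_comp,
        IsIso.inv_hom_id, op_id, CategoryTheory.Functor.map_id, ConcreteCategory.id_apply]
    rw [op_comp, Functor.map_comp, ConcreteCategory.comp_apply, h3, hj₂]

/-- **Brown representability**, elementary form. -/
theorem exists_universal (hD : CohDer.IsCompactlyGenerated D) :
    ∃ (X : D) (h : H.obj (op X)),
      ∀ (Y : D), Function.Bijective (fun f : Y ⟶ X => H.map f.op h) := by
  obtain ⟨κ, E, hE, hE'⟩ := hD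
  obtain ⟨X, h, hX⟩ := exists_bijective H (fun p : κ × ℤ => (E p.1)⟦p.2⟧)
    (fun p => isCompactObject_shift (hE p.1) p.2)
  refine ⟨X, h, fun Y => ⟨?_, ?_⟩⟩
  · intro f g hfg
    dsimp only at hfg
    obtain ⟨Z, j, δ, hT⟩ := distinguished_cocone_triangle (f - g)
    have h0 : H.map (f - g).op h = 0 := by
      rw [op_sub, Functor.map_sub]
      change H.map f.op h - H.map g.op h = 0
      rw [hfg, sub_self]
    obtain ⟨z, hz⟩ : ∃ z : H.obj (op Z), H.map j.op z = h := exact_elem H _ hT h h0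
    obtain ⟨r, hr, -⟩ := exists_retraction H E hE hE' h (fun k n => hX (k, n)) z j hz
    have h1 : (f - g) ≫ j = 0 := comp_distTriang_mor_zero₁₂ _ hT
    have h2 : (f - g) ≫ j ≫ r = 0 := by rw [← Category.assoc, h1, zero_comp]
    rw [hr, Category.comp_id] at h2
    exact sub_eq_zero.1 h2
  · intro y
    let h₁ : H.obj (op (X ⊞ Y)) := H.map (biprod.fst : X ⊞ Y ⟶ X).op h +
      H.map (biprod.snd : X ⊞ Y ⟶ Y).op y
    have hl : H.map (biprod.inl : X ⟶ X ⊞ Y).op h₁ = h := by
      simp only [h₁, map_add, ← ConcreteCategory.comp_apply, ← Functor.map_comp, ← op_comp]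
      simp
    have hr : H.map (biprod.inr : Y ⟶ X ⊞ Y).op h₁ = y := by
      simp only [h₁, map_add, ← ConcreteCategory.comp_apply, ← Functor.map_comp, ← op_comp]
      simp
    obtain ⟨r, -, hr'⟩ := exists_retraction H E hE hE' h (fun k n => hX (k, n)) h₁ biprod.inl hl
    refine ⟨biprod.inr ≫ r, ?_⟩
    dsimp only
    rw [op_comp, Functor.map_comp, ConcreteCategory.comp_apply, hr', hr]

theorem isRepresentable (hD : CohDer.IsCompactlyGenerated D) :
    (H ⋙ forget AddCommGrpCat.{v}).IsRepresentable := by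
  obtain ⟨X, h, hX⟩ := exists_universal H hD
  refine ⟨X, ⟨{ homEquiv := fun {Y} => Equiv.ofBijective _ (hX Y), homEquiv_comp := ?_ }⟩⟩
  intro Y Y' f g
  simp only [Equiv.ofBijective_apply, op_comp, Functor.map_comp]
  rfl

end Brown

section Adjoint

variable {D : Type u} [Category.{v} D] [Preadditive D] [HasZeroObject D] [HasShift D ℤ]
    [∀ n : ℤ, (shiftFunctor D n).Additive] [Pretriangulated D] [HasCoproducts.{v} D]
    {D' : Type u'} [Category.{v} D'] [Preadditive D'] [HasZeroObject D'] [HasShift D' ℤ]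
    [∀ n : ℤ, (shiftFunctor D' n).Additive] [Pretriangulated D']

theorem isLeftAdjoint (hD : CohDer.IsCompactlyGenerated D) (F : D ⥤ D') [F.CommShift ℤ]
    [F.IsTriangulated] [∀ (ι : Type v), PreservesColimitsOfShape (Discrete ι) F] :
    F.IsLeftAdjoint := by
  rw [Functor.isLeftAdjoint_iff_rightAdjointObjIsDefined_eq_top]
  ext Y
  simp only [Pi.top_apply, «Prop».top_eq_true, iff_true]
  rw [Functor.rightAdjointObjIsDefined_iff]
  have h1 : ∀ (ι : Type v), PreservesLimitsOfShape (Discrete ι) F.op := fun ι => by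
    have : PreservesColimitsOfShape (Discrete ι)ᵒᵖ F :=
      preservesColimitsOfShape_of_equiv (Discrete.opposite ι).symm F
    exact preservesLimitsOfShape_op _ F
  have h2 : ∀ (ι : Type v), PreservesLimitsOfShape (Discrete ι)
      (F.op ⋙ preadditiveYoneda.obj Y) := fun ι => inferInstance
  exact isRepresentable (F.op ⋙ preadditiveYoneda.obj Y) hD

end Adjoint

end Groth.Agent.CohtopA.Brown
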