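import Groth.Agent.CohtopA.Compact
import Groth.Agent.CohtopA.Brown
import Mathlib.CategoryTheory.EssentiallySmall

/-!
# Brown representability, universe flexible version

Here `D : Type u` with `Category.{v} D`, `D` is locally `w`-small, has coproducts indexed by
`Type w`, and we are given a `w`-small family of objects compact with respect to such coproducts.
-/

set_option autoImplicit false

universe w t v u v' u' v'' u''

open CategoryTheory CategoryTheory.Limits CategoryTheory.Pretriangulated ZeroObject Opposite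
open CategoryTheory.Pretriangulated.Opposite

namespace Groth.Agent.CohtopA.BrownW

open Groth.Agent.CohtopA.Compact

section Compact

variable {D : Type u} [Category.{v} D] [Preadditive D]

/-- Compactness with respect to `Type w`-indexed coproducts: every morphism to (the point of) a
colimit cofan is a finite sum of morphisms through the summands. -/
def IsCompactW (K : D) : Prop :=
  ∀ (ι : Type w) (X : ι → D) (c : Cofan X) (_ : IsColimit c) (f : K ⟶ c.pt), IsFiniteSum c f

lemma isCompactW_of_isCompactObject [HasCoproducts.{v} D] {K : D}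
    (hK : CohDer.IsCompactObject K) : IsCompactW.{v} K :=
  fun _ _ _ hc f => isFiniteSum_of_isCompactObject hK hc f

/-- A single colimit cofan for each family suffices. -/
lemma isCompactW_of_exists {K : D}
    (h : ∀ (ι : Type w) (X : ι → D), ∃ (c : Cofan X) (_ : IsColimit c),
      ∀ (f : K ⟶ c.pt), IsFiniteSum c f) : IsCompactW.{w} K := by
  intro ι X c hc f
  obtain ⟨c', hc', h'⟩ := h ι X
  exact IsFiniteSum.of_iso hc' hc h' f

lemma isFiniteSum_of_isCompactW {K : D} (hK : IsCompactW.{w} K)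
    {ι : Type t} [Small.{w} ι] {X : ι → D} {c : Cofan X} (hc : IsColimit c) (f : K ⟶ c.pt) :
    IsFiniteSum c f := by
  classical
  let e : Shrink.{w} ι ≃ ι := (equivShrink ι).symm
  let X' : Shrink.{w} ι → D := fun i => X (e i)
  let c' : Cofan X' := Cofan.mk c.pt (fun i => c.inj (e i))
  have hc' : IsColimit c' := by
    refine Cofan.IsColimit.mk _ (fun s => Cofan.IsColimit.desc hc
      (fun i => eqToHom (by simp [X']) ≫ s.inj (e.symm i))) ?_ ?_
    · intro s j
      simp only [c', Cofan.inj, Cofan.mk_ι_app]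
      have := Cofan.IsColimit.fac hc (fun i => eqToHom (by simp [X']) ≫ s.inj (e.symm i)) (e j)
      simp only [Cofan.inj] at this
      refine this.trans ?_
      have h2 : ∀ (k : Shrink.{w} ι) (hk : k = j),
          eqToHom (by rw [hk]) ≫ s.ι.app ⟨k⟩ = s.ι.app ⟨j⟩ := by
        rintro k rfl
        simp
      exact h2 _ (by simp)
    · intro s m hm
      refine Cofan.IsColimit.hom_ext hc _ _ (fun i => ?_)
      rw [Cofan.IsColimit.fac]
      have h2 : ∀ (k : ι) (hk : i = k), eqToHom (by rw [hk]) ≫ c.inj k = c.inj i := by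
        rintro k rfl
        simp
      rw [← hm, ← Category.assoc]
      congr 1
      exact (h2 _ (by simp)).symm
  obtain ⟨s, g, hg⟩ := hK _ X' c' hc' f
  rw [hg]
  clear hg
  induction s using Finset.induction_on with
  | empty => simpa using IsFiniteSum.zero c
  | insert a s ha ih =>
    rw [Finset.sum_insert ha]
    exact (IsFiniteSum.single c (e a) (g a)).add ih

end Compact

section CompactAdj

variable {D : Type u} [Category.{v} D] [Preadditive D]
  {D' : Type u'} [Category.{v'} D'] [Preadditive D']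

/-- If `F ⊣ G` with `G` commuting with coproducts, then `F` preserves compact
objects. -/
lemma isCompactW_of_adj {F : D ⥤ D'} {G : D' ⥤ D} (adj : F ⊣ G) [G.Additive]
    [∀ (ι : Type w), PreservesColimitsOfShape (Discrete ι) G] {K : D}
    (hK : IsCompactW.{w} K) : IsCompactW.{w} (F.obj K) := by
  intro ι X c' hc' f
  let c : Cofan (fun i => G.obj (X i)) := Cofan.mk (G.obj c'.pt) (fun i => G.map (c'.inj i))
  have hc : IsColimit c := isColimitCofanMkObjOfIsColimit G _ _ hc'
  obtain ⟨s, g, hg⟩ := hK _ _ c hc (adj.homEquiv _ _ f)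
  refine ⟨s, fun i => (adj.homEquiv _ _).symm (g i), ?_⟩
  apply (adj.homEquiv _ _).injective
  rw [hg]
  have : ∀ (t : Finset ι), (adj.homEquiv K c'.pt) (∑ i ∈ t, (adj.homEquiv _ _).symm (g i) ≫
      c'.inj i) = ∑ i ∈ t, g i ≫ c.inj i := by
    classical
    intro t
    induction t using Finset.induction_on with
    | empty => simp [Adjunction.homEquiv_unit]
    | insert a t ha ih =>
      rw [Finset.sum_insert ha, Finset.sum_insert ha, ← ih]
      simp only [Adjunction.homEquiv_unit, Functor.map_add, Preadditive.comp_add]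
      congr 1
      simp [c, Cofan.inj, Adjunction.homEquiv_counit]
  exact (this s).symm

lemma isCompactW_of_equivalence (e : D ≌ D') [e.functor.Additive] {K : D}
    (hK : IsCompactW.{w} K) : IsCompactW.{w} (e.functor.obj K) :=
  isCompactW_of_adj e.toAdjunction hK

lemma isCompactW_of_iso {K L : D} (e : K ≅ L) (hK : IsCompactW.{w} K) : IsCompactW.{w} L := by
  intro ι X c hc f
  have := (hK ι X c hc (e.hom ≫ f)).precomp e.inv
  simpa using this

lemma isCompactW_zero {Z : D} (hZ : IsZero Z) : IsCompactW.{w} Z := by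
  intro ι X c hc f
  rw [hZ.eq_of_src f 0]
  exact IsFiniteSum.zero _

lemma isCompactW_shift [HasShift D ℤ] [∀ n : ℤ, (shiftFunctor D n).Additive] {K : D}
    (hK : IsCompactW.{w} K) (n : ℤ) : IsCompactW.{w} (K⟦n⟧) := by
  have : (shiftEquiv D n).functor.Additive := inferInstanceAs (shiftFunctor D n).Additive
  exact isCompactW_of_equivalence (shiftEquiv D n) hK

end CompactAdj

section CompactTriangle

variable {D : Type u} [Category.{v} D] [Preadditive D] [HasZeroObject D] [HasShift D ℤ]
    [∀ n : ℤ, (shiftFunctor D n).Additive] [Pretriangulated D]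

lemma isCompactW_ext₂ (T : Triangle D) (hT : T ∈ distTriang D)
    (h₁ : IsCompactW.{w} T.obj₁) (h₃ : IsCompactW.{w} T.obj₃) :
    IsCompactW.{w} T.obj₂ := by
  intro ι X c hc f
  obtain ⟨s, hs, hs'⟩ := IsFiniteSum.eq_sum_proj hc (h₁ ι X c hc (T.mor₁ ≫ f))
  let y : T.obj₂ ⟶ c.pt := ∑ i ∈ s, (f ≫ proj hc i) ≫ c.inj i
  have hy : T.mor₁ ≫ (f - y) = 0 := by
    rw [Preadditive.comp_sub, sub_eq_zero]
    conv_lhs => rw [hs']
    simp only [y, Preadditive.comp_sum, Category.assoc]
  obtain ⟨z, hz⟩ := Triangle.yoneda_exact₂ T hT _ hy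
  have hf : f = y + T.mor₂ ≫ z := by rw [← hz]; abel
  rw [hf]
  exact IsFiniteSum.add ⟨s, _, rfl⟩ ((h₃ ι X c hc z).precomp _)

lemma isTriangulated_isCompactW :
    ObjectProperty.IsTriangulated (fun K : D => IsCompactW.{w} K) where
  exists_zero := ⟨0, isZero_zero D, isCompactW_zero (isZero_zero D)⟩
  isStableUnderShiftBy n := ⟨fun _ hK => isCompactW_shift hK n⟩
  ext₂' T hT h₁ h₃ := ObjectProperty.le_isoClosure _ _ (isCompactW_ext₂ T hT h₁ h₃)

end CompactTriangle

section Products

variable {D : Type u} [Category.{v} D]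
  (H : Dᵒᵖ ⥤ AddCommGrpCat.{v'}) [∀ (ι : Type w), PreservesLimitsOfShape (Discrete ι) H]

include H in
lemma preservesLimitsOfShape_small {ι : Type t} [Small.{w} ι] :
    PreservesLimitsOfShape (Discrete ι) H :=
  preservesLimitsOfShape_of_equiv (Discrete.equivalence (equivShrink.{w} ι).symm) H

lemma existsUnique_of_isColimit {ι : Type t} [Small.{w} ι] {X : ι → D} {c : Cofan X}
    (hc : IsColimit c) (e : ∀ i, H.obj (op (X i))) :
    ∃! x : H.obj (op c.pt), ∀ i, H.map (c.inj i).op x = e i := by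
  have := preservesLimitsOfShape_small.{w} H (ι := ι)
  have h1 : IsLimit (Cofan.op c) := Cofan.IsColimit.op hc
  have h2 := isLimitOfPreserves (H ⋙ forget AddCommGrpCat.{v'}) h1
  obtain ⟨x, hx, hx'⟩ := (Types.isLimit_iff _).1 ⟨h2⟩
    (fun j => e j.as) (by
      rintro ⟨j⟩ ⟨k⟩ ⟨⟨⟨⟩⟩⟩
      change ((Discrete.functor fun i => op (X i)) ⋙ H ⋙ forget AddCommGrpCat.{v'}).map (𝟙 _) _ = _
      rw [CategoryTheory.Functor.map_id]
      rfl)
  refine ⟨x, fun i => hx ⟨i⟩, fun y hy => hx' y ?_⟩
  rintro ⟨i⟩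
  exact hy i

lemma ext_of_isColimit {ι : Type t} [Small.{w} ι] {X : ι → D} {c : Cofan X}
    (hc : IsColimit c) (x y : H.obj (op c.pt))
    (h : ∀ i, H.map (c.inj i).op x = H.map (c.inj i).op y) : x = y :=
  (existsUnique_of_isColimit.{w} H hc (fun i => H.map (c.inj i).op y)).unique h (fun _ => rfl)

lemma exists_of_isColimit {ι : Type t} [Small.{w} ι] {X : ι → D} {c : Cofan X}
    (hc : IsColimit c) (e : ∀ i, H.obj (op (X i))) :
    ∃ x : H.obj (op c.pt), ∀ i, H.map (c.inj i).op x = e i :=
  (existsUnique_of_isColimit.{w} H hc e).exists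

end Products

section Exact

variable {D : Type u} [Category.{v} D] [Preadditive D] [HasZeroObject D] [HasShift D ℤ]
    [∀ n : ℤ, (shiftFunctor D n).Additive] [Pretriangulated D]
    (H : Dᵒᵖ ⥤ AddCommGrpCat.{v'}) [H.IsHomological]

lemma exact_elem (T : Triangle D) (hT : T ∈ distTriang D) (y : H.obj (op T.obj₂))
    (hy : H.map T.mor₁.op y = 0) : ∃ z : H.obj (op T.obj₃), H.map T.mor₂.op z = y := by
  have := H.map_distinguished_op_exact T hT
  rw [ShortComplex.ab_exact_iff] at this
  exact this y hy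

end Exact

section Hocolim

variable {D : Type u} [Category.{v} D] [Preadditive D] [HasZeroObject D] [HasShift D ℤ]
    [∀ n : ℤ, (shiftFunctor D n).Additive] [Pretriangulated D]

lemma hasColimitsOfShape_small' (D : Type u) [Category.{v} D] [HasCoproducts.{w} D]
    {ι : Type t} [Small.{w} ι] : HasColimitsOfShape (Discrete ι) D :=
  hasColimitsOfShape_of_equivalence (Discrete.equivalence (equivShrink.{w} ι).symm)

/-- Data of a telescope (homotopy colimit) of a sequence. -/
structure Telescope {X : ℕ → D} (t : ∀ n, X n ⟶ X (n + 1)) where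
  /-- the coproduct cofan -/
  cofan : Cofan X
  /-- it is a colimit -/
  isColimit : IsColimit cofan
  /-- the homotopy colimit -/
  pt : D
  /-- the projection from the coproduct -/
  π : cofan.pt ⟶ pt
  /-- the boundary map -/
  δ : pt ⟶ cofan.pt⟦(1 : ℤ)⟧
  /-- the telescope triangle -/
  mem : Triangle.mk (𝟙 cofan.pt - Brown.sigma isColimit t) π δ ∈ distTriang D

lemma nonempty_telescope [HasCoproducts.{w} D] {X : ℕ → D} (t : ∀ n, X n ⟶ X (n + 1)) :
    Nonempty (Telescope t) := by
  have : HasCoproductsOfShape ℕ D := hasColimitsOfShape_small'.{w} D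
  let c : Cofan X := Cofan.mk (∐ X) (Sigma.ι X)
  have hc : IsColimit c := coproductIsCoproduct X
  obtain ⟨Z, g, δ, hT⟩ := distinguished_cocone_triangle (𝟙 c.pt - Brown.sigma hc t)
  exact ⟨⟨c, hc, Z, g, δ, hT⟩⟩

namespace Telescope

variable {X : ℕ → D} {t : ∀ n, X n ⟶ X (n + 1)} (T : Telescope t)

/-- The canonical maps to the homotopy colimit. -/
def a (n : ℕ) : X n ⟶ T.pt := T.cofan.inj n ≫ T.π

lemma t_a (n : ℕ) : t n ≫ T.a (n + 1) = T.a n := by
  have hzero : (𝟙 T.cofan.pt - Brown.sigma T.isColimit t) ≫ T.π = 0 :=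
    comp_distTriang_mor_zero₁₂ _ T.mem
  have := congr_arg (fun s => T.cofan.inj n ≫ s) hzero
  simp only [Preadditive.sub_comp, Category.id_comp, Preadditive.comp_sub, comp_zero,
    sub_eq_zero] at this
  rw [a, a, this, ← Category.assoc, ← Category.assoc, Brown.inj_sigma]

/-- Morphisms from compact objects factor through a finite stage. -/
lemma exists_fac {K : D} (hK : IsCompactW.{w} K) (f : K ⟶ T.pt) :
    ∃ (n : ℕ) (g : K ⟶ X n), f = g ≫ T.a n := by
  classical
  let c1 : Cofan (fun n => (X n)⟦(1 : ℤ)⟧) :=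
    Cofan.mk (T.cofan.pt⟦(1 : ℤ)⟧) (fun n => (T.cofan.inj n)⟦(1 : ℤ)⟧')
  have hc1 : IsColimit c1 :=
    isColimitCofanMkObjOfIsColimit (shiftFunctor D (1 : ℤ)) _ _ T.isColimit
  have hfδ : f ≫ T.δ = 0 := by
    refine Brown.eq_zero_of_comp_eq_self hc1 (fun n => (t n)⟦(1 : ℤ)⟧')
      ((Brown.sigma T.isColimit t)⟦(1 : ℤ)⟧') ?_
      (f ≫ T.δ) (isFiniteSum_of_isCompactW hK hc1 _) ?_
    · intro n
      simp only [c1, Cofan.inj, Cofan.mk_ι_app]
      rw [← Functor.map_comp, ← Functor.map_comp]
      congr 1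
      exact Brown.inj_sigma T.isColimit t n
    · have h31 : T.δ ≫ (𝟙 T.cofan.pt - Brown.sigma T.isColimit t)⟦(1 : ℤ)⟧' = 0 :=
        comp_distTriang_mor_zero₃₁ _ T.mem
      rw [CategoryTheory.Functor.map_sub, CategoryTheory.Functor.map_id, Preadditive.comp_sub,
        Category.comp_id, sub_eq_zero] at h31
      rw [Category.assoc, ← h31]
  obtain ⟨F, hF⟩ : ∃ F : K ⟶ T.cofan.pt, f = F ≫ T.π := Triangle.coyoneda_exact₃ _ T.mem f hfδ
  obtain ⟨s, u, hu⟩ := isFiniteSum_of_isCompactW hK T.isColimit F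
  obtain ⟨N, hN⟩ := s.exists_le
  have hex : ∀ n ∈ s, ∃ (v : X n ⟶ X N), v ≫ T.a N = T.a n := fun n hn =>
    Brown.exists_trans_of_le t T.a T.t_a (hN n hn)
  choose! v hv using hex
  refine ⟨N, ∑ n ∈ s, u n ≫ v n, ?_⟩
  rw [hF, hu, Preadditive.sum_comp, Preadditive.sum_comp]
  refine Finset.sum_congr rfl (fun n hn => ?_)
  rw [Category.assoc, Category.assoc, hv n hn]
  rfl

/-- A morphism from a compact object to a stage which dies in the homotopy colimit dies at a
finite stage. -/
lemma exists_eq_zero {K : D} (hK : IsCompactW.{w} K) (n : ℕ) (g : K ⟶ X n)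
    (hg : g ≫ T.a n = 0) :
    ∃ (k : ℕ), g ≫ Brown.trans t n k = 0 := by
  classical
  obtain ⟨y, hy⟩ : ∃ y : K ⟶ T.cofan.pt, g ≫ T.cofan.inj n =
      y ≫ (𝟙 T.cofan.pt - Brown.sigma T.isColimit t) :=
    Triangle.coyoneda_exact₂ _ T.mem (g ≫ T.cofan.inj n) (by
      rw [Category.assoc]
      exact hg)
  obtain ⟨s, hs, hs'⟩ := (isFiniteSum_of_isCompactW hK T.isColimit y).eq_sum_proj T.isColimit
  have h0 : Brown.sigma T.isColimit t ≫ proj T.isColimit 0 = 0 := by
    refine Cofan.IsColimit.hom_ext T.isColimit _ _ (fun n => ?_)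
    rw [← Category.assoc, Brown.inj_sigma, Category.assoc,
      inj_proj_of_ne T.isColimit (n + 1) 0 (by simp)]
    simp
  have hsucc : ∀ n, Brown.sigma T.isColimit t ≫ proj T.isColimit (n + 1) =
      proj T.isColimit n ≫ t n := by
    intro n
    refine Cofan.IsColimit.hom_ext T.isColimit _ _ (fun m => ?_)
    rw [← Category.assoc, Brown.inj_sigma, Category.assoc,
      ← Category.assoc (T.cofan.inj m) (proj T.isColimit n)]
    by_cases h : m = n
    · subst h
      rw [inj_proj_self, inj_proj_self]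
      simp
    · rw [inj_proj_of_ne T.isColimit _ _ h,
        inj_proj_of_ne T.isColimit (m + 1) (n + 1) (by simpa using h)]
      simp
  -- components of `y`
  have hy0 : ∀ m, m < n → y ≫ proj T.isColimit m = 0 := by
    intro m
    induction m with
    | zero =>
      intro hm
      have := congr_arg (fun s => s ≫ proj T.isColimit 0) hy
      simp only [Category.assoc, Preadditive.sub_comp, Preadditive.comp_sub, Category.id_comp,
        h0, comp_zero, sub_zero, inj_proj_of_ne T.isColimit n 0 (by lia)] at this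
      exact this.symm
    | succ m ih =>
      intro hm
      have := congr_arg (fun s => s ≫ proj T.isColimit (m + 1)) hy
      simp only [Category.assoc, Preadditive.sub_comp, Preadditive.comp_sub, Category.id_comp,
        hsucc, comp_zero, inj_proj_of_ne T.isColimit n (m + 1) (by lia)] at this
      rw [eq_comm, sub_eq_zero, ← Category.assoc, ih (by lia), zero_comp] at this
      exact this
  have hyn : y ≫ proj T.isColimit n = g := by
    have := congr_arg (fun s => s ≫ proj T.isColimit n) hy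
    simp only [Category.assoc, Preadditive.sub_comp, Preadditive.comp_sub, Category.id_comp,
      inj_proj_self, Category.comp_id] at this
    rcases n with _ | n
    · rw [h0, comp_zero, sub_zero] at this
      exact this.symm
    · rw [hsucc, ← Category.assoc, hy0 n (by lia), zero_comp, sub_zero] at this
      exact this.symm
  have hyk : ∀ k, y ≫ proj T.isColimit (n + k) = g ≫ Brown.trans t n k := by
    intro k
    induction k with
    | zero =>
      change y ≫ proj T.isColimit n = g ≫ 𝟙 _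
      rw [hyn, Category.comp_id]
    | succ k ih =>
      have := congr_arg (fun s => s ≫ proj T.isColimit (n + k + 1)) hy
      simp only [Category.assoc, Preadditive.sub_comp, Preadditive.comp_sub, Category.id_comp,
        hsucc, inj_proj_of_ne T.isColimit n (n + k + 1) (by lia), comp_zero] at this
      rw [eq_comm, sub_eq_zero, ← Category.assoc, ih] at this
      change y ≫ proj T.isColimit (n + k + 1) = g ≫ Brown.trans t n k ≫ t (n + k)
      rw [this, Category.assoc]
  obtain ⟨N, hN⟩ := s.exists_le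
  refine ⟨N + 1, ?_⟩
  rw [← hyk]
  apply hs
  intro h
  have := hN _ h
  lia

/-- Compatible elements of a cohomological functor lift to the homotopy colimit. -/
lemma exists_elem (H : Dᵒᵖ ⥤ AddCommGrpCat.{v'}) [H.IsHomological]
    [∀ (ι : Type w), PreservesLimitsOfShape (Discrete ι) H]
    (h : ∀ n, H.obj (op (X n))) (hh : ∀ n, H.map (t n).op (h (n + 1)) = h n) :
    ∃ z : H.obj (op T.pt), ∀ n, H.map (T.a n).op z = h n := by
  obtain ⟨x, hx⟩ := exists_of_isColimit.{w} H T.isColimit h
  have hx0 : H.map (𝟙 T.cofan.pt - Brown.sigma T.isColimit t).op x = 0 := by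
    refine ext_of_isColimit.{w} H T.isColimit _ _ (fun n => ?_)
    rw [map_zero]
    rw [← ConcreteCategory.comp_apply, ← Functor.map_comp, ← op_comp, Preadditive.comp_sub,
      Category.comp_id, Brown.inj_sigma, op_sub, Functor.map_sub]
    have e1 : (H.map (T.cofan.inj n).op - H.map (t n ≫ T.cofan.inj (n + 1)).op) x =
      H.map (T.cofan.inj n).op x - H.map (t n ≫ T.cofan.inj (n + 1)).op x := rfl
    rw [e1, hx, op_comp, Functor.map_comp, ConcreteCategory.comp_apply, hx, hh, sub_self]
  obtain ⟨z, hz⟩ : ∃ z : H.obj (op T.pt), H.map T.π.op z = x := exact_elem H _ T.mem x hx0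
  refine ⟨z, fun n => ?_⟩
  rw [a, op_comp, Functor.map_comp, ConcreteCategory.comp_apply, hz]
  exact hx n

end Telescope

end Hocolim

section Brown

variable {D : Type u} [Category.{v} D] [Preadditive D] [HasZeroObject D] [HasShift D ℤ]
    [∀ n : ℤ, (shiftFunctor D n).Additive] [Pretriangulated D] [HasCoproducts.{w} D]
    (H : Dᵒᵖ ⥤ AddCommGrpCat.{v'}) [H.IsHomological]
    [∀ (ι : Type w), PreservesLimitsOfShape (Discrete ι) H]

/-- One step of the construction: kill the kernel of `Hom(G k, X) ⟶ H(G k)`. -/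
lemma exists_step [LocallySmall.{w} D] {κ : Type t} [Small.{w} κ] (G : κ → D) (X : D)
    (h : H.obj (op X)) :
    ∃ (X' : D) (h' : H.obj (op X')) (j : X ⟶ X'), H.map j.op h' = h ∧
      ∀ (k : κ) (f : G k ⟶ X), H.map f.op h = 0 → f ≫ j = 0 := by
  let K : Type _ := Σ (k : κ), {f : G k ⟶ X // H.map f.op h = 0}
  let Y : K → D := fun p => G p.1
  have : Small.{w} K := inferInstance
  have : HasCoproductsOfShape K D := hasColimitsOfShape_small'.{w} D
  let φ : ∐ Y ⟶ X := Sigma.desc (fun p => p.2.1)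
  obtain ⟨X', j, δ, hT⟩ := distinguished_cocone_triangle φ
  have hφ : H.map φ.op h = 0 := by
    refine ext_of_isColimit.{w} H (coproductIsCoproduct Y) _ _ (fun p => ?_)
    rw [map_zero, ← ConcreteCategory.comp_apply, ← Functor.map_comp, ← op_comp]
    have : (Cofan.mk (∐ Y) (Sigma.ι Y)).inj p ≫ φ = p.2.1 := by
      simp [φ, Cofan.inj]
    rw [this]
    exact p.2.2
  obtain ⟨h', hh'⟩ := exact_elem H _ hT h hφ
  refine ⟨X', h', j, hh', fun k f hf => ?_⟩
  have : f = Sigma.ι Y (⟨k, f, hf⟩ : K) ≫ φ := by simp [φ]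
  rw [this, Category.assoc]
  have h0 : φ ≫ j = 0 := comp_distTriang_mor_zero₁₂ _ hT
  rw [h0, comp_zero]

/-- Iterating: any `h₀ ∈ H(X₀)` extends along some `X₀ ⟶ X` to `h ∈ H(X)` such that
`Hom(G k, X) ⟶ H(G k)` is injective for all `k`. -/
lemma exists_injective [LocallySmall.{w} D] {κ : Type t} [Small.{w} κ] (G : κ → D)
    (hG : ∀ k, IsCompactW.{w} (G k)) (X₀ : D) (h₀ : H.obj (op X₀)) :
    ∃ (X : D) (h : H.obj (op X)) (j : X₀ ⟶ X), H.map j.op h = h₀ ∧
      ∀ (k : κ) (f : G k ⟶ X), H.map f.op h = 0 → f = 0 := by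
  choose nX nh nj hnj hkill using fun (p : Σ X : D, H.obj (op X)) => exists_step.{w} H G p.1 p.2
  let S : ℕ → Σ X : D, H.obj (op X) := fun n => Nat.rec ⟨X₀, h₀⟩ (fun _ p => ⟨nX p, nh p⟩) n
  obtain ⟨T⟩ := nonempty_telescope.{w} (X := fun n => (S n).1) (fun n => nj (S n))
  obtain ⟨z, hz⟩ := T.exists_elem H (fun n => (S n).2) (fun n => hnj (S n))
  refine ⟨T.pt, z, T.a 0, hz 0, fun k f hf => ?_⟩
  obtain ⟨n, g, rfl⟩ := T.exists_fac (hG k) f
  rw [op_comp, Functor.map_comp, ConcreteCategory.comp_apply, hz] at hf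
  have := hkill (S n) k g hf
  rw [← T.t_a n, ← Category.assoc, this, zero_comp]

/-- There is `h ∈ H(X)` such that `Hom(G k, X) ⟶ H(G k)` is bijective for all `k`. -/
lemma exists_bijective [LocallySmall.{w} D] {κ : Type t} [Small.{w} κ] (G : κ → D)
    (hG : ∀ k, IsCompactW.{w} (G k)) (hH : ∀ k, Small.{w} (H.obj (op (G k)))) :
    ∃ (X : D) (h : H.obj (op X)),
      ∀ (k : κ), Function.Bijective (fun f : G k ⟶ X => H.map f.op h) := by
  let K : Type _ := Σ (k : κ), H.obj (op (G k))
  let Y : K → D := fun p => G p.1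
  have : Small.{w} K := inferInstance
  have : HasCoproductsOfShape K D := hasColimitsOfShape_small'.{w} D
  obtain ⟨h₀, hh₀⟩ := exists_of_isColimit.{w} H (coproductIsCoproduct Y) (fun p => p.2)
  obtain ⟨X, h, j, hj, hinj⟩ := exists_injective.{w} H G hG _ h₀
  refine ⟨X, h, fun k => ⟨fun f g hfg => ?_, fun y => ?_⟩⟩
  · dsimp only at hfg
    rw [← sub_eq_zero]
    apply hinj k
    rw [op_sub, Functor.map_sub]
    change H.map f.op h - H.map g.op h = 0
    rw [hfg, sub_self]
  · refine ⟨(Cofan.mk (∐ Y) (Sigma.ι Y)).inj ⟨k, y⟩ ≫ j, ?_⟩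
    dsimp only
    rw [op_comp, Functor.map_comp, ConcreteCategory.comp_apply, hj]
    exact hh₀ ⟨k, y⟩

end Brown

section Iso

variable {D : Type u} [Category.{v} D] [Preadditive D] [HasZeroObject D] [HasShift D ℤ]
    [∀ n : ℤ, (shiftFunctor D n).Additive] [Pretriangulated D]

/-- A morphism inducing bijections on `Hom((E i)⟦n⟧, -)` for all `i` and `n`, with `E` generating,
is an isomorphism. -/
lemma isIso_of_generates {κ : Type t} (E : κ → D) (hE : CohDer.Generates E) {X Y : D} (j : X ⟶ Y)
    (hj : ∀ (k : κ) (n : ℤ), Function.Bijective (fun f : (E k)⟦n⟧ ⟶ X => f ≫ j)) : IsIso j := by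
  obtain ⟨Z, g, δ, hT⟩ := distinguished_cocone_triangle j
  have hZ : IsZero Z := by
    apply hE
    intro k
    have h1 : (preadditiveCoyoneda.obj (op (E k))).homologicalKernel.trW j := by
      rw [Functor.mem_homologicalKernel_trW_iff]
      intro n
      have hb : Function.Bijective (fun f : E k ⟶ X⟦n⟧ => f ≫ j⟦n⟧') := by
        let adj := (shiftEquiv' D (-n) n (neg_add_cancel n)).toAdjunction
        have e : (fun f : E k ⟶ X⟦n⟧ => f ≫ j⟦n⟧') =
            (adj.homEquiv (E k) Y) ∘ (fun f => f ≫ j) ∘ (adj.homEquiv (E k) X).symm := by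
          ext f
          simp only [Function.comp_apply]
          rw [Adjunction.homEquiv_naturality_right, Equiv.apply_symm_apply]
          rfl
        rw [e]
        exact (adj.homEquiv (E k) Y).bijective.comp
          ((hj k (-n)).comp (adj.homEquiv (E k) X).symm.bijective)
      rw [ConcreteCategory.isIso_iff_bijective]
      exact hb
    have h2 : (preadditiveCoyoneda.obj (op (E k))).homologicalKernel Z :=
      (ObjectProperty.trW_iff_of_distinguished _ _ hT).1 h1
    intro n f
    have h3 : Subsingleton (E k ⟶ Z⟦n⟧) := AddCommGrpCat.subsingleton_of_isZero (h2 n)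
    exact h3.elim f 0
  exact (Triangle.isZero₃_iff_isIso₁ _ hT).1 hZ

end Iso

section Brown'

variable {D : Type u} [Category.{v} D] [Preadditive D] [HasZeroObject D] [HasShift D ℤ]
    [∀ n : ℤ, (shiftFunctor D n).Additive] [Pretriangulated D] [HasCoproducts.{w} D]
    [LocallySmall.{w} D]
    (H : Dᵒᵖ ⥤ AddCommGrpCat.{v'}) [H.IsHomological]
    [∀ (ι : Type w), PreservesLimitsOfShape (Discrete ι) H]

/-- Given a "universal" pair `(X, h)` on the shifts of the generators and a morphism `j : X ⟶ X₁`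
such that `h` extends to `X₁`, the morphism `j` has a retraction compatible with the extension. -/
lemma exists_retraction {κ : Type t} [Small.{w} κ] (E : κ → D) (hE : ∀ k, IsCompactW.{w} (E k))
    (hE' : CohDer.Generates E) {X : D} (h : H.obj (op X))
    (hX : ∀ (k : κ) (n : ℤ), Function.Bijective (fun f : (E k)⟦n⟧ ⟶ X => H.map f.op h))
    {X₁ : D} (h₁ : H.obj (op X₁)) (j : X ⟶ X₁) (hj : H.map j.op h₁ = h) :
    ∃ (r : X₁ ⟶ X), j ≫ r = 𝟙 X ∧ H.map r.op h = h₁ := by
  obtain ⟨X₂, h₂, j₂, hj₂, hinj⟩ := exists_injective.{w} H (fun p : κ × ℤ => (E p.1)⟦p.2⟧)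
    (fun p => isCompactW_shift (hE p.1) p.2) X₁ h₁
  have hcomp : H.map (j ≫ j₂).op h₂ = h := by
    rw [op_comp, Functor.map_comp, ConcreteCategory.comp_apply, hj₂, hj]
  have : IsIso (j ≫ j₂) := by
    refine isIso_of_generates E hE' _ (fun k n => ⟨fun f g hfg => ?_, fun f => ?_⟩)
    · apply (hX k n).1
      dsimp only at hfg ⊢
      rw [← hcomp, ← ConcreteCategory.comp_apply, ← ConcreteCategory.comp_apply,
        ← Functor.map_comp, ← Functor.map_comp, ← op_comp, ← op_comp, hfg]
    · obtain ⟨g, hg⟩ := (hX k n).2 (H.map f.op h₂)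
      refine ⟨g, ?_⟩
      dsimp only at hg ⊢
      rw [← sub_eq_zero]
      apply hinj (k, n)
      rw [op_sub, Functor.map_sub]
      change H.map (g ≫ j ≫ j₂).op h₂ - H.map f.op h₂ = 0
      rw [op_comp, Functor.map_comp, ConcreteCategory.comp_apply, hcomp, hg, sub_self]
  refine ⟨j₂ ≫ inv (j ≫ j₂), ?_, ?_⟩
  · rw [← Category.assoc, IsIso.hom_inv_id]
  · have h3 : H.map (inv (j ≫ j₂)).op h = h₂ := by
      rw [← hcomp, ← ConcreteCategory.comp_apply, ← Functor.map_comp, ← op_comp,
        IsIso.inv_hom_id, op_id, CategoryTheory.Functor.map_id, ConcreteCategory.id_apply]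
    rw [op_comp, Functor.map_comp, ConcreteCategory.comp_apply, h3, hj₂]

/-- **Brown representability**, elementary form, universe flexible. -/
theorem exists_universal {κ : Type t} [Small.{w} κ] (E : κ → D) (hE : ∀ k, IsCompactW.{w} (E k))
    (hE' : CohDer.Generates E) (hH : ∀ (k : κ) (n : ℤ), Small.{w} (H.obj (op ((E k)⟦n⟧)))) :
    ∃ (X : D) (h : H.obj (op X)),
      ∀ (Y : D), Function.Bijective (fun f : Y ⟶ X => H.map f.op h) := by
  obtain ⟨X, h, hX⟩ := exists_bijective.{w} H (fun p : κ × ℤ => (E p.1)⟦p.2⟧)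
    (fun p => isCompactW_shift (hE p.1) p.2) (fun p => hH p.1 p.2)
  refine ⟨X, h, fun Y => ⟨?_, ?_⟩⟩
  · intro f g hfg
    dsimp only at hfg
    obtain ⟨Z, j, δ, hT⟩ := distinguished_cocone_triangle (f - g)
    have h0 : H.map (f - g).op h = 0 := by
      rw [op_sub, Functor.map_sub]
      change H.map f.op h - H.map g.op h = 0
      rw [hfg, sub_self]
    obtain ⟨z, hz⟩ : ∃ z : H.obj (op Z), H.map j.op z = h := exact_elem H _ hT h h0
    obtain ⟨r, hr, -⟩ := exists_retraction.{w} H E hE hE' h (fun k n => hX (k, n)) z j hz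
    have h1 : (f - g) ≫ j = 0 := comp_distTriang_mor_zero₁₂ _ hT
    have h2 : (f - g) ≫ j ≫ r = 0 := by rw [← Category.assoc, h1, zero_comp]
    rw [hr, Category.comp_id] at h2
    exact sub_eq_zero.1 h2
  · intro y
    let h₁ : H.obj (op (X ⊞ Y)) := H.map (biprod.fst : X ⊞ Y ⟶ X).op h +
      H.map (biprod.snd : X ⊞ Y ⟶ Y).op y
    have hl : H.map (biprod.inl : X ⟶ X ⊞ Y).op h₁ = h := by
      simp only [h₁, map_add, ← ConcreteCategory.comp_apply, ← Functor.map_comp, ← op_comp]
      simp
    have hr : H.map (biprod.inr : Y ⟶ X ⊞ Y).op h₁ = y := by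
      simp only [h₁, map_add, ← ConcreteCategory.comp_apply, ← Functor.map_comp, ← op_comp]
      simp
    obtain ⟨r, -, hr'⟩ := exists_retraction.{w} H E hE hE' h (fun k n => hX (k, n)) h₁
      biprod.inl hl
    refine ⟨biprod.inr ≫ r, ?_⟩
    dsimp only
    rw [op_comp, Functor.map_comp, ConcreteCategory.comp_apply, hr', hr]

end Brown'

section Representable

variable {D : Type u} [Category.{v} D] [Preadditive D] [HasZeroObject D] [HasShift D ℤ]
    [∀ n : ℤ, (shiftFunctor D n).Additive] [Pretriangulated D] [HasCoproducts.{w} D]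
    [LocallySmall.{w} D]
    (H : Dᵒᵖ ⥤ AddCommGrpCat.{v}) [H.IsHomological]
    [∀ (ι : Type w), PreservesLimitsOfShape (Discrete ι) H]

theorem isRepresentable {κ : Type t} [Small.{w} κ] (E : κ → D) (hE : ∀ k, IsCompactW.{w} (E k))
    (hE' : CohDer.Generates E) (hH : ∀ (k : κ) (n : ℤ), Small.{w} (H.obj (op ((E k)⟦n⟧)))) :
    (H ⋙ forget AddCommGrpCat.{v}).IsRepresentable := by
  obtain ⟨X, h, hX⟩ := exists_universal.{w} H E hE hE' hH
  refine ⟨X, ⟨{ homEquiv := fun {Y} => Equiv.ofBijective _ (hX Y), homEquiv_comp := ?_ }⟩⟩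
  intro Y Y' f g
  simp only [Equiv.ofBijective_apply, op_comp, Functor.map_comp]
  rfl

end Representable

section Adjoint

variable {D : Type u} [Category.{v} D] [Preadditive D] [HasZeroObject D] [HasShift D ℤ]
    [∀ n : ℤ, (shiftFunctor D n).Additive] [Pretriangulated D] [HasCoproducts.{w} D]
    [LocallySmall.{w} D]
    {D' : Type u'} [Category.{v'} D'] [Preadditive D'] [HasZeroObject D'] [HasShift D' ℤ]
    [∀ n : ℤ, (shiftFunctor D' n).Additive] [Pretriangulated D'] [LocallySmall.{w} D']

/-- An exact functor from a compactly generated triangulated category which commutes with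
coproducts is a left adjoint. -/
theorem isLeftAdjoint {κ : Type t} [Small.{w} κ] (E : κ → D) (hE : ∀ k, IsCompactW.{w} (E k))
    (hE' : CohDer.Generates E) (F : D ⥤ D') [F.CommShift ℤ]
    [F.IsTriangulated] [∀ (ι : Type w), PreservesColimitsOfShape (Discrete ι) F] :
    F.IsLeftAdjoint := by
  have h1 : ∀ (ι : Type w), PreservesLimitsOfShape (Discrete ι) F.op := fun ι => by
    have : PreservesColimitsOfShape (Discrete ι)ᵒᵖ F :=
      preservesColimitsOfShape_of_equiv (Discrete.opposite ι).symm F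
    exact preservesLimitsOfShape_op _ F
  have h3 : ∀ (Y : D') (ι : Type w), PreservesLimitsOfShape (Discrete ι)
      (preadditiveYoneda.obj Y) := fun Y ι => by
    have h4 : PreservesLimitsOfShape (Discrete ι) (preadditiveYoneda.obj Y ⋙ forget _) :=
      inferInstanceAs (PreservesLimitsOfShape (Discrete ι) (yoneda.obj Y))
    exact preservesLimitsOfShape_of_reflects_of_preserves _ (forget AddCommGrpCat.{v'})
  have h2 : ∀ (Y : D') (ι : Type w), PreservesLimitsOfShape (Discrete ι)
      (F.op ⋙ preadditiveYoneda.obj Y) := fun Y ι => inferInstance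
  have h5 : ∀ (Y : D') (k : κ) (n : ℤ), Small.{w} ((F.op ⋙ preadditiveYoneda.obj Y).obj
      (op ((E k)⟦n⟧))) := fun Y k n => inferInstanceAs (Small.{w} (F.obj ((E k)⟦n⟧) ⟶ Y))
  choose G g hG using fun (Y : D') =>
    (show ∃ (Z : D) (g : F.obj Z ⟶ Y), ∀ X, Function.Bijective (fun f : X ⟶ Z => F.map f ≫ g) from
      exists_universal.{w} (F.op ⋙ preadditiveYoneda.obj Y) E hE hE' (h5 Y))
  refine (Adjunction.adjunctionOfEquivRight (F := F) (G_obj := G)
    (fun X Y => (Equiv.ofBijective _ (hG Y X)).symm) ?_).isLeftAdjoint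
  intro X' X Y f g'
  apply (Equiv.ofBijective _ (hG Y X')).injective
  rw [Equiv.apply_symm_apply]
  obtain ⟨g'', rfl⟩ := (Equiv.ofBijective _ (hG Y X)).surjective g'
  rw [Equiv.symm_apply_apply]
  simp only [Equiv.ofBijective_apply, Functor.map_comp, Category.assoc]

end Adjoint

end Groth.Agent.CohtopA.BrownW
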