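import Groth.Agent.CohtopA.CechOpens
import Groth.Agent.CohtopA.Flasque

/-!
# Cech cohomology of flasque sheaves
-/

universe u

open CategoryTheory CategoryTheory.Limits Opposite AlgebraicTopology Simplicial Abelian TopologicalSpace

namespace Groth.Agent.CohtopA.CechFlasque

open CechInj CechLES FreeAb CechCompare CechOpens

variable {X : TopCat.{u}} {ι : Type u} (U : ι → Opens X)

/-- The Cech cohomology of a flasque sheaf with respect to any family of opens vanishes in positive degrees. -/
theorem isZero_cech_of_isFlasque (p : ℕ) : ∀ (F : CohTop.Ab X) [TopCat.Sheaf.IsFlasque F],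
    IsZero (CohTop.cechH F.obj U (p + 1)) := by
  induction p with
  | zero =>
    intro F _
    obtain ⟨I, Q, i, q, w, hI, hS⟩ := DimShift.exists_shortExact_injective F
    have hC : (cechSC (EU U) (preSC (ShortComplex.mk i q w))).ShortExact :=
      cech_shortExact hS (fun n j x => Flasque.ext_succ_eq_zero_of_isFlasque F _ 0 x)
    have hs := conn_surjective hC (augExact U Q) (isZero_cech_of_injective_sheaf I U 0)
    have h0 : ∀ x, conn hC (augExact U Q) x = 0 := by
      intro x
      rw [conn_eq_zero_iff hC (augExact U I) (augExact U Q)]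
      have : Epi (q.hom.app (op (iSup U))) := TopCat.Sheaf.IsFlasque.epi_of_shortExact hS
      exact (AddCommGrpCat.epi_iff_surjective _).1 this x
    have : Subsingleton (CohTop.cechH F.obj U (0 + 1)) := by
      refine subsingleton_of_forall_eq 0 fun y => ?_
      obtain ⟨x, rfl⟩ := hs y
      exact h0 x
    exact AddCommGrpCat.isZero_of_subsingleton _
  | succ p ih =>
    intro F _
    obtain ⟨I, Q, i, q, w, hI, hS⟩ := DimShift.exists_shortExact_injective F
    have hC : (cechSC (EU U) (preSC (ShortComplex.mk i q w))).ShortExact :=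
      cech_shortExact hS (fun n j x => Flasque.ext_succ_eq_zero_of_isFlasque F _ 0 x)
    have hI' : TopCat.Sheaf.IsFlasque I := Flasque.isFlasque_of_injective _
    have hQ : TopCat.Sheaf.IsFlasque Q := TopCat.Sheaf.IsFlasque.of_shortExact_of_isFlasque₁₂ hS
    have e1 : (cx (EU U) Q.obj).homology (p + 1) ≅ (cx (EU U) F.obj).homology (p + 2) :=
      hC.δIso (p + 1) (p + 2) rfl (isZero_cech_of_injective_sheaf I U p)
        (isZero_cech_of_injective_sheaf I U (p + 1))
    exact (ih Q).of_iso e1.symm

end Groth.Agent.CohtopA.CechFlasque
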