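import Groth.Prelude.Def_CohTop
import Mathlib.Topology.Irreducible
import Mathlib.CategoryTheory.Sites.LocallySurjective
import Mathlib.CategoryTheory.Sites.LocallyInjective
import Mathlib.CategoryTheory.Sites.LocallyBijective

/-!
# Constant sheaves on irreducible spaces are flasque
-/

set_option autoImplicit false
universe u

open CategoryTheory Opposite TopologicalSpace

namespace Groth.Agent.CohtopA.ConstIrred

variable {X : TopCat.{u}}

/-- The sheafification of the constant presheaf: the canonical map. -/
noncomputable abbrev eta (X : TopCat.{u}) (A : Type u) [AddCommGroup A] :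
    (Functor.const (Opens X)ᵒᵖ).obj (AddCommGrpCat.of A) ⟶ (CohTop.const X A).obj :=
  toSheafify (Opens.grothendieckTopology X) ((Functor.const (Opens X)ᵒᵖ).obj (AddCommGrpCat.of A))

variable (A : Type u) [AddCommGroup A]

instance : Presheaf.IsLocallySurjective (Opens.grothendieckTopology X) (eta X A) := by
  change Presheaf.IsLocallySurjective (Opens.grothendieckTopology X)
    (toSheafify (Opens.grothendieckTopology X) ((Functor.const (Opens X)ᵒᵖ).obj (AddCommGrpCat.of A)))
  infer_instance

instance : Presheaf.IsLocallyInjective (Opens.grothendieckTopology X) (eta X A) := by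
  change Presheaf.IsLocallyInjective (Opens.grothendieckTopology X)
    (toSheafify (Opens.grothendieckTopology X) ((Functor.const (Opens X)ᵒᵖ).obj (AddCommGrpCat.of A)))
  infer_instance

/-- locally, sections of a constant sheaf are constant -/
lemma exists_local {U : Opens X} (s : (CohTop.const X A).obj.obj (op U)) (x : X) (hx : x ∈ U) :
    ∃ (W : Opens X) (hW : W ≤ U) (a : A), x ∈ W ∧
      (CohTop.const X A).obj.map (homOfLE hW).op s = (eta X A).app (op W) a := by
  have := Presheaf.imageSieve_mem (Opens.grothendieckTopology X) (eta X A) s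
  obtain ⟨W, f, ⟨a, ha⟩, hxW⟩ := this x hx
  exact ⟨W, leOfHom f, a, hxW, ha.symm⟩

lemma eta_injective {U : Opens X} (x : X) (hx : x ∈ U) (a b : A)
    (h : (eta X A).app (op U) a = (eta X A).app (op U) b) : a = b := by
  have := Presheaf.equalizerSieve_mem (Opens.grothendieckTopology X) (eta X A) (X := op U) a b h
  obtain ⟨W, f, hf, hxW⟩ := this x hx
  exact hf

lemma exists_global [IrreducibleSpace X] {U : Opens X} (s : (CohTop.const X A).obj.obj (op U))
    (hU : (U : Set X).Nonempty) : ∃ a : A, (eta X A).app (op U) a = s := by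
  obtain ⟨x₀, hx₀⟩ := hU
  obtain ⟨W₀, hW₀, a, hxW₀, ha⟩ := exists_local A s x₀ hx₀
  refine ⟨a, ?_⟩
  choose W hW b hxW hb using fun x : U => exists_local A s x.1 x.2
  refine TopCat.Sheaf.eq_of_locally_eq' (CohTop.const X A) W U (fun x => homOfLE (hW x)) ?_ _ _ ?_
  · intro x hx
    exact Opens.mem_iSup.mpr ⟨⟨x, hx⟩, hxW _⟩
  · intro x
    have hne : (((W x : Opens X) : Set X) ∩ (W₀ : Set X)).Nonempty := by
      exact nonempty_preirreducible_inter (W x).2 W₀.2 ⟨x.1, hxW x⟩ ⟨x₀, hxW₀⟩
    obtain ⟨y, hy, hy₀⟩ := hne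
    have h1 : a = b x := by
      apply eta_injective A (U := W x ⊓ W₀) y ⟨hy, hy₀⟩
      have e1 : (CohTop.const X A).obj.map (homOfLE (inf_le_right : W x ⊓ W₀ ≤ W₀)).op
          ((eta X A).app (op W₀) a) = (eta X A).app (op (W x ⊓ W₀)) a :=
        (NatTrans.naturality_apply (eta X A) (homOfLE (inf_le_right : W x ⊓ W₀ ≤ W₀)).op a).symm
      have e2 : (CohTop.const X A).obj.map (homOfLE (inf_le_left : W x ⊓ W₀ ≤ W x)).op
          ((eta X A).app (op (W x)) (b x)) = (eta X A).app (op (W x ⊓ W₀)) (b x) :=
        (NatTrans.naturality_apply (eta X A) (homOfLE (inf_le_left : W x ⊓ W₀ ≤ W x)).op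
          (b x)).symm
      rw [← e1, ← e2, ← ha, ← hb x, ← ConcreteCategory.comp_apply, ← ConcreteCategory.comp_apply,
        ← Functor.map_comp, ← Functor.map_comp]
      rfl
    rw [hb x, ← h1]
    exact (NatTrans.naturality_apply (eta X A) (homOfLE (hW x)).op a).symm

/-- A constant sheaf on an irreducible space is flasque. -/
theorem isFlasque_const [IrreducibleSpace X] : TopCat.Sheaf.IsFlasque (CohTop.const X A) where
  epi {U V} i := by
    rw [AddCommGrpCat.epi_iff_surjective]
    intro s
    by_cases hV : ((unop V : Opens X) : Set X).Nonempty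
    · obtain ⟨a, ha⟩ := exists_global A (U := unop V) s hV
      refine ⟨(eta X A).app U a, ?_⟩
      rw [← ha]
      exact (NatTrans.naturality_apply (eta X A) i a).symm
    · refine ⟨0, ?_⟩
      have hbot : (unop V : Opens X) = ⊥ := by
        apply Opens.ext
        exact Set.not_nonempty_iff_eq_empty.mp hV
      refine TopCat.Sheaf.eq_of_locally_eq' (CohTop.const X A) (fun i : PEmpty.{u+1} => i.elim) (unop V)
        (fun i => i.elim) (by rw [hbot]; exact bot_le) _ _ (fun i => i.elim)

end Groth.Agent.CohtopA.ConstIrred
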