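import Groth.Agent.LoccohB.KProj
import Groth.Agent.LoccohB.HomCls
import Groth.Agent.PerfB.CoprodDerived
import Groth.Agent.Cohder.Compact
import Groth.Prelude.Def_CohDer
import Mathlib.CategoryTheory.Localization.LocallySmall
import Mathlib.Algebra.Category.ModuleCat.AB
import Mathlib.Algebra.Category.ModuleCat.Projective

/-!
# The derived category of modules over a (not necessarily commutative) ring

* it is locally small (`hasDerivedCategory`);
* it is compactly generated by the ring in degree `0`.
-/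

set_option autoImplicit false
universe w u

open CategoryTheory Limits Opposite ZeroObject

namespace Groth.Agent.CohtopA.DModRing

variable (A : Type u) [Ring A]

/-- The derived category of modules over a ring is locally small. -/
theorem locallySmall [HasDerivedCategory.{w} (ModuleCat.{u} A)] :
    LocallySmall.{u} (DerivedCategory (ModuleCat.{u} A)) where
  hom_small X Y := by
    obtain ⟨K, ⟨e⟩⟩ : ∃ K, Nonempty (DerivedCategory.Q.obj K ≅ X) :=
      ⟨_, ⟨DerivedCategory.Q.objObjPreimageIso X⟩⟩
    obtain ⟨L, ⟨e'⟩⟩ : ∃ K, Nonempty (DerivedCategory.Q.obj K ≅ Y) :=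
      ⟨_, ⟨DerivedCategory.Q.objObjPreimageIso Y⟩⟩
    obtain ⟨P, p, hP, hp, -, -⟩ := LoccohB.KProj.exists_kprojective K
    have : IsIso (DerivedCategory.Q.map p) := by
      rw [DerivedCategory.isIso_Q_map_iff_quasiIso]; exact hp
    have h : Function.Surjective (fun g : P ⟶ L =>
        e.inv ≫ inv (DerivedCategory.Q.map p) ≫ DerivedCategory.Q.map g ≫ e'.hom) := by
      intro f
      obtain ⟨g, hg⟩ := LoccohB.HomCls.Q_map_surjective_of_kProj P L
        (DerivedCategory.Q.map p ≫ e.hom ≫ f ≫ e'.inv)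
      exact ⟨g, by simp [hg]⟩
    exact small_of_surjective h

/-- A choice of derived category of modules over a ring, with small Hom types. -/
@[instance_reducible]
noncomputable def hasDerivedCategory : HasDerivedCategory.{u} (ModuleCat.{u} A) :=
  letI := HasDerivedCategory.standard (ModuleCat.{u} A)
  haveI := locallySmall A
  MorphismProperty.hasLocalizationOfLocallySmall.{u}
    (HomologicalComplex.quasiIso (ModuleCat.{u} A) (ComplexShape.up ℤ))
    (DerivedCategory.Q (C := ModuleCat.{u} A))

instance isKProjective_single (n : ℤ) :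
    ((CochainComplex.singleFunctor (ModuleCat.{u} A) n).obj (ModuleCat.of A A)).IsKProjective := by
  have : ∀ i : ℤ, Projective (((CochainComplex.singleFunctor (ModuleCat.{u} A) n).obj
      (ModuleCat.of A A)).X i) := by
    intro i
    by_cases h : i = n
    · subst h
      exact Projective.of_iso (HomologicalComplex.singleObjXSelf (ComplexShape.up ℤ) i
        (ModuleCat.of A A)).symm inferInstance
    · exact (HomologicalComplex.isZero_single_obj_X (ComplexShape.up ℤ) n _ i h).projective
  exact CochainComplex.isKProjective_of_projective _ n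

/-- A morphism from `A` (in a single degree) to a coproduct of complexes of modules is a finite sum
of morphisms through the summands. -/
theorem exists_finset_eq_sum {J : Type u} [DecidableEq J] (M : J → CochainComplex (ModuleCat.{u} A) ℤ)
    (n : ℤ) (g : (CochainComplex.singleFunctor (ModuleCat.{u} A) n).obj (ModuleCat.of A A) ⟶ ∐ M) :
    ∃ s : Finset J, g = ∑ j ∈ s, (g ≫ Sigma.π M j) ≫ Sigma.ι M j := by
  let ev := HomologicalComplex.eval (ModuleCat.{u} A) (ComplexShape.up ℤ) n
  -- the span of the images of the summands is everything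
  let N : Submodule A ((∐ M).X n) := ⨆ j, LinearMap.range ((Sigma.ι M j).f n).hom
  have hN : N = ⊤ := by
    have h0 : ModuleCat.ofHom N.mkQ = (0 : (∐ M).X n ⟶ _) := by
      have hc := isColimitOfPreserves ev (coproductIsCoproduct M)
      apply hc.hom_ext
      rintro ⟨j⟩
      ext x
      change N.mkQ (((Sigma.ι M j).f n).hom x) = 0
      rw [Submodule.mkQ_apply, Submodule.Quotient.mk_eq_zero]
      exact Submodule.mem_iSup_of_mem j ⟨x, rfl⟩
    rw [← Submodule.ker_mkQ N, LinearMap.ker_eq_top]
    exact congrArg ModuleCat.Hom.hom h0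
  have key : ∀ z : (∐ M).X n, ∃ s : Finset J, ∀ t : Finset J, s ⊆ t →
      z = ∑ j ∈ t, (Sigma.ι M j).f n ((Sigma.π M j).f n z) := by
    intro z
    have hz : z ∈ N := hN ▸ Submodule.mem_top
    refine Submodule.iSup_induction (fun j => LinearMap.range ((Sigma.ι M j).f n).hom)
      (motive := fun z => ∃ s : Finset J, ∀ t : Finset J, s ⊆ t →
      z = ∑ j ∈ t, (Sigma.ι M j).f n ((Sigma.π M j).f n z)) hz ?_ ?_ ?_
    · rintro j _ ⟨x, rfl⟩
      refine ⟨{j}, fun t ht => ?_⟩
      rw [Finset.sum_eq_single j]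
      · have h1 := HomologicalComplex.congr_hom (Sigma.ι_π_eq_id M j) n
        have h2 := congr($h1 x)
        exact (congrArg ((Sigma.ι M j).f n) h2).symm
      · intro k _ hk
        have h1 := HomologicalComplex.congr_hom (Sigma.ι_π_of_ne M hk.symm) n
        have h2 := congr($h1 x)
        exact (congrArg ((Sigma.ι M k).f n) h2).trans (map_zero _)
      · intro h
        exact (h (ht (Finset.mem_singleton_self j))).elim
    · exact ⟨∅, fun t _ => by simp⟩
    · rintro a b ⟨s, hs⟩ ⟨s', hs'⟩
      refine ⟨s ∪ s', fun t ht => ?_⟩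
      simp only [map_add, Finset.sum_add_distrib]
      rw [← hs t (Finset.union_subset_left ht), ← hs' t (Finset.union_subset_right ht)]
  let y := (HomologicalComplex.singleObjXSelf
    (ComplexShape.up ℤ) n (ModuleCat.of A A)).inv (1 : A)
  obtain ⟨s, hs⟩ := key (g.f n y)
  refine ⟨s, ?_⟩
  apply HomologicalComplex.from_single_hom_ext
  rw [← cancel_epi (HomologicalComplex.singleObjXSelf
    (ComplexShape.up ℤ) n (ModuleCat.of A A)).inv]
  ext
  have h1 := hs s (Finset.Subset.refl s)
  have h2 : (∑ j ∈ s, (g ≫ Sigma.π M j) ≫ Sigma.ι M j).f n =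
      ∑ j ∈ s, (g.f n ≫ (Sigma.π M j).f n) ≫ (Sigma.ι M j).f n :=
    map_sum (HomologicalComplex.Hom.fAddMonoidHom n) _ s
  have h4 : ∀ (X Y : ModuleCat.{u} A) (φ : J → (X ⟶ Y)) (x : X),
      (∑ j ∈ s, φ j) x = ∑ j ∈ s, φ j x := by
    intro X Y φ x
    have h5 : (∑ j ∈ s, φ j).hom = ∑ j ∈ s, (φ j).hom := ModuleCat.hom_sum _ _
    exact (congrArg (fun (ψ : X →ₗ[A] Y) => ψ x) h5).trans (LinearMap.sum_apply _ _ _)
  have h3 : (∑ j ∈ s, (g ≫ Sigma.π M j) ≫ Sigma.ι M j).f n y =
      ∑ j ∈ s, (Sigma.ι M j).f n ((Sigma.π M j).f n (g.f n y)) := by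
    rw [h2]
    exact h4 _ _ _ y
  exact h1.trans h3.symm

section

variable [HasDerivedCategory.{u} (ModuleCat.{u} A)]

instance hasCoproducts : HasCoproducts.{u} (DerivedCategory (ModuleCat.{u} A)) :=
  fun _ => inferInstance

/-- `A[n]` is a compact object of `D(A)`. -/
theorem isCompactObject_single (n : ℤ) : CohDer.IsCompactObject (DerivedCategory.Q.obj
    ((CochainComplex.singleFunctor (ModuleCat.{u} A) n).obj (ModuleCat.of A A))) := by
  classical
  rw [Cohder.Compact.isCompactObject_iff]
  intro J X γ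
  let M : J → CochainComplex (ModuleCat.{u} A) ℤ := fun j => DerivedCategory.Q.objPreimage (X j)
  let e : ∀ j, DerivedCategory.Q.obj (M j) ≅ X j := fun j => DerivedCategory.Q.objObjPreimageIso (X j)
  obtain ⟨φ, hφ⟩ := PerfB.CoprodDerived.exists_desc_Q_sigma M (fun j => (e j).hom ≫ Sigma.ι X j)
  let ψ : ∐ X ⟶ DerivedCategory.Q.obj (∐ M) :=
    Sigma.desc (fun j => (e j).inv ≫ DerivedCategory.Q.map (Sigma.ι M j))
  have hψφ : ψ ≫ φ = 𝟙 _ := by
    apply Sigma.hom_ext
    intro j
    simp [ψ, hφ]
  obtain ⟨g, hg⟩ := LoccohB.HomCls.Q_map_surjective_of_kProj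
    ((CochainComplex.singleFunctor (ModuleCat.{u} A) n).obj (ModuleCat.of A A)) (∐ M) (γ ≫ ψ)
  obtain ⟨s, hs⟩ := exists_finset_eq_sum A M n g
  have h1 : γ = ∑ j ∈ s, (DerivedCategory.Q.map (g ≫ Sigma.π M j) ≫ (e j).hom) ≫ Sigma.ι X j := by
    have h2 : DerivedCategory.Q.map g =
        ∑ j ∈ s, DerivedCategory.Q.map (g ≫ Sigma.π M j) ≫ DerivedCategory.Q.map (Sigma.ι M j) := by
      conv_lhs => rw [hs]
      rw [Functor.map_sum]
      exact Finset.sum_congr rfl (fun j _ => Functor.map_comp _ _ _)
    rw [← Category.comp_id γ, ← hψφ, ← Category.assoc, ← hg, h2, Preadditive.sum_comp]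
    refine Finset.sum_congr rfl (fun j _ => ?_)
    rw [Category.assoc, hφ, Category.assoc]
  rw [h1]
  exact AddSubgroup.sum_mem _ (fun j _ => Cohder.Compact.comp_ι_mem_finSupp X j _)

/-- `A` generates `D(A)`. -/
theorem generates_single : CohDer.Generates (fun _ : PUnit.{u + 1} => DerivedCategory.Q.obj
    ((CochainComplex.singleFunctor (ModuleCat.{u} A) 0).obj (ModuleCat.of A A))) := by
  intro X hX
  let M := DerivedCategory.Q.objPreimage X
  let e : DerivedCategory.Q.obj M ≅ X := DerivedCategory.Q.objObjPreimageIso X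
  suffices hM : M.Acyclic by
    have h1 : QuasiIso (0 : M ⟶ 0) := by
      rw [quasiIso_iff]
      intro i
      rw [quasiIsoAt_iff_exactAt]
      · rw [HomologicalComplex.exactAt_iff_isZero_homology]
        exact Functor.map_isZero (HomologicalComplex.homologyFunctor _ _ i) (isZero_zero _)
      · exact hM i
    rw [← DerivedCategory.isIso_Q_map_iff_quasiIso] at h1
    exact (Functor.map_isZero DerivedCategory.Q (isZero_zero _)).of_iso
      (e.symm ≪≫ asIso (DerivedCategory.Q.map (0 : M ⟶ 0)))
  intro n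
  rw [LoccohB.KProj.exactAt_iff_elem]
  intro z hz
  let f : ModuleCat.of A A ⟶ M.X n := ModuleCat.ofHom (LinearMap.toSpanSingleton A _ z)
  have hf : f ≫ M.d n (n + 1) = 0 := by
    ext
    simpa [f] using hz
  have h0 : LoccohB.HomCls.scls0 f hf = 0 := by
    have := hX PUnit.unit n (LoccohB.HomCls.scls0 f hf ≫ (shiftFunctor _ n).map e.hom)
    rwa [← zero_comp (f := (shiftFunctor _ n).map e.hom), cancel_mono] at this
  rw [LoccohB.HomCls.scls0, LoccohB.HomCls.hcls_eq_zero_iff_of_kProj,
    CochainComplex.HomComplex.Cocycle.fromSingleMk_mem_coboundaries_iff _ _ _ _ _ (n - 1)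
      (by simp)] at h0
  obtain ⟨g, hg⟩ := h0
  refine ⟨g (1 : A), ?_⟩
  have := congr($hg (1 : A))
  simpa [f] using this

/-- `D(A)` is compactly generated. -/
theorem isCompactlyGenerated : CohDer.IsCompactlyGenerated (DerivedCategory (ModuleCat.{u} A)) :=
  ⟨PUnit.{u + 1}, _, fun _ => isCompactObject_single A 0, generates_single A⟩

end

end Groth.Agent.CohtopA.DModRing
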