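import Groth.Agent.CohtopA.KInjRes2
import Mathlib.Algebra.Homology.DerivedCategory.KInjective

/-!
# Products and coproducts in the derived category of a Grothendieck abelian category

* `Q_map_surjective`, `Q_map_eq_zero_iff`: morphisms in the derived category to K-injective complexes;
* `homotopy_of_isColimit`, `homotopy_of_isLimit`: homotopies on coproducts and to products;
* `preservesCoproducts_Q`: for `A` Grothendieck abelian, `Q : Ch(A) ⥤ D(A)` preserves coproducts;
* `isLimitQ`: `Q` sends products of K-injective complexes to products;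
* `hasCoproductsOfShape`, `hasProductsOfShape`.
-/

set_option autoImplicit false

universe w' w v u t

open CategoryTheory Category Limits

namespace Groth.Agent.CohtopA.DerProd

open CochainComplex CochainComplex.HomComplex DerivedCategory

variable {A : Type u} [Category.{v} A] [Abelian A]

section KInj

variable [HasDerivedCategory.{w} A]

lemma Q_map_surjective (M I : CochainComplex A ℤ) [I.IsKInjective] (φ : Q.obj M ⟶ Q.obj I) :
    ∃ f : M ⟶ I, Q.map f = φ := by
  obtain ⟨g, hg⟩ := (IsKInjective.Qh_map_bijective ((HomotopyCategory.quotient _ _).obj M) I).2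
    ((quotientCompQhIso A).hom.app M ≫ φ ≫ (quotientCompQhIso A).inv.app I)
  obtain ⟨f, rfl⟩ := (HomotopyCategory.quotient _ _).map_surjective g
  refine ⟨f, ?_⟩
  rw [← cancel_epi ((quotientCompQhIso A).hom.app M), ← quotientCompQhIso_hom_naturality, hg]
  simp

lemma Q_map_eq_of_homotopy {M N : CochainComplex A ℤ} {f g : M ⟶ N} (h : Homotopy f g) :
    (Q.map f : Q.obj M ⟶ Q.obj N) = Q.map g := by
  rw [← cancel_epi ((quotientCompQhIso A).hom.app M), ← quotientCompQhIso_hom_naturality,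
    ← quotientCompQhIso_hom_naturality, HomotopyCategory.eq_of_homotopy _ _ h]

lemma Q_map_eq_iff {M I : CochainComplex A ℤ} [I.IsKInjective] (f g : M ⟶ I) :
    (Q.map f : Q.obj M ⟶ Q.obj I) = Q.map g ↔ Nonempty (Homotopy f g) := by
  refine ⟨fun h ↦ ⟨HomotopyCategory.homotopyOfEq _ _ ?_⟩, fun ⟨h⟩ ↦ Q_map_eq_of_homotopy h⟩
  apply (IsKInjective.Qh_map_bijective ((HomotopyCategory.quotient _ _).obj M) I).1
  rw [← cancel_mono ((quotientCompQhIso A).hom.app I), quotientCompQhIso_hom_naturality,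
    quotientCompQhIso_hom_naturality, h]

lemma Q_map_eq_zero_iff {M I : CochainComplex A ℤ} [I.IsKInjective] (f : M ⟶ I) :
    (Q.map f : Q.obj M ⟶ Q.obj I) = 0 ↔ Nonempty (Homotopy f 0) := by
  rw [← Q_map_eq_iff, Functor.map_zero]

end KInj

section Assembly

variable {T : Type t} {K : Discrete T ⥤ CochainComplex A ℤ}

/-- Null-homotopies can be assembled on a coproduct. -/
lemma homotopy_of_isColimit {c : Cocone K}
    (hc : ∀ p, IsColimit ((HomologicalComplex.eval A _ p).mapCocone c))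
    {I : CochainComplex A ℤ} (g : c.pt ⟶ I)
    (h : ∀ t, Nonempty (Homotopy (c.ι.app t ≫ g) 0)) : Nonempty (Homotopy g 0) := by
  have hex (t : Discrete T) : ∃ z : Cochain (K.obj t) I (-1),
      Cochain.ofHom (c.ι.app t ≫ g) = δ (-1) 0 z := by
    obtain ⟨z, hz⟩ := Cochain.equivHomotopy _ _ (h t).some
    exact ⟨z, by rwa [Cochain.ofHom_zero, add_zero] at hz⟩
  choose z hz using hex
  let α : Cochain c.pt I (-1) := Cochain.mk (fun p q hpq ↦ (hc p).desc (Cocone.mk (I.X q)
    (Discrete.natTrans (fun t ↦ (z t).v p q hpq))))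
  have hα (t : Discrete T) (p q : ℤ) (hpq : p + (-1) = q) :
      (c.ι.app t).f p ≫ α.v p q hpq = (z t).v p q hpq :=
    (hc p).fac (Cocone.mk (I.X q) (Discrete.natTrans (fun t ↦ (z t).v p q hpq))) t
  refine ⟨(Cochain.equivHomotopy _ _).symm ⟨α, ?_⟩⟩
  rw [Cochain.ofHom_zero, add_zero]
  ext p
  refine (hc p).hom_ext (fun t ↦ ?_)
  have h1 : (Cochain.ofHom (c.ι.app t)).comp α (zero_add (-1)) = z t := by
    ext p q hpq
    simp [hα]
  have h2 := Cochain.congr_v (hz t) p p (add_zero p)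
  rw [← h1, δ_ofHom_comp] at h2
  simp only [Cochain.ofHom_comp, Cochain.zero_cochain_comp_v, Cochain.ofHom_v] at h2
  rw [Cochain.ofHom_v]
  exact h2

/-- Null-homotopies can be assembled to a product. -/
lemma homotopy_of_isLimit {c : Cone K}
    (hc : ∀ p, IsLimit ((HomologicalComplex.eval A _ p).mapCone c))
    {M : CochainComplex A ℤ} (g : M ⟶ c.pt)
    (h : ∀ t, Nonempty (Homotopy (g ≫ c.π.app t) 0)) : Nonempty (Homotopy g 0) := by
  have hex (t : Discrete T) : ∃ z : Cochain M (K.obj t) (-1),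
      Cochain.ofHom (g ≫ c.π.app t) = δ (-1) 0 z := by
    obtain ⟨z, hz⟩ := Cochain.equivHomotopy _ _ (h t).some
    exact ⟨z, by rwa [Cochain.ofHom_zero, add_zero] at hz⟩
  choose z hz using hex
  let α : Cochain M c.pt (-1) := Cochain.mk (fun p q hpq ↦ (hc q).lift (Cone.mk (M.X p)
    (Discrete.natTrans (fun t ↦ (z t).v p q hpq))))
  have hα (t : Discrete T) (p q : ℤ) (hpq : p + (-1) = q) :
      α.v p q hpq ≫ (c.π.app t).f q = (z t).v p q hpq :=
    (hc q).fac (Cone.mk (M.X p) (Discrete.natTrans (fun t ↦ (z t).v p q hpq))) t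
  refine ⟨(Cochain.equivHomotopy _ _).symm ⟨α, ?_⟩⟩
  rw [Cochain.ofHom_zero, add_zero]
  ext p
  refine (hc p).hom_ext (fun t ↦ ?_)
  have h1 : α.comp (Cochain.ofHom (c.π.app t)) (add_zero (-1)) = z t := by
    ext p q hpq
    simp [hα]
  have h2 := Cochain.congr_v (hz t) p p (add_zero p)
  rw [← h1, δ_comp_ofHom] at h2
  simp only [Cochain.ofHom_comp, Cochain.comp_zero_cochain_v, Cochain.ofHom_v] at h2
  rw [Cochain.ofHom_v]
  exact h2

/-- A (termwise) product of K-injective complexes is K-injective. -/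
lemma isKInjective_of_isLimit {c : Cone K}
    (hc : ∀ p, IsLimit ((HomologicalComplex.eval A _ p).mapCone c))
    (hK : ∀ t, (K.obj t).IsKInjective) : c.pt.IsKInjective where
  nonempty_homotopy_zero g hM := homotopy_of_isLimit hc g
    (fun t ↦ (hK t).nonempty_homotopy_zero _ hM)

end Assembly

section Derived

variable [HasDerivedCategory.{w'} A]

lemma exists_kInjective_iso [IsGrothendieckAbelian.{w} A] (X : DerivedCategory A) :
    ∃ (I : CochainComplex A ℤ) (_ : I.IsKInjective), Nonempty (X ≅ Q.obj I) := by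
  let M := Q.objPreimage X
  obtain ⟨I, f, hI, hf, -, -⟩ := KInjRes2.exists_kInjective_resolution.{w} M
  have : IsIso (Q.map f) := by
    rw [isIso_Q_map_iff_quasiIso]
    exact hf
  exact ⟨I, hI, ⟨(Q.objObjPreimageIso X).symm ≪≫ asIso (Q.map f)⟩⟩

/-- `Q` preserves a coproduct of complexes (computed termwise). -/
lemma nonempty_isColimit_Q [IsGrothendieckAbelian.{w} A] {T : Type t}
    {K : Discrete T ⥤ CochainComplex A ℤ} {c : Cocone K} (hc : IsColimit c)
    (hc' : ∀ p, IsColimit ((HomologicalComplex.eval A _ p).mapCocone c)) :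
    Nonempty (IsColimit (Q.mapCocone c)) := by
  have hex (s : Cocone (K ⋙ Q)) : ∃ m : Q.obj c.pt ⟶ s.pt, ∀ t, Q.map (c.ι.app t) ≫ m = s.ι.app t := by
    obtain ⟨I, hI, ⟨e⟩⟩ := exists_kInjective_iso.{w', w} s.pt
    choose f hf using fun t ↦ Q_map_surjective (K.obj t) I (s.ι.app t ≫ e.hom)
    refine ⟨Q.map (hc.desc (Cocone.mk I (Discrete.natTrans f))) ≫ e.inv, fun t ↦ ?_⟩
    rw [← Functor.map_comp_assoc, hc.fac]
    dsimp
    rw [hf]
    simp
  have huniq (Y : DerivedCategory A) (m : Q.obj c.pt ⟶ Y) (hm : ∀ t, Q.map (c.ι.app t) ≫ m = 0) :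
      m = 0 := by
    obtain ⟨I, hI, ⟨e⟩⟩ := exists_kInjective_iso.{w', w} Y
    obtain ⟨g, hg⟩ := Q_map_surjective _ _ (m ≫ e.hom)
    have h : Nonempty (Homotopy g 0) := homotopy_of_isColimit hc' g (fun t ↦ by
      rw [← Q_map_eq_zero_iff, Functor.map_comp, hg, reassoc_of% (hm t), zero_comp])
    rw [← Q_map_eq_zero_iff, hg] at h
    rw [← cancel_mono e.hom, h, zero_comp]
  choose m hm using hex
  exact ⟨{
    desc := m
    fac := hm
    uniq := fun s m' hm' ↦ by
      rw [← sub_eq_zero]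
      refine huniq _ _ (fun t ↦ ?_)
      rw [Preadditive.comp_sub, hm, sub_eq_zero]
      exact hm' t }⟩

/-- `Q` sends a (termwise) product of K-injective complexes to a product. -/
lemma nonempty_isLimit_Q {T : Type t} {K : Discrete T ⥤ CochainComplex A ℤ} {c : Cone K}
    (hc : IsLimit c) (hc' : ∀ p, IsLimit ((HomologicalComplex.eval A _ p).mapCone c))
    (hK : ∀ t, (K.obj t).IsKInjective) (hc'' : c.pt.IsKInjective) :
    Nonempty (IsLimit (Q.mapCone c)) := by
  have hex (s : Cone (K ⋙ Q)) : ∃ m : s.pt ⟶ Q.obj c.pt, ∀ t, m ≫ Q.map (c.π.app t) = s.π.app t := by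
    obtain ⟨M, ⟨e⟩⟩ : ∃ M, Nonempty (Q.obj M ≅ s.pt) := ⟨_, ⟨Q.objObjPreimageIso s.pt⟩⟩
    choose f hf using fun t ↦ Q_map_surjective M (K.obj t) (e.hom ≫ s.π.app t)
    refine ⟨e.inv ≫ Q.map (hc.lift (Cone.mk _ (Discrete.natTrans f))), fun t ↦ ?_⟩
    rw [assoc, ← Functor.map_comp, hc.fac]
    dsimp
    rw [hf]
    simp
  have huniq (Y : DerivedCategory A) (m : Y ⟶ Q.obj c.pt) (hm : ∀ t, m ≫ Q.map (c.π.app t) = 0) :
      m = 0 := by
    obtain ⟨M, ⟨e⟩⟩ : ∃ M, Nonempty (Q.obj M ≅ Y) := ⟨_, ⟨Q.objObjPreimageIso Y⟩⟩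
    obtain ⟨g, hg⟩ := Q_map_surjective _ _ (e.hom ≫ m)
    have h : Nonempty (Homotopy g 0) := homotopy_of_isLimit hc' g (fun t ↦ by
      have := hK t
      rw [← Q_map_eq_zero_iff, Functor.map_comp, hg, assoc, hm t, comp_zero])
    rw [← Q_map_eq_zero_iff, hg] at h
    rw [← cancel_epi e.hom, h, comp_zero]
  choose m hm using hex
  exact ⟨{
    lift := m
    fac := hm
    uniq := fun s m' hm' ↦ by
      rw [← sub_eq_zero]
      refine huniq _ _ (fun t ↦ ?_)
      rw [Preadditive.sub_comp, hm, sub_eq_zero]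
      exact hm' t }⟩

variable (A) in
/-- `Q : Ch(A) ⥤ D(A)` preserves coproducts for a Grothendieck abelian category `A`. -/
theorem preservesColimitsOfShape_discrete_Q [IsGrothendieckAbelian.{w} A] (T : Type t)
    [HasColimitsOfShape (Discrete T) A] :
    PreservesColimitsOfShape (Discrete T) (Q : CochainComplex A ℤ ⥤ DerivedCategory A) where
  preservesColimit := ⟨fun hc ↦
    nonempty_isColimit_Q.{w', w} hc (fun _ ↦ isColimitOfPreserves _ hc)⟩

variable (A) in
theorem hasColimitsOfShape_discrete [IsGrothendieckAbelian.{w} A] (T : Type t)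
    [HasColimitsOfShape (Discrete T) A] : HasColimitsOfShape (Discrete T) (DerivedCategory A) where
  has_colimit F := by
    have := preservesColimitsOfShape_discrete_Q.{w', w} A T
    choose M e using fun t : T ↦ (show ∃ M, Nonempty (Q.obj M ≅ F.obj ⟨t⟩) from
      ⟨_, ⟨Q.objObjPreimageIso (F.obj ⟨t⟩)⟩⟩)
    have : HasColimit (Discrete.functor M ⋙ (Q : CochainComplex A ℤ ⥤ DerivedCategory A)) :=
      ⟨_, isColimitOfPreserves Q (colimit.isColimit (Discrete.functor M))⟩
    exact hasColimit_of_iso (Discrete.natIso (fun ⟨t⟩ ↦ (e t).some) :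
      Discrete.functor M ⋙ Q ≅ F).symm

/-- `Q` sends a product of K-injective complexes to a product. -/
theorem nonempty_isLimit_Q_of_isKInjective {T : Type t} [HasLimitsOfShape (Discrete T) A]
    {K : Discrete T ⥤ CochainComplex A ℤ} {c : Cone K}
    (hc : IsLimit c) (hK : ∀ t, (K.obj t).IsKInjective) : Nonempty (IsLimit (Q.mapCone c)) :=
  nonempty_isLimit_Q hc (fun _ ↦ isLimitOfPreserves _ hc) hK
    (isKInjective_of_isLimit (fun _ ↦ isLimitOfPreserves _ hc) hK)

variable (A) in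
theorem hasLimitsOfShape_discrete [IsGrothendieckAbelian.{w} A] (T : Type t)
    [HasLimitsOfShape (Discrete T) A] : HasLimitsOfShape (Discrete T) (DerivedCategory A) where
  has_limit F := by
    choose M hM e using fun t : T ↦ exists_kInjective_iso.{w', w} (F.obj ⟨t⟩)
    obtain ⟨h⟩ := nonempty_isLimit_Q_of_isKInjective.{w'} (limit.isLimit (Discrete.functor M))
      (fun ⟨t⟩ ↦ hM t)
    have : HasLimit (Discrete.functor M ⋙ (Q : CochainComplex A ℤ ⥤ DerivedCategory A)) :=
      ⟨_, h⟩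
    exact hasLimit_of_iso (Discrete.natIso (fun ⟨t⟩ ↦ (e t).some.symm) :
      Discrete.functor M ⋙ Q ≅ F)

end Derived

end Groth.Agent.CohtopA.DerProd
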