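import Groth.Agent.PerfB.CoprodDerived
import Groth.Agent.Cohder.SerreVerdier
import Mathlib.Algebra.Homology.DerivedCategory.ExactFunctor

/-!
# The functor on derived categories induced by an exact functor

* it preserves coproducts if the functor does (and coproducts are exact);
* it is a localization functor if the exact functor has a fully faithful right adjoint.
-/

set_option autoImplicit false
universe w w' v v' u u' t

open CategoryTheory Limits Opposite

namespace Groth.Agent.CohtopA.ExactDer

variable {A : Type u} [Category.{v} A] [Abelian A] [HasDerivedCategory.{w} A]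
  {B : Type u'} [Category.{v'} B] [Abelian B] [HasDerivedCategory.{w'} B]
  (F : A ⥤ B) [F.Additive] [PreservesFiniteLimits F] [PreservesFiniteColimits F]

/-- If an exact functor `F` has a fully faithful right adjoint, then `F.mapDerivedCategory` is a
localization functor. -/
theorem isLocalization_of_rightAdjoint (u : B ⥤ A) (adj : F ⊣ u) [u.Full] [u.Faithful] :
    F.mapDerivedCategory.IsLocalization
      ((MorphismProperty.isomorphisms _).inverseImage F.mapDerivedCategory) := by
  have : u.Additive := adj.right_adjoint_additive
  let V := F.mapHomologicalComplex (ComplexShape.up ℤ)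
  let U := u.mapHomologicalComplex (ComplexShape.up ℤ)
  let adj' : V ⊣ U := Cohder.SerreVerdier.mapHomologicalComplexAdjunction (ComplexShape.up ℤ) adj
  have h1 : V.IsLocalization ((MorphismProperty.isomorphisms _).inverseImage V) :=
    adj'.isLocalization
  let W₃ : MorphismProperty (CochainComplex A ℤ) :=
    (HomologicalComplex.quasiIso B (ComplexShape.up ℤ)).inverseImage V
  have hW₃ : W₃.IsInvertedBy (V ⋙ DerivedCategory.Q) := by
    intro X Y f hf
    exact Localization.inverts DerivedCategory.Q (HomologicalComplex.quasiIso B (ComplexShape.up ℤ))
      _ hf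
  have h2 : (V ⋙ DerivedCategory.Q).IsLocalization W₃ := by
    refine Functor.IsLocalization.comp V DerivedCategory.Q
      ((MorphismProperty.isomorphisms _).inverseImage V)
      (HomologicalComplex.quasiIso B (ComplexShape.up ℤ)) W₃ hW₃ ?_ ?_
    · intro X Y f hf
      have : IsIso (V.map f) := hf
      change QuasiIso (V.map f)
      infer_instance
    · intro X Y f hf
      have e : Arrow.mk (V.map (U.map f)) ≅ Arrow.mk f :=
        Arrow.isoMk (asIso (adj'.counit.app X)) (asIso (adj'.counit.app Y))
          (adj'.counit.naturality f).symm
      exact ⟨_, _, U.map f, ((HomologicalComplex.quasiIso B (ComplexShape.up ℤ)).arrow_mk_iso_iff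
        e).2 hf, ⟨e⟩⟩
  have h3 : (DerivedCategory.Q ⋙ F.mapDerivedCategory).IsLocalization W₃ :=
    Functor.IsLocalization.of_iso W₃ F.mapDerivedCategoryFactors.symm
  refine Functor.IsLocalization.of_comp DerivedCategory.Q F.mapDerivedCategory
    (HomologicalComplex.quasiIso A (ComplexShape.up ℤ)) _ W₃ ?_ ?_
  · intro X Y f hf
    have : QuasiIso f := hf
    change QuasiIso (V.map f)
    infer_instance
  · have key : ∀ {K L : CochainComplex A ℤ} (g : K ⟶ L),
        W₃ g ↔ IsIso (F.mapDerivedCategory.map (DerivedCategory.Q.map g)) := by
      intro K L g
      change QuasiIso (V.map g) ↔ _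
      rw [← DerivedCategory.isIso_Q_map_iff_quasiIso]
      exact ((MorphismProperty.isomorphisms _).arrow_mk_iso_iff
        (((Functor.mapArrowFunctor _ _).mapIso F.mapDerivedCategoryFactors).app
          (Arrow.mk g))).symm
    apply le_antisymm
    · intro X Y f hf
      obtain ⟨K, L, g, ⟨e⟩⟩ := Cohder.SerreVerdier.exists_arrow_iso f
      refine ⟨K, L, g, ?_, ⟨e⟩⟩
      rw [key]
      exact ((MorphismProperty.isomorphisms _).arrow_mk_iso_iff
        (F.mapDerivedCategory.mapArrow.mapIso e)).2 hf
    · rw [MorphismProperty.map_le_iff]
      intro X Y g hg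
      exact (key g).1 hg

section Coproducts

/-- `DerivedCategory.Q` preserves exact coproducts. -/
theorem preservesColimitsOfShape_Q (J : Type t) [HasCoproductsOfShape J A]
    [HasExactColimitsOfShape (Discrete J) A] :
    PreservesColimitsOfShape (Discrete J) (DerivedCategory.Q (C := A)) := by
  suffices h : ∀ (M : J → CochainComplex A ℤ), PreservesColimit
      (Discrete.functor M) (DerivedCategory.Q (C := A)) by
    constructor
    intro K
    have := h (fun j => K.obj ⟨j⟩)
    exact preservesColimit_of_iso_diagram (K₁ := Discrete.functor
      (fun j => K.obj ⟨j⟩)) _ Discrete.natIsoFunctor.symm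
  intro M
  exact preservesColimit_of_preserves_colimit_cocone (coproductIsCoproduct M)
    ((Limits.isColimitMapCoconeCofanMkEquiv _ _ _).symm (PerfB.CoprodDerived.isColimitQCofan M))

variable (J : Type t) [HasCoproductsOfShape J A] [HasExactColimitsOfShape (Discrete J) A]
  [HasCoproductsOfShape J B] [HasExactColimitsOfShape (Discrete J) B]
  [PreservesColimitsOfShape (Discrete J) F]

/-- The functor on derived categories induced by an exact functor which preserves coproducts
preserves coproducts. -/
theorem preservesCoproducts_mapDerivedCategory :
    PreservesColimitsOfShape (Discrete J) F.mapDerivedCategory := by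
  have := preservesColimitsOfShape_Q (A := A) J
  have := preservesColimitsOfShape_Q (A := B) J
  have : PreservesColimitsOfShape (Discrete J) (F.mapHomologicalComplex (ComplexShape.up ℤ)) :=
    inferInstance
  have : PreservesColimitsOfShape (Discrete J) (DerivedCategory.Q ⋙ F.mapDerivedCategory) :=
    preservesColimitsOfShape_of_natIso F.mapDerivedCategoryFactors.symm
  suffices h : ∀ (M : J → CochainComplex A ℤ), PreservesColimit
      (Discrete.functor M ⋙ DerivedCategory.Q) F.mapDerivedCategory by
    constructor
    intro K
    let M : J → CochainComplex A ℤ := fun j => DerivedCategory.Q.objPreimage (K.obj ⟨j⟩)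
    have := h M
    exact preservesColimit_of_iso_diagram (K₁ := Discrete.functor M ⋙ DerivedCategory.Q)
      F.mapDerivedCategory
      (Discrete.natIso fun j => DerivedCategory.Q.objObjPreimageIso (K.obj j))
  intro M
  exact preservesColimit_of_preserves_colimit_cocone
    (isColimitOfPreserves DerivedCategory.Q (colimit.isColimit (Discrete.functor M)))
    (isColimitOfPreserves (DerivedCategory.Q ⋙ F.mapDerivedCategory)
      (colimit.isColimit (Discrete.functor M)))

end Coproducts

end Groth.Agent.CohtopA.ExactDer
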