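import Mathlib.Algebra.Homology.DerivedCategory.Ext.Map
import Mathlib.Algebra.Homology.DerivedCategory.Ext.ExactSequences
import Mathlib.Algebra.Homology.DerivedCategory.Ext.EnoughInjectives
import Mathlib.CategoryTheory.Filtered.Basic

/-!
# `Ext^n(G, i F)` as a filtered colimit of `Ext^n(P_j, F)`

Let `i : A ⥤ B` be an exact functor, `P : Jᵒᵖ ⥤ A` a cofiltered system and `a_j : G ⟶ i (P_j)` a
compatible family of maps. If `colim_j Hom(P_j, F) = Hom(G, i F)` for all `F` and `i I` is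
`Ext^n(G, -)`-acyclic for `I` injective, then `colim_j Ext^n(P_j, F) = Ext^n(G, i F)` for all `n`.
-/

set_option autoImplicit false

universe w w' v v' v'' u u' u''

open CategoryTheory Limits Opposite Abelian

namespace Groth.Agent.CohtopA.ExtLim

variable {A : Type u} [Category.{v} A] [Abelian A] {B : Type u'} [Category.{v'} B] [Abelian B]
  [HasExt.{w} A] [HasExt.{w'} B]
  (i : A ⥤ B) [i.Additive] [PreservesFiniteLimits i] [PreservesFiniteColimits i]
  {J : Type u''} [Category.{v''} J] {P : Jᵒᵖ ⥤ A} {G : B} (a : ∀ j : J, G ⟶ i.obj (P.obj (op j)))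

/-- The comparison map `Ext^n(P_j, F) → Ext^n(G, i F)`. -/
noncomputable def cmp (j : J) (F : A) (n : ℕ) :
    Ext.{w} (P.obj (op j)) F n →+ Ext.{w'} G (i.obj F) n where
  toFun x := (Ext.mk₀ (a j)).comp (x.mapExactFunctor i) (zero_add n)
  map_zero' := by simp
  map_add' x y := by simp

theorem cmp_apply (j : J) (F : A) (n : ℕ) (x : Ext.{w} (P.obj (op j)) F n) :
    cmp i a j F n x = (Ext.mk₀ (a j)).comp (x.mapExactFunctor i) (zero_add n) := rfl

theorem cmp_comp (j : J) {F F' : A} {n m k : ℕ} (h : n + m = k)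
    (x : Ext.{w} (P.obj (op j)) F n) (y : Ext.{w} F F' m) :
    cmp i a j F' k (x.comp y h) = (cmp i a j F n x).comp (y.mapExactFunctor i) h := by
  rw [cmp_apply, cmp_apply, Ext.mapExactFunctor_comp, Ext.comp_assoc]
  all_goals lia

variable (ha : ∀ {j k : J} (f : j ⟶ k), a k ≫ i.map (P.map f.op) = a j)

include ha in
theorem cmp_map {j k : J} (f : j ⟶ k) (F : A) (n : ℕ) (x : Ext.{w} (P.obj (op j)) F n) :
    cmp i a k F n ((Ext.mk₀ (P.map f.op)).comp x (zero_add n)) = cmp i a j F n x := by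
  rw [cmp_apply, cmp_apply, Ext.mapExactFunctor_comp, Ext.mapExactFunctor_mk₀,
    ← Ext.comp_assoc (h := zero_add n) (h₁₂ := zero_add 0) (h₂₃ := zero_add n), Ext.mk₀_comp_mk₀,
    ha]

/-- Restriction along the transition maps. -/
noncomputable def tr {j k : J} (f : j ⟶ k) (F : A) (n : ℕ) :
    Ext.{w} (P.obj (op j)) F n →+ Ext.{w} (P.obj (op k)) F n where
  toFun x := (Ext.mk₀ (P.map f.op)).comp x (zero_add n)
  map_zero' := by simp
  map_add' x y := by simp

omit [HasExt.{w'} B] in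
theorem tr_comp {j k : J} (f : j ⟶ k) {F F' : A} {n m l : ℕ} (h : n + m = l)
    (x : Ext.{w} (P.obj (op j)) F n) (y : Ext.{w} F F' m) :
    tr f F' l (x.comp y h) = (tr f F n x).comp y h := by
  change (Ext.mk₀ (P.map f.op)).comp (x.comp y h) (zero_add l) =
    ((Ext.mk₀ (P.map f.op)).comp x (zero_add n)).comp y h
  rw [Ext.comp_assoc]
  lia

omit [HasExt.{w'} B] in
theorem tr_tr {j k l : J} (f : j ⟶ k) (g : k ⟶ l) (F : A) (n : ℕ)
    (x : Ext.{w} (P.obj (op j)) F n) : tr g F n (tr f F n x) = tr (f ≫ g) F n x := by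
  change (Ext.mk₀ (P.map g.op)).comp ((Ext.mk₀ (P.map f.op)).comp x (zero_add n)) (zero_add n) =
    (Ext.mk₀ (P.map (f ≫ g).op)).comp x (zero_add n)
  rw [← Ext.comp_assoc (h := by lia) (h₁₂ := zero_add 0), Ext.mk₀_comp_mk₀, ← P.map_comp]
  rfl

include ha in
theorem cmp_tr {j k : J} (f : j ⟶ k) (F : A) (n : ℕ) (x : Ext.{w} (P.obj (op j)) F n) :
    cmp i a k F n (tr f F n x) = cmp i a j F n x :=
  cmp_map i a ha f F n x

/-- `Ext^n(G, i F)` is the filtered colimit of the `Ext^n(P_j, F)`, elementwise. -/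
def IsLim (n : ℕ) : Prop := ∀ F : A,
  (∀ y : Ext.{w'} G (i.obj F) n, ∃ (j : J) (x : Ext.{w} (P.obj (op j)) F n), cmp i a j F n x = y) ∧
  (∀ (j : J) (x : Ext.{w} (P.obj (op j)) F n), cmp i a j F n x = 0 →
    ∃ (k : J) (f : j ⟶ k), tr f F n x = 0)

include ha in
theorem isLim [EnoughInjectives A] [IsFiltered J]
    (hI : ∀ (I : A) [Injective I] (n : ℕ) (x : Ext.{w'} G (i.obj I) (n + 1)), x = 0)
    (h0 : IsLim i a 0) (n : ℕ) : IsLim i a n := by
  induction n with
  | zero => exact h0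
  | succ n ih =>
    intro F
    let S : ShortComplex A := ShortComplex.mk (Injective.ι F) (cokernel.π (Injective.ι F)) (by simp)
    have hS : S.ShortExact :=
      { exact := ShortComplex.exact_of_g_is_cokernel _ (cokernelIsCokernel _) }
    have hS' := hS.map_of_exact i
    have hδ : ∀ (j : J) (z : Ext.{w} (P.obj (op j)) S.X₃ n),
        cmp i a j F (n + 1) (z.comp hS.extClass rfl) = (cmp i a j S.X₃ n z).comp hS'.extClass rfl := by
      intro j z
      rw [cmp_comp, Ext.mapExactFunctor_extClass]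
      rfl
    constructor
    · intro y
      obtain ⟨z, rfl⟩ := Ext.covariant_sequence_exact₁ G hS' y (hI _ n _) rfl
      obtain ⟨j, x, rfl⟩ := (ih _).1 z
      exact ⟨j, x.comp hS.extClass rfl, hδ j x⟩
    · intro j x hx
      obtain ⟨z, rfl⟩ := Ext.covariant_sequence_exact₁ _ hS x (Ext.eq_zero_of_injective _) rfl
      have hx' := (hδ j z).symm.trans hx
      obtain ⟨w, hw⟩ := Ext.covariant_sequence_exact₃ G hS' _ rfl hx'
      obtain ⟨k, v, rfl⟩ := (ih _).1 w
      have e : cmp i a k S.X₃ n (v.comp (Ext.mk₀ S.g) (add_zero n)) = cmp i a j S.X₃ n z := by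
        rw [cmp_comp, Ext.mapExactFunctor_mk₀]
        exact hw
      have e' : cmp i a _ S.X₃ n (tr (IsFiltered.rightToMax j k) S.X₃ n
          (v.comp (Ext.mk₀ S.g) (add_zero n)) - tr (IsFiltered.leftToMax j k) S.X₃ n z) = 0 := by
        rw [map_sub, cmp_tr i a ha, cmp_tr i a ha, e, sub_self]
      obtain ⟨l, f, hf⟩ := (ih _).2 _ _ e'
      refine ⟨l, IsFiltered.leftToMax j k ≫ f, ?_⟩
      rw [map_sub, sub_eq_zero, tr_tr, tr_tr] at hf
      rw [tr_comp, ← hf, tr_comp, Ext.comp_assoc (h := by lia) (h₂₃ := zero_add 1),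
        hS.comp_extClass, Ext.comp_zero]

end Groth.Agent.CohtopA.ExtLim
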