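import Mathlib.RingTheory.Flat.TorsionFree
import Mathlib.RingTheory.Flat.Basic
import Mathlib.LinearAlgebra.TensorProduct.RightExactness
import Mathlib.RingTheory.DedekindDomain.Basic

/-!
# An injection with flat cokernel stays injective after tensoring
-/

set_option autoImplicit false
universe u v w x y

namespace Groth.Agent.CohtopA.FlatCoker

open TensorProduct

variable {R : Type u} [CommRing R]

theorem aux {N' : Type v} {N : Type w} {N'' : Type x}
    [AddCommGroup N'] [AddCommGroup N] [AddCommGroup N''] [Module R N'] [Module R N] [Module R N'']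
    (f : N' →ₗ[R] N) (g : N →ₗ[R] N'') (hf : Function.Injective f) (hfg : Function.Exact f g)
    (hg : Function.Surjective g) [Module.Flat R N'']
    {K : Type*} {F : Type*} {M : Type y} [AddCommGroup M] [Module R M] [AddCommGroup K] [Module R K]
    [AddCommGroup F] [Module R F] [Module.Flat R F] (i : K →ₗ[R] F) (p : F →ₗ[R] M)
    (hi : Function.Injective i) (hip : Function.Exact i p) (hp : Function.Surjective p) :
    Function.Injective (f.lTensor M) := by
  rw [injective_iff_map_eq_zero]
  intro x hx
  obtain ⟨y, rfl⟩ := LinearMap.rTensor_surjective N' hp x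
  -- the image of `y` in `F ⊗ N` comes from `K ⊗ N`
  have h1 : p.rTensor N (f.lTensor F y) = 0 := by
    rw [← hx, ← LinearMap.comp_apply, ← LinearMap.comp_apply, LinearMap.rTensor_comp_lTensor,
      LinearMap.lTensor_comp_rTensor]
  obtain ⟨z, hz⟩ := (rTensor_exact N hip hp _).1 h1
  -- `z` dies in `K ⊗ N''`
  have h2 : g.lTensor K z = 0 := by
    apply Module.Flat.rTensor_preserves_injective_linearMap (M := N'') i hi
    rw [map_zero, ← LinearMap.comp_apply, LinearMap.rTensor_comp_lTensor,
      ← LinearMap.lTensor_comp_rTensor, LinearMap.comp_apply, hz, ← LinearMap.comp_apply,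
      ← LinearMap.lTensor_comp]
    have : g.comp f = 0 := hfg.linearMap_comp_eq_zero
    rw [this]
    simp
  obtain ⟨z', rfl⟩ := (lTensor_exact K hfg hg _).1 h2
  -- conclude
  have h3 : y = i.rTensor N' z' := by
    apply Module.Flat.lTensor_preserves_injective_linearMap (M := F) f hf
    rw [← hz, ← LinearMap.comp_apply, ← LinearMap.comp_apply, LinearMap.rTensor_comp_lTensor,
      LinearMap.lTensor_comp_rTensor]
  rw [h3, ← LinearMap.comp_apply, ← LinearMap.rTensor_comp, hip.linearMap_comp_eq_zero]
  simp

/-- If `0 → N' → N → N'' → 0` is exact and `N''` is flat, `M ⊗ N' → M ⊗ N` is injective. -/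
theorem lTensor_injective_of_flat_coker {N' : Type v} {N : Type w} {N'' : Type x}
    [AddCommGroup N'] [AddCommGroup N] [AddCommGroup N''] [Module R N'] [Module R N] [Module R N'']
    (f : N' →ₗ[R] N) (g : N →ₗ[R] N'') (hf : Function.Injective f) (hfg : Function.Exact f g)
    (hg : Function.Surjective g) [Module.Flat R N'']
    (M : Type y) [AddCommGroup M] [Module R M] : Function.Injective (f.lTensor M) := by
  -- a free cover of `M`
  let p : (M →₀ R) →ₗ[R] M := Finsupp.linearCombination R id
  have hp : Function.Surjective p := fun m => ⟨Finsupp.single m 1, by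
    simp only [p, Finsupp.linearCombination_single, one_smul, id]⟩
  let K : Submodule R (M →₀ R) := LinearMap.ker p
  exact aux f g hf hfg hg (K := K) (F := M →₀ R) K.subtype p K.injective_subtype
    (LinearMap.exact_subtype_ker_map p) hp

/-- If `f : N' → N` is an injective map of abelian groups with torsion-free cokernel
then `M ⊗ N' → M ⊗ N` is injective. -/
theorem lTensor_injective_of_pure {N' : Type v} {N : Type w}
    [AddCommGroup N'] [AddCommGroup N] (f : N' →ₗ[ℤ] N) (hf : Function.Injective f)
    (hp : ∀ (n : ℕ) (_ : n ≠ 0) (a : N), (∃ b, f b = n • a) → ∃ b, f b = a)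
    (M : Type y) [AddCommGroup M] : Function.Injective (f.lTensor M) := by
  have : Module.Flat ℤ (N ⧸ LinearMap.range f) := by
    rw [IsDedekindDomain.flat_iff_torsion_eq_bot, eq_bot_iff]
    intro x hx
    obtain ⟨a, rfl⟩ := Submodule.Quotient.mk_surjective _ x
    obtain ⟨⟨n, hn⟩, hna⟩ := hx
    have hn0 : n ≠ 0 := nonZeroDivisors.ne_zero hn
    have h1 : Submodule.Quotient.mk (p := LinearMap.range f) (n.natAbs • a) = 0 := by
      have h2 : Submodule.Quotient.mk (p := LinearMap.range f) (n • a) = 0 := hna
      rw [Submodule.Quotient.mk_eq_zero] at h2 ⊢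
      rcases Int.natAbs_eq n with h3 | h3
      · rw [h3, natCast_zsmul] at h2
        exact h2
      · rw [h3, neg_smul, natCast_zsmul] at h2
        exact (Submodule.neg_mem_iff _).1 h2
    rw [Submodule.Quotient.mk_eq_zero] at h1
    obtain ⟨b, hb⟩ := hp n.natAbs (by simpa using hn0) a h1
    rw [Submodule.mem_bot, Submodule.Quotient.mk_eq_zero]
    exact ⟨b, hb⟩
  exact lTensor_injective_of_flat_coker f (LinearMap.range f).mkQ hf
    (LinearMap.exact_map_mkQ_range f) (Submodule.mkQ_surjective _) M

end Groth.Agent.CohtopA.FlatCoker
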