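import Mathlib.RingTheory.OrderOfVanishing.Noetherian
import Mathlib.RingTheory.Valuation.Discrete.IsDiscreteValuationRing
import Mathlib.RingTheory.DiscreteValuationRing.Basic
import Mathlib.RingTheory.Ideal.UFD
import Mathlib.RingTheory.Ideal.KrullsHeightTheorem
import Mathlib.RingTheory.Ideal.AssociatedPrime.Finiteness
import Groth.Agent.Etalg.NormalDvr

/-!
# Orders of rational functions on a Noetherian domain with factorial local rings
-/

set_option autoImplicit false
set_option linter.unusedSectionVars false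

universe u v w t

namespace Groth.Agent.CohtopA.GmDivAlg

open IsLocalRing WithZero

section OrdL

variable (R : Type u) [CommRing R] [IsDomain R] (K : Type v) [Field K] [Algebra R K] [IsFractionRing R K]

open Classical in
/-- The order of a nonzero element of the fraction field of a discrete valuation ring; zero for other domains. -/
noncomputable def ordL : Additive Kˣ →+ ℤ :=
  if _h : IsDiscreteValuationRing R then
    (MonoidHom.toAdditiveLeft ((WithZero.unitsWithZeroEquiv (α := Multiplicative ℤ)).toMonoidHom.comp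
      (Units.map (Ring.ordFrac R : K →*₀ ℤᵐ⁰).toMonoidHom)))
  else 0

variable {K}

theorem coe_ordL [h : IsDiscreteValuationRing R] (f : Kˣ) :
    WithZero.exp (ordL R K (Additive.ofMul f)) = Ring.ordFrac R (f : K) := by
  rw [ordL, dif_pos h]
  exact WithZero.coe_unitsWithZeroEquiv_eq_units_val (Units.map (Ring.ordFrac R : K →*₀ ℤᵐ⁰).toMonoidHom f)

theorem ordL_eq_iff [IsDiscreteValuationRing R] (f : Kˣ) (n : ℤ) :
    ordL R K (Additive.ofMul f) = n ↔ Ring.ordFrac R (f : K) = WithZero.exp n := by
  rw [← coe_ordL]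
  exact ⟨fun h => by rw [h], fun h => WithZero.exp_injective h⟩

theorem ordL_of_not (h : ¬ IsDiscreteValuationRing R) : ordL R K = 0 := by
  rw [ordL, dif_neg h]

theorem ordL_of_isUnit (f : Kˣ) (x : R) (hx : IsUnit x) (h : algebraMap R K x = f) :
    ordL R K (Additive.ofMul f) = 0 := by
  by_cases h' : IsDiscreteValuationRing R
  · rw [ordL_eq_iff, ← h]
    exact Ring.ordFrac_of_isUnit hx
  · rw [ordL_of_not R h']
    rfl

theorem ordL_irreducible [IsDiscreteValuationRing R] (f : Kˣ) (x : R) (hx : Irreducible x)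
    (h : algebraMap R K x = f) : ordL R K (Additive.ofMul f) = 1 := by
  rw [ordL_eq_iff, ← h]
  exact Ring.ordFrac_irreducible hx

/-- An element of order zero is a unit of the valuation ring. -/
theorem exists_unit_of_ordL_eq_zero [IsDiscreteValuationRing R] (f : Kˣ)
    (h : ordL R K (Additive.ofMul f) = 0) : ∃ x : Rˣ, algebraMap R K x = f := by
  rw [ordL_eq_iff] at h
  have h1 : Ring.ordFrac R (1 : K) = Ring.ordFrac R (f : K) := by
    rw [h, map_one]
    rfl
  obtain ⟨x, hx⟩ := Ring.associated_of_ordFrac_eq _ _ h1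
  exact ⟨x, by rw [← hx, Units.smul_def, Algebra.smul_def, mul_one]⟩

/-- The order of a unit times a power of a uniformizer. -/
theorem ordL_unit_mul_zpow [IsDiscreteValuationRing R] (f : Kˣ) (x : Rˣ) (ϖ : R) (hϖ : Irreducible ϖ) (n : ℤ)
    (h : (f : K) = algebraMap R K x * algebraMap R K ϖ ^ n) : ordL R K (Additive.ofMul f) = n := by
  have h0 : algebraMap R K ϖ ≠ 0 := by
    rw [Ne, FaithfulSMul.algebraMap_eq_zero_iff]
    exact hϖ.ne_zero
  have h1 : f = Units.map (algebraMap R K).toMonoidHom x * Units.mk0 _ h0 ^ n := by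
    apply Units.ext
    rw [h, Units.val_mul, Units.val_zpow_eq_zpow_val]
    rfl
  rw [h1, ofMul_mul, map_add, ofMul_zpow, map_zsmul, ordL_of_isUnit R _ (x : R) x.isUnit rfl,
    ordL_irreducible R _ ϖ hϖ rfl, zero_add, smul_eq_mul, mul_one]

/-- Every element is a unit times a power of a given uniformizer. -/
theorem exists_eq_mul_zpow [IsDiscreteValuationRing R] (f : Kˣ) (ϖ : R) (hϖ : Irreducible ϖ) :
    ∃ x : Rˣ, (f : K) = algebraMap R K x * algebraMap R K ϖ ^ (ordL R K (Additive.ofMul f)) := by
  have h0 : algebraMap R K ϖ ≠ 0 := by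
    rw [Ne, FaithfulSMul.algebraMap_eq_zero_iff]
    exact hϖ.ne_zero
  obtain ⟨x, hx⟩ := exists_unit_of_ordL_eq_zero R
    (f * (Units.mk0 _ h0 ^ (ordL R K (Additive.ofMul f)))⁻¹) (by
      rw [ofMul_mul, map_add, ofMul_inv, map_neg, ofMul_zpow, map_zsmul,
        ordL_irreducible R (Units.mk0 _ h0) ϖ hϖ rfl, smul_eq_mul, mul_one, add_neg_cancel])
  refine ⟨x, ?_⟩
  rw [hx, Units.val_mul, Units.val_inv_eq_inv_val, Units.val_zpow_eq_zpow_val, Units.val_mk0]
  field_simp

/-- Compatibility of orders with an unramified extension of discrete valuation rings. -/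
theorem ordL_map {S : Type w} [CommRing S] [IsDomain S] {L : Type t} [Field L] [Algebra S L]
    [IsFractionRing S L] [IsDiscreteValuationRing R] [IsDiscreteValuationRing S]
    (φ : R →+* S) (ψ : K →+* L) (h : ∀ x, ψ (algebraMap R K x) = algebraMap S L (φ x))
    (hφ : (maximalIdeal R).map φ = maximalIdeal S) (f : Kˣ) :
    ordL S L (Additive.ofMul (Units.map ψ.toMonoidHom f)) = ordL R K (Additive.ofMul f) := by
  obtain ⟨ϖ, hϖ⟩ := IsDiscreteValuationRing.exists_irreducible R
  obtain ⟨x, hx⟩ := exists_eq_mul_zpow R f ϖ hϖ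
  have h1 : Irreducible (φ ϖ) := by
    rw [IsDiscreteValuationRing.irreducible_iff_uniformizer, ← hφ, hϖ.maximalIdeal_eq, Ideal.map_span,
      Set.image_singleton]
  refine ordL_unit_mul_zpow S _ (Units.map φ.toMonoidHom x) (φ ϖ) h1 _ ?_
  change ψ (f : K) = algebraMap S L (φ x) * _
  conv_lhs => rw [hx]
  rw [map_mul, map_zpow₀, h, h]

end OrdL

section Dvr

/-- A Noetherian factorial local ring of dimension one is a discrete valuation ring. -/
theorem isDVR (R : Type u) [CommRing R] [IsDomain R] [IsLocalRing R] [IsNoetherianRing R]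
    [UniqueFactorizationMonoid R] (h : (maximalIdeal R).height = 1) : IsDiscreteValuationRing R := by
  have h1 := UniqueFactorizationMonoid.isPrincipal_of_height_eq_one h
  have hf : ¬ IsField R := by
    intro hf
    rw [IsLocalRing.isField_iff_maximalIdeal_eq] at hf
    have := Ideal.ne_bot_of_height_eq_one h
    exact this hf
  exact ((IsDiscreteValuationRing.TFAE R hf).out 4 0).mp h1

end Dvr

section Global

variable {A : Type u} [CommRing A] [IsDomain A] [IsNoetherianRing A] {K : Type v} [Field K] [Algebra A K]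
  [IsFractionRing A K]

theorem finite_of_mem {a : A} (ha : a ≠ 0) : {p : PrimeSpectrum A | p.asIdeal.height = 1 ∧ a ∈ p.asIdeal}.Finite := by
  have h1 := (Ideal.span {a}).finite_minimalPrimes_of_isNoetherianRing A
  refine Set.Finite.of_finite_image (f := PrimeSpectrum.asIdeal) (h1.subset ?_) ?_
  · rintro _ ⟨p, ⟨h2, h3⟩, rfl⟩
    have : p.asIdeal.FiniteHeight := by simp [p.asIdeal.finiteHeight_iff, h2]
    refine Ideal.mem_minimalPrimes_of_height_le ((Ideal.span_singleton_le_iff_mem _).2 h3) ?_
    rw [h2, Order.one_le_iff_pos, pos_iff_ne_zero, Ne, Ideal.height_eq_zero_iff_eq_bot,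
      Ideal.span_singleton_eq_bot]
    exact ha
  · intro p _ q _ h
    exact PrimeSpectrum.ext h

/-- Finiteness of the support of the divisor of a rational function. -/
theorem finite_ord (f : Kˣ) : ∃ Z : Set (PrimeSpectrum A), Z.Finite ∧ ∀ p : PrimeSpectrum A, p ∉ Z →
    p.asIdeal.height = 1 → ∀ (B : Type w) [CommRing B] [IsDomain B] [Algebra A B]
      [IsLocalization.AtPrime B p.asIdeal] [Algebra B K] [IsFractionRing B K] [IsScalarTower A B K],
      ordL B K (Additive.ofMul f) = 0 := by
  obtain ⟨a, b, hb, hab⟩ := IsFractionRing.div_surjective (A := A) (f : K)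
  have hb0 : b ≠ 0 := nonZeroDivisors.ne_zero hb
  have ha0 : a ≠ 0 := by
    rintro rfl
    rw [map_zero, zero_div] at hab
    exact f.ne_zero hab.symm
  refine ⟨_, (finite_of_mem ha0).union (finite_of_mem hb0), fun p hp h1 B _ _ _ _ _ _ _ => ?_⟩
  rw [Set.mem_union, not_or] at hp
  have ha : a ∉ p.asIdeal := fun h => hp.1 ⟨h1, h⟩
  have hb' : b ∉ p.asIdeal := fun h => hp.2 ⟨h1, h⟩
  have ua : IsUnit (algebraMap A B a) := IsLocalization.map_units B (⟨a, ha⟩ : p.asIdeal.primeCompl)
  have ub : IsUnit (algebraMap A B b) := IsLocalization.map_units B (⟨b, hb'⟩ : p.asIdeal.primeCompl)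
  obtain ⟨ub, hub⟩ := ub
  refine ordL_of_isUnit B f (algebraMap A B a * (ub⁻¹ : Bˣ)) (ua.mul ub⁻¹.isUnit) ?_
  have h2 : algebraMap B K (algebraMap A B b) * algebraMap B K ((ub⁻¹ : Bˣ) : B) = 1 := by
    rw [← map_mul, ← hub, Units.mul_inv, map_one]
  rw [← IsScalarTower.algebraMap_apply] at h2
  have h3 : algebraMap A K b ≠ 0 := by
    intro h
    rw [h, zero_mul] at h2
    exact zero_ne_one h2
  rw [map_mul, ← IsScalarTower.algebraMap_apply, ← hab, eq_inv_of_mul_eq_one_right h2, div_eq_mul_inv]

/-- Near a prime `q` with factorial local ring every prime of height one is principal. -/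
theorem exists_generator (q : Ideal A) [q.IsPrime] [UniqueFactorizationMonoid (Localization.AtPrime q)]
    (p : Ideal A) [p.IsPrime] (hp : p.height = 1) :
    ∃ g π : A, g ∉ q ∧ π ≠ 0 ∧ (g ∈ p ∨ (π ∈ p ∧ ∀ x ∈ p, ∃ y, g * x = y * π)) := by
  by_cases hle : p ≤ q
  · have hdisj : Disjoint (q.primeCompl : Set A) (p : Set A) := by
      rw [Set.disjoint_left]
      exact fun x hx hx' => hx (hle hx')
    have hprime := IsLocalization.isPrime_of_isPrime_disjoint q.primeCompl (Localization.AtPrime q) p ‹_› hdisj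
    have hunder := IsLocalization.under_map_of_isPrime_disjoint q.primeCompl (Localization.AtPrime q) ‹_› hdisj
    have hht : (p.map (algebraMap A (Localization.AtPrime q))).height = 1 := by
      rw [← IsLocalization.height_under q.primeCompl, hunder, hp]
    obtain ⟨z, hz⟩ := UniqueFactorizationMonoid.isPrincipal_of_height_eq_one hht
    obtain ⟨π, s, rfl⟩ := IsLocalization.exists_mk'_eq q.primeCompl z
    have hinj : Function.Injective (algebraMap A (Localization.AtPrime q)) :=
      IsLocalization.injective _ q.primeCompl_le_nonZeroDivisors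
    have hu : IsUnit (algebraMap A (Localization.AtPrime q) s) := IsLocalization.map_units _ s
    have hspan : p.map (algebraMap A (Localization.AtPrime q)) =
        Ideal.span {algebraMap A (Localization.AtPrime q) π} := by
      rw [hz, ← Ideal.submodule_span_eq]
      conv_rhs => rw [← IsLocalization.mk'_spec _ π s]
      exact (Ideal.span_singleton_mul_right_unit hu _).symm
    have hπ : π ∈ p := by
      rw [← hunder, Ideal.under_def, Ideal.mem_comap, hspan]
      exact Ideal.mem_span_singleton_self _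
    have hπ0 : π ≠ 0 := by
      rintro rfl
      rw [map_zero, Ideal.span_singleton_zero] at hspan
      rw [hspan, Ideal.height_bot] at hht
      exact zero_ne_one hht
    have key : ∀ x ∈ p, ∃ t y : A, t ∉ q ∧ t * x = y * π := by
      intro x hx
      have h1 := Ideal.mem_map_of_mem (algebraMap A (Localization.AtPrime q)) hx
      rw [hspan, Ideal.mem_span_singleton'] at h1
      obtain ⟨c, hc⟩ := h1
      obtain ⟨y, t, rfl⟩ := IsLocalization.exists_mk'_eq q.primeCompl c
      refine ⟨t, y, t.2, hinj ?_⟩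
      rw [map_mul, map_mul, ← hc, ← IsLocalization.mk'_spec _ y t]
      ring
    choose! t y ht hty using key
    obtain ⟨G, hG⟩ := (isNoetherianRing_iff_ideal_fg A).1 ‹_› p
    have hGp : ∀ x ∈ G, x ∈ p := fun x hx => by
      rw [← hG]
      exact Ideal.subset_span hx
    refine ⟨∏ x ∈ G, t x, π, ?_, hπ0, Or.inr ⟨hπ, ?_⟩⟩
    · intro h
      obtain ⟨x, hx, hx'⟩ := (Ideal.IsPrime.prod_mem_iff (s := G) (x := t) (p := q)).1 h
      exact ht x (hGp x hx) hx'
    · intro x hx
      have h1 : p ≤ Submodule.comap (LinearMap.mulLeft A (∏ x ∈ G, t x)) (Ideal.span {π}) := by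
        rw [← hG]
        refine Ideal.span_le.2 fun x hx => ?_
        change (∏ x ∈ G, t x) * x ∈ Ideal.span {π}
        obtain ⟨k, hk⟩ := Finset.dvd_prod_of_mem t hx
        rw [hk, mul_right_comm, hty x (hGp x hx), Ideal.mem_span_singleton']
        exact ⟨y x * k, by ring⟩
      obtain ⟨w, hw⟩ := Ideal.mem_span_singleton'.1 (h1 hx)
      exact ⟨w, hw.symm⟩
  · obtain ⟨g, hg, hg'⟩ := Set.not_subset.1 hle
    exact ⟨g, 1, hg', one_ne_zero, Or.inl hg⟩

/-- Near a prime `q` with factorial local ring, every prime divisor is principal. -/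
theorem exists_local_eq (q : Ideal A) [q.IsPrime] [UniqueFactorizationMonoid (Localization.AtPrime q)]
    (p : PrimeSpectrum A) (hp : p.asIdeal.height = 1) :
    ∃ (g : A) (f : Kˣ), g ∉ q ∧ ∀ p' : PrimeSpectrum A, p'.asIdeal.height = 1 → g ∉ p'.asIdeal →
      ∀ (B : Type w) [CommRing B] [IsDomain B] [Algebra A B] [IsLocalization.AtPrime B p'.asIdeal]
        [Algebra B K] [IsFractionRing B K] [IsScalarTower A B K] [IsDiscreteValuationRing B],
      (p' = p → ordL B K (Additive.ofMul f) = 1) ∧ (p' ≠ p → ordL B K (Additive.ofMul f) = 0) := by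
  obtain ⟨g, π, hg, hπ0, h⟩ := exists_generator q p.asIdeal hp
  rcases h with h | ⟨hπ, h⟩
  · refine ⟨g, 1, hg, fun p' _ hgp' B _ _ _ _ _ _ _ _ => ⟨?_, fun _ => ?_⟩⟩
    · rintro rfl
      exact absurd h hgp'
    · exact map_zero _
  · have hπK : algebraMap A K π ≠ 0 := by rwa [Ne, FaithfulSMul.algebraMap_eq_zero_iff]
    refine ⟨g, Units.mk0 _ hπK, hg, fun p' hp' hgp' B _ _ _ _ _ _ _ _ => ⟨?_, fun hne => ?_⟩⟩
    · rintro rfl
      refine ordL_irreducible B _ (algebraMap A B π) ?_ (IsScalarTower.algebraMap_apply A B K π).symm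
      rw [IsDiscreteValuationRing.irreducible_iff_uniformizer]
      have h1 : maximalIdeal B = p'.asIdeal.map (algebraMap A B) :=
        (IsLocalization.AtPrime.map_eq_maximalIdeal p'.asIdeal B).symm
      rw [h1]
      refine le_antisymm (Ideal.map_le_iff_le_comap.2 fun x hx => ?_) ?_
      · obtain ⟨y, hy⟩ := h x hx
        have hu : IsUnit (algebraMap A B g) := IsLocalization.map_units B (⟨g, hgp'⟩ : p'.asIdeal.primeCompl)
        rw [Ideal.mem_comap]
        have h2 : algebraMap A B g * algebraMap A B x ∈ Ideal.span {algebraMap A B π} := by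
          rw [← map_mul, hy, map_mul]
          exact Ideal.mul_mem_left _ _ (Ideal.mem_span_singleton_self _)
        exact (Ideal.unit_mul_mem_iff_mem _ hu).1 h2
      · rw [Ideal.span_singleton_le_iff_mem]
        exact Ideal.mem_map_of_mem _ hπ
    · have hπ' : π ∉ p'.asIdeal := by
        intro hπ'
        have hle : p.asIdeal ≤ p'.asIdeal := by
          intro x hx
          obtain ⟨y, hy⟩ := h x hx
          have h2 : g * x ∈ p'.asIdeal := by
            rw [hy]
            exact Ideal.mul_mem_left _ _ hπ'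
          exact (p'.isPrime.mem_or_mem h2).resolve_left hgp'
        apply hne
        apply PrimeSpectrum.ext
        by_contra hne'
        have : p.asIdeal.FiniteHeight := by simp [p.asIdeal.finiteHeight_iff, hp]
        have h3 := Ideal.height_strict_mono_of_isPrime_of_isPrime (lt_of_le_of_ne hle (Ne.symm hne'))
        rw [hp, hp'] at h3
        exact lt_irrefl _ h3
      exact ordL_of_isUnit B _ (algebraMap A B π)
        (IsLocalization.map_units B (⟨π, hπ'⟩ : p'.asIdeal.primeCompl))
        (IsScalarTower.algebraMap_apply A B K π).symm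

/-- Near a prime `q` with factorial local ring, every divisor is principal. -/
theorem exists_of_divisor (q : Ideal A) [q.IsPrime] [UniqueFactorizationMonoid (Localization.AtPrime q)]
    (n : PrimeSpectrum A → ℤ) (Z : Set (PrimeSpectrum A)) (hZ : Z.Finite)
    (hn : ∀ p : PrimeSpectrum A, p.asIdeal.height = 1 → p ∉ Z → n p = 0) :
    ∃ (g : A) (f : Kˣ), g ∉ q ∧ ∀ p : PrimeSpectrum A, p.asIdeal.height = 1 → g ∉ p.asIdeal →
      ∀ (B : Type w) [CommRing B] [IsDomain B] [Algebra A B] [IsLocalization.AtPrime B p.asIdeal]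
        [Algebra B K] [IsFractionRing B K] [IsScalarTower A B K] [IsDiscreteValuationRing B],
      ordL B K (Additive.ofMul f) = n p := by
  classical
  obtain ⟨Z, rfl⟩ := hZ.exists_finset_coe
  induction Z using Finset.induction_on generalizing n with
  | empty =>
    refine ⟨1, 1, fun h => q.ne_top_iff_one.1 Ideal.IsPrime.ne_top' h, fun p hp _ B _ _ _ _ _ _ _ _ => ?_⟩
    rw [hn p hp (by simp)]
    exact map_zero _
  | insert z Z hz ih =>
    obtain ⟨g₁, f₁, hg₁, h₁⟩ := ih (fun p => if p = z then 0 else n p) (Finset.finite_toSet _) (by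
      intro p hp hpZ
      by_cases hpz : p = z
      · simp [hpz]
      · simp only [hpz, if_false]
        refine hn p hp ?_
        simpa [hpz] using hpZ)
    by_cases hz1 : z.asIdeal.height = 1
    · obtain ⟨g₂, f₂, hg₂, h₂⟩ := exists_local_eq (K := K) q z hz1
      refine ⟨g₁ * g₂, f₁ * f₂ ^ n z, fun h => ?_, fun p hp hgp B _ _ _ _ _ _ _ _ => ?_⟩
      · exact (‹q.IsPrime›.mem_or_mem h).elim hg₁ hg₂
      · have e₁ := h₁ p hp (fun h => hgp (Ideal.mul_mem_right _ _ h)) B
        have e₂ := h₂ p hp (fun h => hgp (Ideal.mul_mem_left _ _ h)) B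
        rw [ofMul_mul, map_add, ofMul_zpow, map_zsmul, e₁]
        by_cases hpz : p = z
        · rw [e₂.1 hpz, if_pos hpz, hpz]
          simp
        · rw [e₂.2 hpz, if_neg hpz]
          simp
    · refine ⟨g₁, f₁, hg₁, fun p hp hgp B _ _ _ _ _ _ _ _ => ?_⟩
      rw [h₁ p hp hgp B, if_neg]
      rintro rfl
      exact hz1 hp

/-- A rational function on a Noetherian normal domain which is a unit in codimension one is a unit. -/
theorem exists_unit_of_forall [IsIntegrallyClosed A] (f : Kˣ)
    (h : ∀ p : Ideal A, p.IsPrime → p.height = 1 →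
      ∃ a b : A, a ∉ p ∧ b ∉ p ∧ (f : K) * algebraMap A K b = algebraMap A K a) :
    ∃ a : Aˣ, algebraMap A K a = f := by
  have key : ∀ f : Kˣ, (∀ p : Ideal A, p.IsPrime → p.height = 1 →
      ∃ a b : A, a ∉ p ∧ b ∉ p ∧ (f : K) * algebraMap A K b = algebraMap A K a) →
      ∃ a : A, algebraMap A K a = f := by
    intro f h
    obtain ⟨r, s, hs, hrs⟩ := IsFractionRing.div_surjective (A := A) (f : K)
    have hs0 : s ≠ 0 := nonZeroDivisors.ne_zero hs
    have hsK : algebraMap A K s ≠ 0 := by
      rwa [Ne, FaithfulSMul.algebraMap_eq_zero_iff]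
    have h1 : r ∈ Ideal.span {s} := by
      refine Groth.Agent.Etalg.NormalDvr.mem_span_of_forall_height_one A hs0 ?_
      intro P hP hP1
      obtain ⟨a, s', _, hs', ha⟩ := h P hP hP1
      refine ⟨s', hs', ?_⟩
      rw [Ideal.mem_span_singleton']
      refine ⟨a, ?_⟩
      apply FaithfulSMul.algebraMap_injective A K
      rw [map_mul, map_mul, ← ha, ← hrs]
      field_simp
    obtain ⟨a, ha⟩ := Ideal.mem_span_singleton'.1 h1
    refine ⟨a, ?_⟩
    rw [← hrs, ← ha, map_mul]
    field_simp
  obtain ⟨a, ha⟩ := key f h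
  obtain ⟨b, hb⟩ := key f⁻¹ (by
    intro p hp hp1
    obtain ⟨a, b, ha, hb, hab⟩ := h p hp hp1
    refine ⟨b, a, hb, ha, ?_⟩
    rw [← hab, ← mul_assoc, Units.inv_mul, one_mul])
  have hab : a * b = 1 := by
    apply FaithfulSMul.algebraMap_injective A K
    rw [map_mul, ha, hb, Units.mul_inv, map_one]
  exact ⟨Units.mkOfMulEqOne a b hab, ha⟩

/-- A fraction of order zero at a prime with DVR local ring, in elementary terms. -/
theorem exists_fraction_of_ordL_eq_zero (p : Ideal A) [p.IsPrime] (B : Type w) [CommRing B] [IsDomain B]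
    [Algebra A B] [IsLocalization.AtPrime B p] [Algebra B K] [IsFractionRing B K] [IsScalarTower A B K]
    [IsDiscreteValuationRing B] (f : Kˣ) (h : ordL B K (Additive.ofMul f) = 0) :
    ∃ a b : A, a ∉ p ∧ b ∉ p ∧ (f : K) * algebraMap A K b = algebraMap A K a := by
  obtain ⟨x, hx⟩ := exists_unit_of_ordL_eq_zero B f h
  obtain ⟨a, b, hab⟩ := IsLocalization.exists_mk'_eq p.primeCompl (x : B)
  have h1 : (x : B) * algebraMap A B b = algebraMap A B a := by
    rw [← hab, IsLocalization.mk'_spec]
  refine ⟨a, b, ?_, b.2, ?_⟩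
  · have h2 : IsUnit (algebraMap A B a) := by
      rw [← h1]
      exact x.isUnit.mul (IsLocalization.map_units B b)
    exact (IsLocalization.AtPrime.isUnit_to_map_iff B p a).1 h2
  · rw [IsScalarTower.algebraMap_apply A B K, IsScalarTower.algebraMap_apply A B K, ← hx, ← map_mul, h1]

/-- A domain whose local rings are factorial is integrally closed. -/
theorem isIntegrallyClosed_of_ufd
    (h : ∀ (p : Ideal A) [p.IsPrime], UniqueFactorizationMonoid (Localization.AtPrime p)) :
    IsIntegrallyClosed A := by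
  refine IsIntegrallyClosed.of_localization_maximal fun p _ hp => ?_
  have := h p
  infer_instance

end Global

end Groth.Agent.CohtopA.GmDivAlg
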