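import Groth.Agent.CohtopA.FlatCoker
import Mathlib.Algebra.Category.ModuleCat.Presheaf
import Mathlib.Algebra.Category.ModuleCat.Presheaf.EpiMono

/-!
# The presheaf of modules `R ⊗_ℤ F` for a presheaf of abelian groups `F`

* `tens R F : PresheafOfModules R`, with `unit : F ⟶ (tens R F).presheaf` and the universal
  property `desc`;
* `mono_map` : `R ⊗ F → R ⊗ G` is a monomorphism if `F → G` is sectionwise injective with
  torsion-free cokernel.
-/

set_option autoImplicit false
universe w v u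

open CategoryTheory Opposite

namespace Groth.Agent.CohtopA.TensorPsh

section Algebra

variable {A B : Type w} [Ring A] [Ring B] {M N P : Type w} [AddCommGroup M] [AddCommGroup N]
  [AddCommGroup P] [Module A P]

/-- `f ⊗ g`. -/
noncomputable def tmap (f : A →+* B) (g : M →+ N) :
    TensorProduct ℤ A M →+ TensorProduct ℤ B N :=
  (TensorProduct.map f.toAddMonoidHom.toIntLinearMap g.toIntLinearMap).toAddMonoidHom

theorem tmap_tmul (f : A →+* B) (g : M →+ N) (a : A) (m : M) :
    tmap f g (a ⊗ₜ m) = f a ⊗ₜ g m := rfl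

theorem hom_ext' {Q : Type*} [AddCommMonoid Q] {φ ψ : TensorProduct ℤ A M →+ Q}
    (h : ∀ a m, φ (a ⊗ₜ m) = ψ (a ⊗ₜ m)) : φ = ψ := by
  ext x
  induction x using TensorProduct.induction_on with
  | zero => rw [map_zero, map_zero]
  | tmul a m => exact h a m
  | add x y hx hy => rw [map_add, map_add, hx, hy]

theorem tmap_smul (f : A →+* B) (g : M →+ N) (a : A) (x : TensorProduct ℤ A M) :
    tmap f g (a • x) = f a • tmap f g x := by
  induction x using TensorProduct.induction_on with
  | zero => rw [smul_zero, map_zero, smul_zero]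
  | tmul b m => rw [TensorProduct.smul_tmul', tmap_tmul, tmap_tmul, TensorProduct.smul_tmul',
      smul_eq_mul, smul_eq_mul, map_mul]
  | add x y hx hy => rw [smul_add, map_add, map_add, smul_add, hx, hy]

/-- The map `A ⊗ M → P`, `a ⊗ m ↦ a • g m`. -/
noncomputable def tdesc (g : M →+ P) : TensorProduct ℤ A M →+ P :=
  (TensorProduct.lift (LinearMap.mk₂ ℤ (fun (a : A) (m : M) => a • g m)
    (fun a b m => add_smul _ _ _) (fun n a m => by rw [smul_assoc])
    (fun a m m' => by rw [map_add, smul_add])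
    (fun n a m => by rw [map_zsmul, smul_comm]))).toAddMonoidHom

theorem tdesc_tmul (g : M →+ P) (a : A) (m : M) : tdesc g (a ⊗ₜ[ℤ] m) = a • g m := rfl

theorem tdesc_smul (g : M →+ P) (a : A) (x : TensorProduct ℤ A M) :
    tdesc g (a • x) = a • tdesc g x := by
  induction x using TensorProduct.induction_on with
  | zero => rw [smul_zero, map_zero, smul_zero]
  | tmul b m => rw [TensorProduct.smul_tmul', tdesc_tmul, tdesc_tmul, smul_eq_mul, mul_smul]
  | add x y hx hy => rw [smul_add, map_add, map_add, smul_add, hx, hy]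

end Algebra

variable {C : Type u} [Category.{v} C] (R : Cᵒᵖ ⥤ RingCat.{w})

/-- The presheaf of abelian groups `U ↦ R(U) ⊗_ℤ F(U)`. -/
noncomputable def tensAb (F : Cᵒᵖ ⥤ AddCommGrpCat.{w}) : Cᵒᵖ ⥤ AddCommGrpCat.{w} where
  obj U := AddCommGrpCat.of (TensorProduct ℤ (R.obj U) (F.obj U))
  map f := AddCommGrpCat.ofHom (tmap (R.map f).hom (F.map f).hom)
  map_id U := by
    apply AddCommGrpCat.hom_ext
    apply hom_ext'
    intro a m
    simp [tmap_tmul]
  map_comp f g := by
    apply AddCommGrpCat.hom_ext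
    apply hom_ext'
    intro a m
    simp [tmap_tmul]

noncomputable instance instModule (F : Cᵒᵖ ⥤ AddCommGrpCat.{w}) (U : Cᵒᵖ) :
    Module (R.obj U) ((tensAb R F).obj U) :=
  inferInstanceAs (Module (R.obj U) (TensorProduct ℤ (R.obj U) (F.obj U)))

/-- The presheaf of `R`-modules `U ↦ R(U) ⊗_ℤ F(U)`. -/
noncomputable def tens (F : Cᵒᵖ ⥤ AddCommGrpCat.{w}) : PresheafOfModules.{w} R :=
  PresheafOfModules.ofPresheaf (tensAb R F) (fun _ _ f r m =>
    tmap_smul (R.map f).hom (F.map f).hom r m)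

/-- The unit `F ⟶ R ⊗ F`. -/
noncomputable def unit (F : Cᵒᵖ ⥤ AddCommGrpCat.{w}) : F ⟶ (tens R F).presheaf where
  app U := AddCommGrpCat.ofHom (TensorProduct.mk ℤ (R.obj U) (F.obj U) 1).toAddMonoidHom
  naturality U V f := by
    ext x
    change (1 : R.obj V) ⊗ₜ[ℤ] (F.map f x) = (R.map f 1) ⊗ₜ[ℤ] (F.map f x)
    rw [map_one]

/-- Functoriality of `R ⊗ F` in `F`. -/
noncomputable def map {F G : Cᵒᵖ ⥤ AddCommGrpCat.{w}} (φ : F ⟶ G) : tens R F ⟶ tens R G :=
  PresheafOfModules.homMk (M₁ := tens R F) (M₂ := tens R G)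
    { app := fun U => AddCommGrpCat.ofHom (tmap (RingHom.id (R.obj U)) (φ.app U).hom)
      naturality := fun U V f => by
        apply AddCommGrpCat.hom_ext
        apply hom_ext'
        intro a m
        change (R.map f a) ⊗ₜ[ℤ] (φ.app V (F.map f m)) = (R.map f a) ⊗ₜ[ℤ] (G.map f (φ.app U m))
        rw [NatTrans.naturality_apply] }
    (fun U r m => tmap_smul (RingHom.id (R.obj U)) (φ.app U).hom r m)

variable {R}

/-- The universal property of `R ⊗ F`. -/
noncomputable def desc {F : Cᵒᵖ ⥤ AddCommGrpCat.{w}} {M : PresheafOfModules.{w} R}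
    (φ : F ⟶ M.presheaf) : tens R F ⟶ M :=
  PresheafOfModules.homMk (M₁ := tens R F) (M₂ := M)
    { app := fun U => AddCommGrpCat.ofHom (tdesc (P := M.obj U) (φ.app U).hom)
      naturality := fun U V f => by
        apply AddCommGrpCat.hom_ext
        apply hom_ext'
        intro a m
        have h1 : φ.app V (F.map f m) = M.presheaf.map f (φ.app U m) :=
          NatTrans.naturality_apply φ f m
        change (R.map f a) • (φ.app V (F.map f m) : M.obj V) = M.map f (a • (φ.app U m : M.obj U))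
        rw [h1]
        exact (PresheafOfModules.map_smul M f a (φ.app U m)).symm }
    (fun U r m => tdesc_smul (P := M.obj U) (φ.app U).hom r m)

theorem unit_desc {F : Cᵒᵖ ⥤ AddCommGrpCat.{w}} {M : PresheafOfModules.{w} R}
    (φ : F ⟶ M.presheaf) : unit R F ≫ (PresheafOfModules.toPresheaf R).map (desc φ) = φ := by
  ext U x
  change (1 : R.obj U) • (φ.app U x : M.obj U) = φ.app U x
  exact one_smul _ _

variable (R) in
theorem unit_map {F G : Cᵒᵖ ⥤ AddCommGrpCat.{w}} (φ : F ⟶ G) :
    unit R F ≫ (PresheafOfModules.toPresheaf R).map (map R φ) = φ ≫ unit R G := by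
  ext U x
  rfl

variable (R) in
theorem mono_map {F G : Cᵒᵖ ⥤ AddCommGrpCat.{w}} (φ : F ⟶ G)
    (hf : ∀ U, Function.Injective (φ.app U))
    (hp : ∀ (U : Cᵒᵖ) (n : ℕ) (_ : n ≠ 0) (a : G.obj U), (∃ b, φ.app U b = n • a) →
      ∃ b, φ.app U b = a) : Mono (map R φ) := by
  apply PresheafOfModules.mono_of_injective
  intro U
  exact FlatCoker.lTensor_injective_of_pure (φ.app U).hom.toIntLinearMap (hf U) (hp U) (R.obj U)

end Groth.Agent.CohtopA.TensorPsh
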