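import Groth.Agent.CohtopA.TFree
import Groth.Agent.CohtopA.TensorPsh
import Groth.Agent.CohtopA.ExtAdj
import Mathlib.Algebra.Category.ModuleCat.Sheaf.Abelian
import Mathlib.Algebra.Category.ModuleCat.Sheaf.Limits
import Mathlib.Algebra.Category.ModuleCat.Sheaf.Colimits
import Mathlib.Algebra.Category.ModuleCat.Presheaf.Colimits
import Mathlib.Algebra.Category.ModuleCat.Presheaf.Limits
import Mathlib.Algebra.Category.Grp.FilteredColimits
import Mathlib.Algebra.Homology.ShortComplex.Ab
import Mathlib.CategoryTheory.Sites.EpiMono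
import Mathlib.CategoryTheory.Sites.SheafCohomology.Basic

/-!
# Ext groups in the category of `O`-modules and cohomology of abelian sheaves

For a sheaf of rings `R` on a site and an injective `R`-module `I`:
* `exists_retraction` : a monomorphism of abelian sheaves `I ⟶ E` with torsion-free cokernel splits;
* `ext_toSheaf_eq_zero` : `Ext^(n+1)(G, I) = 0` for every torsion-free abelian sheaf `G`
  (in particular `H^(n+1)(C, I) = 0` and `H^(n+1)(U, I) = 0`);
* `unitExtEquiv` : `Ext^n_R(R, M) ≃+ H^n(C, M)`.
-/

set_option autoImplicit false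
universe w w' w'' v u

open CategoryTheory Opposite Limits Abelian

namespace Groth.Agent.CohtopA.ModExt

open TFree TensorProduct

variable {C : Type u} [Category.{v} C] {J : GrothendieckTopology C} (R : Sheaf J RingCat.{w})
  [HasSheafify J AddCommGrpCat.{w}] [J.WEqualsLocallyBijective AddCommGrpCat.{w}]

/-- `toSheaf` preserves finite colimits. -/
theorem toSheaf_preservesFiniteColimits :
    PreservesFiniteColimits (SheafOfModules.toSheaf.{w} R) where
  preservesFiniteColimits K _ _ := by
    have : PreservesColimitsOfShape K (presheafToSheaf J AddCommGrpCat.{w}) :=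
      (CategoryTheory.sheafificationAdjunction J
        AddCommGrpCat.{w}).leftAdjoint_preservesColimits.preservesColimitsOfShape
    have : PreservesColimitsOfShape K
        (PresheafOfModules.sheafification.{w} (𝟙 R.obj) ⋙ SheafOfModules.toSheaf.{w} R) :=
      inferInstanceAs (PreservesColimitsOfShape K
        (PresheafOfModules.toPresheaf _ ⋙ presheafToSheaf J AddCommGrpCat.{w}))
    let adj := PresheafOfModules.sheafificationAdjunction.{w} (𝟙 R.obj)
    refine ⟨fun {F} => ?_⟩
    have : PreservesColimitsOfShape K (PresheafOfModules.sheafification.{w} (𝟙 R.obj)) :=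
      adj.leftAdjoint_preservesColimits.preservesColimitsOfShape
    let G := SheafOfModules.forget R ⋙ PresheafOfModules.restrictScalars (𝟙 R.obj)
    let e : (F ⋙ G) ⋙ PresheafOfModules.sheafification.{w} (𝟙 R.obj) ≅ F :=
      Functor.associator _ _ _ ≪≫ Functor.isoWhiskerLeft F (asIso adj.counit) ≪≫ F.rightUnitor
    have : PreservesColimit ((F ⋙ G) ⋙ PresheafOfModules.sheafification.{w} (𝟙 R.obj))
        (SheafOfModules.toSheaf.{w} R) := by
      refine preservesColimit_of_preserves_colimit_cocone
        (isColimitOfPreserves _ (colimit.isColimit (F ⋙ G))) ?_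
      exact isColimitOfPreserves (PresheafOfModules.sheafification.{w} (𝟙 R.obj) ⋙
        SheafOfModules.toSheaf.{w} R) (colimit.isColimit (F ⋙ G))
    exact preservesColimit_of_iso_diagram _ e

variable {R}

/-- A monomorphism from an injective `R`-module to an abelian sheaf whose cokernel is torsion-free
splits (as a morphism of abelian sheaves). -/
theorem exists_retraction (I : SheafOfModules.{w} R) [Injective I] {E : Sheaf J AddCommGrpCat.{w}}
    (i : (SheafOfModules.toSheaf R).obj I ⟶ E)
    (hi : ∀ U, Function.Injective (i.hom.app U))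
    (hp : ∀ (U : Cᵒᵖ) (n : ℕ) (_ : n ≠ 0) (a : E.obj.obj U), (∃ b, i.hom.app U b = n • a) →
      ∃ b, i.hom.app U b = a) :
    ∃ r : E ⟶ (SheafOfModules.toSheaf R).obj I, i ≫ r = 𝟙 _ := by
  have hm : Mono (TensorPsh.map R.obj i.hom) := TensorPsh.mono_map R.obj i.hom hi hp
  let μ : TensorPsh.tens R.obj ((SheafOfModules.toSheaf R).obj I).obj ⟶
      (PresheafOfModules.restrictScalars (𝟙 R.obj)).obj ((SheafOfModules.forget R).obj I) :=
    TensorPsh.desc (𝟙 _)
  let μ' := (PresheafOfModules.sheafificationHomEquiv (𝟙 R.obj)).symm μ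
  let ν := Injective.factorThru μ'
    ((PresheafOfModules.sheafification (𝟙 R.obj)).map (TensorPsh.map R.obj i.hom))
  have hν : (PresheafOfModules.sheafification (𝟙 R.obj)).map (TensorPsh.map R.obj i.hom) ≫ ν = μ' :=
    Injective.comp_factorThru _ _
  let ν' := PresheafOfModules.sheafificationHomEquiv (𝟙 R.obj) ν
  have hν' : TensorPsh.map R.obj i.hom ≫ ν' = μ := by
    have h1 := (PresheafOfModules.sheafificationAdjunction (𝟙 R.obj)).homEquiv_naturality_left
      (TensorPsh.map R.obj i.hom) ν
    rw [hν] at h1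
    refine h1.symm.trans ?_
    exact (PresheafOfModules.sheafificationHomEquiv (𝟙 R.obj)).apply_symm_apply μ
  let r : E.obj ⟶ ((SheafOfModules.toSheaf R).obj I).obj :=
    TensorPsh.unit R.obj E.obj ≫ (PresheafOfModules.toPresheaf R.obj).map ν'
  refine ⟨⟨r⟩, ?_⟩
  apply Sheaf.hom_ext
  ext U x
  have h2 := congrArg (fun z => (PresheafOfModules.Hom.app z U) ((1 : R.obj.obj U) ⊗ₜ[ℤ] x)) hν'
  exact h2.trans (one_smul (R.obj.obj U) (show I.val.obj U from x))

omit [J.WEqualsLocallyBijective AddCommGrpCat.{w}] in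
/-- Sections over `U` of the kernel of a morphism of abelian sheaves. -/
theorem exists_of_app_eq_zero {S : ShortComplex (Sheaf J AddCommGrpCat.{w})} (hS : S.ShortExact)
    (U : Cᵒᵖ) (a : S.X₂.obj.obj U) (ha : S.g.hom.app U a = 0) : ∃ b, S.f.hom.app U b = a := by
  have := hS.mono_f
  have h1 : (S.map (sheafToPresheaf J AddCommGrpCat.{w} ⋙
      (evaluation Cᵒᵖ AddCommGrpCat.{w}).obj U)).Exact :=
    hS.exact.map_of_mono_of_preservesKernel _ inferInstance inferInstance
  rw [ShortComplex.ab_exact_iff] at h1
  exact h1 a ha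

omit [HasSheafify J AddCommGrpCat.{w}] [J.WEqualsLocallyBijective AddCommGrpCat.{w}] in
theorem injective_app {F G : Sheaf J AddCommGrpCat.{w}} (φ : F ⟶ G) [Mono φ] (U : Cᵒᵖ) :
    Function.Injective (φ.hom.app U) := by
  have : Mono ((sheafToPresheaf J AddCommGrpCat.{w} ⋙
      (evaluation Cᵒᵖ AddCommGrpCat.{w}).obj U).map φ) := inferInstance
  exact (AddCommGrpCat.mono_iff_injective _).1 this

theorem exists_retraction_of_shortExact (I : SheafOfModules.{w} R) [Injective I]
    {E G : Sheaf J AddCommGrpCat.{w}} (i : (SheafOfModules.toSheaf R).obj I ⟶ E) (p : E ⟶ G)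
    (zero : i ≫ p = 0) (hS : (ShortComplex.mk i p zero).ShortExact) (hG : TF G) :
    ∃ r : E ⟶ (SheafOfModules.toSheaf R).obj I, i ≫ r = 𝟙 _ := by
  have hm : Mono i := hS.mono_f
  apply exists_retraction I i (fun U => injective_app i U)
  rintro U n hn a ⟨b, hb⟩
  apply exists_of_app_eq_zero hS U a
  apply eq_zero_of_tf (tf_sections J hG U) n hn
  change n • p.hom.app U a = 0
  rw [← map_nsmul, ← hb]
  have h2 := ConcreteCategory.congr_hom (congr_app (congrArg (fun f => f.hom) zero) U) b
  exact h2

section Ext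

variable [HasExt.{w'} (Sheaf J AddCommGrpCat.{w})] [EnoughInjectives (Sheaf J AddCommGrpCat.{w})]

theorem ext_one_toSheaf_eq_zero (I : SheafOfModules.{w} R) [Injective I]
    {G : Sheaf J AddCommGrpCat.{w}} (hG : TF G) (x : Ext G ((SheafOfModules.toSheaf R).obj I) 1) :
    x = 0 := by
  let Y := (SheafOfModules.toSheaf R).obj I
  let S : ShortComplex (Sheaf J AddCommGrpCat.{w}) :=
    ShortComplex.mk (Injective.ι Y) (cokernel.π (Injective.ι Y)) (by simp)
  have hS : S.ShortExact :=
    { exact := ShortComplex.exact_of_g_is_cokernel _ (cokernelIsCokernel _)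
      mono_f := by dsimp [S]; infer_instance
      epi_g := by dsimp [S]; infer_instance }
  obtain ⟨y, rfl⟩ := Ext.covariant_sequence_exact₁ G hS x
    (Ext.eq_zero_of_injective (I := Injective.under Y) _) (zero_add 1)
  obtain ⟨f, rfl⟩ := Ext.addEquiv₀.symm.surjective y
  have : Epi S.g := hS.epi_g
  have : Mono S.f := hS.mono_f
  -- the pullback extension
  let E := pullback f S.g
  let p : E ⟶ G := pullback.fst f S.g
  let i : Y ⟶ E := pullback.lift 0 S.f (by simp)
  have hip : i ≫ p = 0 := pullback.lift_fst _ _ _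
  have his : i ≫ pullback.snd f S.g = S.f := pullback.lift_snd _ _ _
  have hi : Mono i := by
    have : Mono (i ≫ pullback.snd f S.g) := by rw [his]; infer_instance
    exact mono_of_mono i (pullback.snd f S.g)
  have hE : (ShortComplex.mk i p hip).ShortExact :=
    { exact := by
        refine ShortComplex.exact_of_f_is_kernel _ (KernelFork.IsLimit.ofι' i hip ?_)
        intro A k hk
        have h1 : (k ≫ pullback.snd f S.g) ≫ S.g = 0 := by
          rw [Category.assoc, ← pullback.condition, ← Category.assoc]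
          change (k ≫ p) ≫ f = 0
          rw [hk, zero_comp]
        refine ⟨hS.exact.lift _ h1, ?_⟩
        apply pullback.hom_ext
        · change (_ ≫ i) ≫ p = k ≫ p
          rw [Category.assoc, hip, hk, comp_zero]
        · rw [Category.assoc, his, hS.exact.lift_f]
      mono_f := hi
      epi_g := by dsimp [p]; infer_instance }
  obtain ⟨r, hr⟩ := exists_retraction_of_shortExact I i p hip hE hG
  -- descend `snd - r ≫ S.f` along `p`
  let h : E ⟶ S.X₂ := pullback.snd f S.g - r ≫ S.f
  have hh : i ≫ h = 0 := by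
    simp only [h, Preadditive.comp_sub, his, reassoc_of% hr, sub_self]
  have hp : Epi p := hE.epi_g
  let g : G ⟶ S.X₂ := hE.exact.desc h hh
  have hg : p ≫ g = h := hE.exact.g_desc h hh
  have hgf : g ≫ S.g = f := by
    rw [← cancel_epi p, ← Category.assoc, hg]
    simp only [h, Preadditive.sub_comp, Category.assoc, S.zero, comp_zero, sub_zero]
    exact pullback.condition.symm
  change (Ext.mk₀ f).comp hS.extClass _ = 0
  rw [← hgf, ← Ext.mk₀_comp_mk₀, Ext.comp_assoc_of_second_deg_zero,
    ShortComplex.ShortExact.comp_extClass, Ext.comp_zero]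

/-- If `I` is an injective sheaf of modules, `Ext^(n+1)(G, I) = 0` for every torsion-free
abelian sheaf `G`. -/
theorem ext_toSheaf_eq_zero (I : SheafOfModules.{w} R) [Injective I] (n : ℕ)
    {G : Sheaf J AddCommGrpCat.{w}} (hG : TF G)
    (x : Ext G ((SheafOfModules.toSheaf R).obj I) (n + 1)) : x = 0 :=
  ext_eq_zero_of_tf _ (exists_tf_epi J) (fun _ hG x => ext_one_toSheaf_eq_zero I hG x) n G hG x

end Ext

end Groth.Agent.CohtopA.ModExt
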