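import Groth.Agent.CohtopA.ModExt
import Mathlib.Algebra.Category.Grp.ForgetCorepresentable

/-!
# `Ext^n_R(R, M) ≃+ H^n(C, M)` for a sheaf of modules `M` over a sheaf of rings `R` on a site
-/

set_option autoImplicit false
universe w w' w'' v u

open CategoryTheory Opposite Limits Abelian

namespace Groth.Agent.CohtopA.ModExt

open TFree TensorProduct

section

variable {C : Type u} [Category.{v} C]

theorem uliftInt_hom_ext {A : AddCommGrpCat.{w}} {f g : AddCommGrpCat.of (ULift.{w} ℤ) ⟶ A}
    (h : f (ULift.up 1) = g (ULift.up 1)) : f = g := by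
  apply AddCommGrpCat.hom_ext
  apply (uliftZMultiplesHom A).symm.injective
  exact h

/-- The homomorphism `ℤ ⟶ A` given by an element of `A`. -/
noncomputable def ofElt {A : AddCommGrpCat.{w}} (a : A) : AddCommGrpCat.of (ULift.{w} ℤ) ⟶ A :=
  AddCommGrpCat.ofHom (uliftZMultiplesHom A a)

theorem ofElt_one {A : AddCommGrpCat.{w}} (a : A) : ofElt a (ULift.up 1) = a :=
  (uliftZMultiplesHom A).symm_apply_apply a

/-- The morphism from the constant presheaf `ℤ` given by a compatible family of sections. -/
noncomputable def constHom (P : Cᵒᵖ ⥤ AddCommGrpCat.{w}) (s : ∀ U, P.obj U)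
    (hs : ∀ ⦃U V : Cᵒᵖ⦄ (f : U ⟶ V), P.map f (s U) = s V) :
    (Functor.const Cᵒᵖ).obj (AddCommGrpCat.of (ULift.{w} ℤ)) ⟶ P where
  app U := ofElt (s U)
  naturality U V f := by
    apply uliftInt_hom_ext
    change ofElt (s V) (ULift.up 1) = P.map f (ofElt (s U) (ULift.up 1))
    rw [ofElt_one, ofElt_one, hs]

theorem const_hom_ext {P : Cᵒᵖ ⥤ AddCommGrpCat.{w}}
    {f g : (Functor.const Cᵒᵖ).obj (AddCommGrpCat.of (ULift.{w} ℤ)) ⟶ P}
    (h : ∀ U, f.app U (ULift.up 1) = g.app U (ULift.up 1)) : f = g := by
  ext U : 2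
  exact uliftInt_hom_ext (h U)

end

variable {C : Type u} [Category.{v} C] {J : GrothendieckTopology C} (R : Sheaf J RingCat.{w})
  [HasSheafify J AddCommGrpCat.{w}] [J.WEqualsLocallyBijective AddCommGrpCat.{w}]

/-- The morphism `ℤ ⟶ R` from the constant presheaf. -/
noncomputable def constToUnitPresheaf :
    (Functor.const Cᵒᵖ).obj (AddCommGrpCat.of (ULift.{w} ℤ)) ⟶
      ((SheafOfModules.toSheaf R).obj (SheafOfModules.unit R)).obj :=
  constHom _ (fun U => (1 : R.obj.obj U)) (fun _ _ f => (R.obj.map f).hom.map_one)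

/-- Morphisms from a constant sheaf are morphisms from a constant presheaf. -/
noncomputable def constEquiv (A : AddCommGrpCat.{w}) (F : Sheaf J AddCommGrpCat.{w}) :
    ((constantSheaf J AddCommGrpCat.{w}).obj A ⟶ F) ≃ ((Functor.const Cᵒᵖ).obj A ⟶ F.obj) :=
  (sheafificationAdjunction J AddCommGrpCat.{w}).homEquiv _ _

omit [J.WEqualsLocallyBijective AddCommGrpCat.{w}] in
theorem constEquiv_comp {A : AddCommGrpCat.{w}} {F G : Sheaf J AddCommGrpCat.{w}}
    (f : (constantSheaf J AddCommGrpCat.{w}).obj A ⟶ F) (g : F ⟶ G) :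
    constEquiv A G (f ≫ g) = constEquiv A F f ≫ g.hom :=
  (sheafificationAdjunction J AddCommGrpCat.{w}).homEquiv_naturality_right _ _

/-- The morphism `ℤ ⟶ R` from the constant sheaf. -/
noncomputable def constToUnit :
    (constantSheaf J AddCommGrpCat.{w}).obj (AddCommGrpCat.of (ULift.{w} ℤ)) ⟶
      (SheafOfModules.toSheaf R).obj (SheafOfModules.unit R) :=
  (constEquiv _ _).symm (constToUnitPresheaf R)

theorem constEquiv_constToUnit_comp {M : SheafOfModules.{w} R} (f : SheafOfModules.unit R ⟶ M) :
    constEquiv _ _ (constToUnit R ≫ (SheafOfModules.toSheaf R).map f) =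
      constToUnitPresheaf R ≫ ((SheafOfModules.toSheaf R).map f).hom := by
  rw [constEquiv_comp, constToUnit, Equiv.apply_symm_apply]

theorem constToUnit_bijective (M : SheafOfModules.{w} R) :
    Function.Bijective (fun (f : SheafOfModules.unit R ⟶ M) =>
      constToUnit R ≫ (SheafOfModules.toSheaf R).map f) := by
  constructor
  · intro f g h
    have h1 := congrArg (constEquiv _ _) h
    dsimp only at h1
    rw [constEquiv_constToUnit_comp, constEquiv_constToUnit_comp] at h1
    apply M.unitHomEquiv.injective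
    apply PresheafOfModules.sections_ext
    intro U
    have h2 := ConcreteCategory.congr_hom (congr_app h1 U) (ULift.up 1)
    have h3 : (constToUnitPresheaf R).app U (ULift.up 1) = (1 : R.obj.obj U) := ofElt_one _
    change f.val.app U ((constToUnitPresheaf R).app U (ULift.up 1)) =
      g.val.app U ((constToUnitPresheaf R).app U (ULift.up 1)) at h2
    rw [h3] at h2
    exact h2
  · intro h
    let h' := constEquiv _ _ h
    let s : M.sections := PresheafOfModules.sectionsMk
      (fun U => (show M.val.obj U from h'.app U (ULift.up 1))) (fun U V f => by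
        exact (NatTrans.naturality_apply h' f (ULift.up 1)).symm)
    refine ⟨M.unitHomEquiv.symm s, ?_⟩
    apply (constEquiv _ _).injective
    dsimp only
    rw [constEquiv_constToUnit_comp]
    apply const_hom_ext
    intro U
    have h3 : (constToUnitPresheaf R).app U (ULift.up 1) = (1 : R.obj.obj U) := ofElt_one _
    change (M.unitHomEquiv.symm s).val.app U ((constToUnitPresheaf R).app U (ULift.up 1)) =
      h'.app U (ULift.up 1)
    rw [h3]
    have h4 := congrArg (fun t => t.val U) (M.unitHomEquiv.apply_symm_apply s)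
    exact h4

variable [HasExt.{w'} (SheafOfModules.{w} R)] [HasExt.{w''} (Sheaf J AddCommGrpCat.{w})]
  [EnoughInjectives (Sheaf J AddCommGrpCat.{w})] [EnoughInjectives (SheafOfModules.{w} R)]

/-- `Ext^n_R(R, M) ≃+ H^n(C, M)`. -/
noncomputable def unitExtEquiv (M : SheafOfModules.{w} R) (n : ℕ) :
    Ext (SheafOfModules.unit R) M n ≃+
      Sheaf.H ((SheafOfModules.toSheaf R).obj M) n :=
  have := toSheaf_preservesFiniteColimits R
  ExtAdj.extOfHomEquiv (SheafOfModules.toSheaf R) (constToUnit R) (constToUnit_bijective R)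
    (fun I _ n => subsingleton_of_forall_eq 0
      (fun x => ext_toSheaf_eq_zero I n (tf_const J) x)) M n

end Groth.Agent.CohtopA.ModExt
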