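import Groth.Agent.CohtopA.ExtLim
import Groth.Agent.CohtopA.Flasque
import Groth.Agent.CohtopA.FiltColim
import Groth.Agent.CohtopA.Germ
import Groth.Agent.CohtopB.TopPull

/-!
# Cohomology of a subspace as a colimit over neighbourhoods
-/

set_option autoImplicit false
universe v u

open CategoryTheory TopologicalSpace Opposite CategoryTheory.Limits CategoryTheory.Abelian
open Groth.Agent.CohtopA.Sec Groth.Agent.CohtopA.Germ Groth.Agent.CohtopA.FreeAb
open Groth.Agent.CohtopB

namespace Groth.Agent.CohtopA.NbhdColim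

variable {X Z : TopCat.{u}} (i : Z ⟶ X)

/-- Global sections of `i^{-1}F` from sections of `F` over a neighbourhood of the image. -/
noncomputable def pbT (F : CohTop.Ab X) {U : Opens X} (hU : ∀ z : Z, i z ∈ U) :
    Γs F U →+ Γs ((CohTop.pull i).obj F) ⊤ :=
  (r ((CohTop.pull i).obj F) (U := (Opens.map i).obj U) (V := ⊤) (fun z _ => hU z)).comp (pb i F U)

theorem pbT_apply (F : CohTop.Ab X) {U : Opens X} (hU : ∀ z : Z, i z ∈ U) (s : Γs F U) :
    pbT i F hU s =
      r ((CohTop.pull i).obj F) (U := (Opens.map i).obj U) (V := ⊤) (fun z _ => hU z) (pb i F U s) :=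
  rfl

theorem pbT_r (F : CohTop.Ab X) {U V : Opens X} (hU : ∀ z : Z, i z ∈ U) (hV : ∀ z : Z, i z ∈ V)
    (h : V ≤ U) (s : Γs F U) : pbT i F hV (r F h s) = pbT i F hU s := by
  rw [pbT_apply, pbT_apply, pb_r, r_r]

theorem pb_nat {F G : CohTop.Ab X} (φ : F ⟶ G) (U : Opens X) (s : Γs F U) :
    m ((CohTop.pull i).map φ) ((Opens.map i).obj U) (pb i F U s) = pb i G U (m φ U s) := by
  have h := congrArg (fun α => α.hom.app (op U)) ((TopPull.adj i).unit.naturality φ)
  exact (ConcreteCategory.congr_hom h s).symm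

theorem m_pbT {F G : CohTop.Ab X} (φ : F ⟶ G) {U : Opens X} (hU : ∀ z : Z, i z ∈ U) (s : Γs F U) :
    m ((CohTop.pull i).map φ) ⊤ (pbT i F hU s) = pbT i G hU (m φ U s) := by
  rw [pbT_apply, pbT_apply, m_r, pb_nat]

variable {J : Type v} [SmallCategory J] (D : J ⥤ (Opens X)ᵒᵖ)
  (hD : ∀ (j : J) (z : Z), i z ∈ (D.obj j).unop)

/-- The cofiltered system of free abelian sheaves. -/
noncomputable abbrev Pf : Jᵒᵖ ⥤ CohTop.Ab X :=
  D.leftOp ⋙ (yoneda ⋙ (Functor.whiskeringRight _ _ _).obj
    AddCommGrpCat.free ⋙ presheafToSheaf (Opens.grothendieckTopology X) AddCommGrpCat.{u})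

/-- The map `Z_{⊤} ⟶ i^{-1} Z_U`. -/
noncomputable def aa (j : J) :
    freeAb (Opens.grothendieckTopology Z) ⊤ ⟶ (CohTop.pull i).obj ((Pf D).obj (op j)) :=
  ((homEv_bijective (J := Opens.grothendieckTopology Z) ⊤
    ((CohTop.pull i).obj ((Pf D).obj (op j)))).2 (pbT i _ (hD j)
      (gen (Opens.grothendieckTopology X) (D.obj j).unop))).choose

theorem homEv_aa (j : J) : homEv (J := Opens.grothendieckTopology Z) ⊤ _ (aa i D hD j) =
    pbT i _ (hD j) (gen (Opens.grothendieckTopology X) (D.obj j).unop) :=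
  ((homEv_bijective (J := Opens.grothendieckTopology Z) ⊤
    ((CohTop.pull i).obj ((Pf D).obj (op j)))).2 (pbT i _ (hD j)
      (gen (Opens.grothendieckTopology X) (D.obj j).unop))).choose_spec

theorem homEv_aa_comp (j : J) {F : CohTop.Ab X} (f : (Pf D).obj (op j) ⟶ F) :
    homEv (J := Opens.grothendieckTopology Z) ⊤ _ (aa i D hD j ≫ (CohTop.pull i).map f) =
      pbT i F (hD j) (homEv (J := Opens.grothendieckTopology X) (D.obj j).unop F f) := by
  rw [homEv_comp, homEv_aa]
  exact m_pbT i f (hD j) _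

theorem aa_compat {j k : J} (f : j ⟶ k) :
    aa i D hD k ≫ (CohTop.pull i).map ((Pf D).map f.op) = aa i D hD j := by
  apply (homEv_bijective (J := Opens.grothendieckTopology Z) ⊤ _).1
  rw [homEv_aa_comp, homEv_aa]
  have h : homEv (J := Opens.grothendieckTopology X) (D.obj k).unop _ ((Pf D).map f.op) =
      r _ (leOfHom (D.map f).unop) (gen (Opens.grothendieckTopology X) (D.obj j).unop) :=
    freeAbMap_gen (J := Opens.grothendieckTopology X) (D.map f).unop
  rw [h]
  exact pbT_r i _ _ _ _ _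

/-- **Main theorem.** If sections of `i^{-1}F` extend to a member of the filtered system `D` of
neighbourhoods, uniquely up to shrinking, and `i^{-1}I` is acyclic for injective `I`, then
`colim_j H^p(D_j, F) = H^p(Z, i^{-1}F)`. -/
theorem nonempty_addEquiv [IsFiltered J]
    [HasColimitsOfShape J AddCommGrpCat.{u}] [PreservesColimitsOfShape J (forget AddCommGrpCat.{u})]
    (hs : ∀ (F : CohTop.Ab X) (t : Γs ((CohTop.pull i).obj F) ⊤),
      ∃ (j : J) (s : Γs F (D.obj j).unop), pbT i F (hD j) s = t)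
    (hi : ∀ (F : CohTop.Ab X) (j : J) (s : Γs F (D.obj j).unop), pbT i F (hD j) s = 0 →
      ∃ (k : J) (f : j ⟶ k), r F (leOfHom (D.map f).unop) s = 0)
    (hI : ∀ (I : CohTop.Ab X) [Injective I] (n : ℕ)
      (x : Ext.{u} (freeAb (Opens.grothendieckTopology Z) ⊤) ((CohTop.pull i).obj I) (n + 1)), x = 0)
    (F : CohTop.Ab X) (p : ℕ) :
    Nonempty ((colimit (D ⋙
      (Sheaf.cohomologyPresheafFunctor (Opens.grothendieckTopology X) p).obj F) : AddCommGrpCat.{u}) ≃+
      CohTop.H ((CohTop.pull i).obj F) p) := by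
  have h0 : ExtLim.IsLim (CohTop.pull i) (aa i D hD) 0 := by
    intro F
    constructor
    · intro y
      obtain ⟨f, rfl⟩ := (Ext.mk₀_bijective _ _).2 y
      obtain ⟨j, s, hs⟩ := hs F (homEv ⊤ _ f)
      obtain ⟨g, rfl⟩ := (homEv_bijective (J := Opens.grothendieckTopology X) (D.obj j).unop F).2 s
      refine ⟨j, Ext.mk₀ g, ?_⟩
      rw [ExtLim.cmp_apply, Ext.mapExactFunctor_mk₀, Ext.mk₀_comp_mk₀]
      congr 1
      apply (homEv_bijective (J := Opens.grothendieckTopology Z) ⊤ _).1
      rw [← hs]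
      exact homEv_aa_comp i D hD j g
    · intro j x hx
      obtain ⟨g, rfl⟩ := (Ext.mk₀_bijective _ _).2 x
      rw [ExtLim.cmp_apply, Ext.mapExactFunctor_mk₀, Ext.mk₀_comp_mk₀] at hx
      have hx' : aa i D hD j ≫ (CohTop.pull i).map g = 0 := by
        apply (Ext.mk₀_bijective _ _).1
        rw [hx, Ext.mk₀_zero]
      have h1 := homEv_aa_comp i D hD j g
      rw [hx', map_zero] at h1
      obtain ⟨k, f, hf⟩ := hi F j _ h1.symm
      refine ⟨k, f, ?_⟩
      change (Ext.mk₀ ((Pf D).map f.op)).comp (Ext.mk₀ g) (zero_add 0) = 0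
      rw [Ext.mk₀_comp_mk₀]
      have h2 : (Pf D).map f.op ≫ g = 0 := by
        apply (homEv_bijective (J := Opens.grothendieckTopology X) (D.obj k).unop F).1
        rw [map_zero]
        exact (homEv_freeAbMap (J := Opens.grothendieckTopology X) (D.map f).unop g).trans hf
      rw [h2, Ext.mk₀_zero]
  have key := ExtLim.isLim (CohTop.pull i) (aa i D hD) (fun f => aa_compat i D hD f) hI h0 p F
  let c : Cocone (D ⋙ (Sheaf.cohomologyPresheafFunctor (Opens.grothendieckTopology X) p).obj F) :=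
    { pt := AddCommGrpCat.of (CohTop.HU ((CohTop.pull i).obj F) p ⊤)
      ι :=
        { app := fun j => AddCommGrpCat.ofHom (ExtLim.cmp (CohTop.pull i) (aa i D hD) j F p)
          naturality := fun j k f => by
            ext x
            exact ExtLim.cmp_tr (CohTop.pull i) (aa i D hD) (fun f => aa_compat i D hD f) f F p x } }
  obtain ⟨hc⟩ := FiltColim.nonempty_isColimit_of_elements c key.1 key.2
  exact ⟨((colimit.isColimit _).coconePointUniqueUpToIso hc).addCommGroupIsoToAddEquiv.trans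
    (Flasque.HTopEquiv _ p).symm⟩

end Groth.Agent.CohtopA.NbhdColim
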