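import Groth.Agent.CohtopA.ColimSections
import Groth.Agent.CohtopA.Flasque
import Mathlib.Topology.Separation.Profinite

/-!
# Abelian sheaves on profinite spaces are acyclic
-/

set_option autoImplicit false
universe u v' u'

open CategoryTheory TopologicalSpace Opposite CategoryTheory.Limits CategoryTheory.Abelian
open Groth.Agent.CohtopA.Sec Groth.Agent.CohtopA.ColimLocal Groth.Agent.CohtopA.ColimSections

namespace Groth.Agent.CohtopA.Profinite

variable {X : TopCat.{u}}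

/-- On a locally compact totally disconnected Hausdorff space, sections over a compact open lift
along every epimorphism. -/
theorem surjective_of_epi [LocallyCompactSpace X] [T2Space X] [TotallyDisconnectedSpace X]
    {F G : CohTop.Ab X} (φ : F ⟶ G) [hφ : Epi φ]
    {U : Opens X} (hU : IsCompact (U : Set X)) : Function.Surjective (m φ U) := by
  intro s
  have key := hU.induction_on (p := fun A => ∃ (W : Opens X) (h : W ≤ U)
    (t : Γs F W), IsClosed (W : Set X) ∧ A ⊆ W ∧ m φ W t = r _ h s) ?_ ?_ ?_ ?_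
  · obtain ⟨W, h, t, -, hW, e⟩ := key
    obtain rfl : W = U := le_antisymm h hW
    exact ⟨t, by simpa using e⟩
  · refine ⟨⊥, bot_le, 0, isClosed_empty, Set.empty_subset _, ?_⟩
    have := subsingleton_bot G ⊥ (fun x hx => hx)
    exact Subsingleton.elim _ _
  · rintro A B hAB ⟨W, h, t, hW, hB, e⟩
    exact ⟨W, h, t, hW, hAB.trans hB, e⟩
  · rintro A B ⟨W₁, h₁, t₁, hc₁, hA, e₁⟩ ⟨W₂, h₂, t₂, hc₂, hB, e₂⟩
    let W₂' : Opens X := ⟨(W₂ : Set X) \ W₁, W₂.isOpen.sdiff hc₁⟩
    have hle : W₂' ≤ W₂ := fun x hx => hx.1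
    have hdisj : ∀ x : X, x ∉ W₁ ⊓ W₂' := fun x hx => hx.2.2 hx.1
    obtain ⟨w, hw₁, hw₂⟩ := glue₂ t₁ (r _ hle t₂) (by
      have := subsingleton_bot F (W₁ ⊓ W₂') hdisj
      exact Subsingleton.elim _ _)
    have hsup : ((W₁ ⊔ W₂' : Opens X) : Set X) = (W₁ : Set X) ∪ (W₂ : Set X) := by
      change (W₁ : Set X) ∪ (W₂ \ W₁) = _
      simp
    refine ⟨W₁ ⊔ W₂', sup_le h₁ (hle.trans h₂), w, ?_, ?_, ?_⟩
    · rw [hsup]; exact hc₁.union hc₂
    · rw [hsup]; exact Set.union_subset_union hA hB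
    · refine sep₂ rfl _ _ ?_ ?_
      · rw [← m_r, hw₁, e₁, r_r]
      · rw [← m_r, hw₂, m_r, e₂, r_r, r_r]
  · intro x hx
    obtain ⟨V, h, t, hxV, e⟩ := exists_lift φ s x hx
    obtain ⟨V', hV', hxV', hV'V⟩ := 
      (loc_compact_Haus_tot_disc_of_zero_dim (H := X)).exists_subset_of_mem_open hxV V.isOpen
    let V'' : Opens X := ⟨V', hV'.isOpen⟩
    have hle : V'' ≤ V := hV'V
    refine ⟨V', mem_nhdsWithin_of_mem_nhds (V''.isOpen.mem_nhds hxV'), V'', hle.trans h,
      r _ hle t, hV'.isClosed, subset_rfl, ?_⟩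
    rw [m_r, e, r_r]

theorem ext_succ_eq_zero [LocallyCompactSpace X] [T2Space X] [TotallyDisconnectedSpace X]
    (F : CohTop.Ab X) {U : Opens X} (hU : IsCompact (U : Set X)) (n : ℕ)
    (x : Ext.{u} (FreeAb.freeAb (Opens.grothendieckTopology X) U) F (n + 1)) : x = 0 := by
  refine DimShift.ext_succ_eq_zero_of_class (fun _ => True)
    (FreeAb.freeAb (Opens.grothendieckTopology X) U) (fun _ _ _ _ => trivial) ?_ F trivial n x
  intro S hS h1 h2 f
  have := hS.epi_g
  obtain ⟨t, ht⟩ := surjective_of_epi S.g hU (FreeAb.homEv U S.X₃ f)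
  obtain ⟨g, rfl⟩ := (FreeAb.homEv_bijective U S.X₂).2 t
  exact ⟨g, (FreeAb.homEv_bijective U S.X₃).1 ht⟩

theorem subsingleton_HU_succ [LocallyCompactSpace X] [T2Space X] [TotallyDisconnectedSpace X]
    (F : CohTop.Ab X) {U : Opens X} (hU : IsCompact (U : Set X)) (n : ℕ) :
    Subsingleton (CohTop.HU F (n + 1) U) :=
  subsingleton_of_forall_eq 0 (fun x => ext_succ_eq_zero F hU n x)

theorem subsingleton_H_succ [CompactSpace X] [T2Space X] [TotallyDisconnectedSpace X]
    (F : CohTop.Ab X) (n : ℕ) :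
    Subsingleton (CohTop.H F (n + 1)) := by
  have := subsingleton_HU_succ F (U := ⊤) isCompact_univ n
  exact (Flasque.HTopEquiv F (n + 1)).toEquiv.subsingleton

end Groth.Agent.CohtopA.Profinite
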