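import Groth.Agent.CohtopA.ExtAdj
import Groth.Agent.CohtopA.FreeYo
import Groth.Agent.Cohder.RDAcyc
import Groth.Prelude.Def_CohTop
import Mathlib.Topology.Sheaves.Functors

/-!
# The canonical map `H^n(V, f_* F) → H^n(f⁻¹ V, F)`

* `extAdj_bijective`: for `L ⊣ R`, `L` exact and `Y` right `R`-acyclic,
  `Ext^n(X, R Y) → Ext^n(L X, Y)` is bijective.
* `freeIso`: `L(ℤ[V]) ≅ ℤ[u V]` for a left adjoint `L` of the direct image along `u`.
* `canU`: `H^n(V, u_* F) → H^n(u V, F)`, natural in `F` and `V`, bijective for acyclic `F`.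
* `pushCan f F n : H^n(Y, f_* F) →+ H^n(X, F)` for a continuous map `f : X ⟶ Y`.
-/

universe w w' w₁ v v' u u'

open CategoryTheory Limits Opposite Abelian TopologicalSpace

namespace Groth.Agent.CohtopA.PushCan

open ExtAdj FreeYo

/-- Additivity of a functor between abelian categories, with respect to the preadditive
structures underlying the abelian category structures (this formulation avoids expensive
conversions of instances). -/
abbrev AddF {A : Type u} [Category.{v} A] [Abelian A] {B : Type u'} [Category.{v'} B] [Abelian B]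
    (L : A ⥤ B) : Prop := L.Additive

section General

variable {A : Type u} [Category.{v} A] [Abelian A] {B : Type u'} [Category.{v'} B] [Abelian B]
  [HasExt.{w} A] [HasExt.{w'} B] {L : B ⥤ A} {R : A ⥤ B} (adj : L ⊣ R) [L.Additive]
  [PreservesFiniteLimits L] [PreservesFiniteColimits L] [R.Additive] [EnoughInjectives A]

/-- For `L ⊣ R` with `L` exact, `Ext^n(X, R Y) → Ext^n(L X, Y)` is bijective if `Y` is right
`R`-acyclic. -/
theorem extAdj_bijective (X : B) (Y : A)
    (h : ∀ q : ℕ, IsZero ((R.rightDerived (q + 1)).obj Y)) (n : ℕ) :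
    Function.Bijective (extAdj adj X Y n) := by
  induction n generalizing Y with
  | zero => exact extAdj_zero_bijective adj X Y
  | succ n ih =>
    have : PreservesFiniteLimits R :=
      ⟨fun _ _ _ => adj.rightAdjoint_preservesLimits.1⟩
    let I : InjectivePresentation Y := Classical.arbitrary _
    let S := ShortComplex.mk _ _ (cokernel.condition I.f)
    have : Injective S.X₂ := I.injective
    have hS : S.ShortExact := { exact := ShortComplex.exact_cokernel I.f }
    have hY : Cohder.RDAcyc.IsAcyc R S.X₁ := fun i hi => by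
      obtain ⟨i, rfl⟩ : ∃ j, i = j + 1 := ⟨i - 1, by lia⟩
      exact h i
    have hI : Cohder.RDAcyc.IsAcyc R S.X₂ := Cohder.RDAcyc.isAcyc_injective R S.X₂
    have hQ := Cohder.RDAcyc.isAcyc_X₃ R hS hY hI
    have hRS := Cohder.RDAcyc.map_shortExact R hS (h 0)
    refine extAdj_succ_bijective_of_shortExact adj hS hRS X n
      (ih S.X₃ (fun q => hQ (q + 1) (by lia))) ?_
    exact (ih S.X₂ (fun q => hI (q + 1) (by lia))).2

end General

instance additive_pushforward {C : Type*} [Category* C] {D : Type*} [Category* D]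
    (J : GrothendieckTopology C) (K : GrothendieckTopology D) (p : D ⥤ C) [p.IsContinuous K J] :
    (p.sheafPushforwardContinuous AddCommGrpCat.{w₁} K J).Additive where

section Site

variable {C : Type u} [Category.{v} C] {D : Type u'} [Category.{v} D]
  (J : GrothendieckTopology C) (K : GrothendieckTopology D) (p : D ⥤ C) [p.IsContinuous K J]
  [HasSheafify J AddCommGrpCat.{v}] [HasSheafify K AddCommGrpCat.{v}]
  {L : Sheaf K AddCommGrpCat.{v} ⥤ Sheaf J AddCommGrpCat.{v}}
  (adj : L ⊣ p.sheafPushforwardContinuous AddCommGrpCat.{v} K J)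

/-- The canonical map `ℤ[u V] ⟶ L(ℤ[V])`. -/
noncomputable def genL (V : D) : freeSh J (p.obj V) ⟶ L.obj (freeSh K V) :=
  (homEquiv J (p.obj V) _).symm
    ((adj.unit.app (freeSh K V)).hom.app (op V) (gen K V) :
      ((p.sheafPushforwardContinuous AddCommGrpCat.{v} K J).obj (L.obj (freeSh K V))).obj.obj (op V))

/-- The canonical map `L(ℤ[V]) ⟶ ℤ[u V]`. -/
noncomputable def genR (V : D) : L.obj (freeSh K V) ⟶ freeSh J (p.obj V) :=
  (adj.homEquiv _ _).symm ((homEquiv K V
    ((p.sheafPushforwardContinuous AddCommGrpCat.{v} K J).obj (freeSh J (p.obj V)))).symm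
      (gen J (p.obj V)))

lemma homEquiv_adj {V : D} {F : Sheaf J AddCommGrpCat.{v}} (φ : L.obj (freeSh K V) ⟶ F) :
    homEquiv K V _ (adj.homEquiv _ _ φ) = homEquiv J (p.obj V) F (genL J K p adj V ≫ φ) := by
  rw [homEquiv_comp, genL, AddEquiv.apply_symm_apply, adj.homEquiv_unit]
  rfl

/-- `ℤ[u V] ≅ L(ℤ[V])`. -/
noncomputable def freeIso (V : D) : freeSh J (p.obj V) ≅ L.obj (freeSh K V) where
  hom := genL J K p adj V
  inv := genR J K p adj V
  hom_inv_id := by
    apply (homEquiv J (p.obj V) _).injective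
    rw [← homEquiv_adj, genR, Equiv.apply_symm_apply, AddEquiv.apply_symm_apply]
    rfl
  inv_hom_id := by
    apply (adj.homEquiv _ _).injective
    apply (homEquiv K V _).injective
    rw [homEquiv_adj, homEquiv_adj]
    have : genL J K p adj V ≫ genR J K p adj V = 𝟙 _ := by
      apply (homEquiv J (p.obj V) _).injective
      rw [← homEquiv_adj, genR, Equiv.apply_symm_apply, AddEquiv.apply_symm_apply]
      rfl
    rw [reassoc_of% this, Category.comp_id]

lemma genL_naturality {V W : D} (g : V ⟶ W) :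
    (freeShF J).map (p.map g) ≫ genL J K p adj W = genL J K p adj V ≫ L.map ((freeShF K).map g) := by
  apply (homEquiv J (p.obj V) _).injective
  rw [homEquiv_precomp, ← homEquiv_adj]
  have h1 : adj.homEquiv _ _ (L.map ((freeShF K).map g)) =
      (freeShF K).map g ≫ adj.unit.app (freeSh K W) := by
    rw [adj.homEquiv_unit]
    exact (adj.unit_naturality _)
  rw [h1, homEquiv_precomp, genL, AddEquiv.apply_symm_apply]
  rfl

variable [HasExt.{w, max u v, max u (v + 1)} (Sheaf J AddCommGrpCat.{v})]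
  [HasExt.{w', max u' v, max u' (v + 1)} (Sheaf K AddCommGrpCat.{v})]
  [AddF L] [PreservesFiniteLimits L] [PreservesFiniteColimits L]

/-- The canonical map `H^n(V, u_* F) → H^n(u V, F)`. -/
noncomputable def canU (V : D) (F : Sheaf J AddCommGrpCat.{v}) (n : ℕ) :
    Ext.{w'} (freeSh K V) ((p.sheafPushforwardContinuous AddCommGrpCat.{v} K J).obj F) n →+
      Ext.{w} (freeSh J (p.obj V)) F n :=
  (extCongrLeft (freeIso J K p adj V) F n).toAddMonoidHom.comp (extAdj adj (freeSh K V) F n)

lemma canU_apply {V : D} {F : Sheaf J AddCommGrpCat.{v}} {n : ℕ}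
    (x : Ext.{w'} (freeSh K V) ((p.sheafPushforwardContinuous AddCommGrpCat.{v} K J).obj F) n) :
    canU.{w} J K p adj V F n x =
      (Ext.mk₀ (genL J K p adj V)).comp (extAdj adj (freeSh K V) F n x) (zero_add n) := rfl

/-- Naturality of `canU` in the sheaf. -/
lemma canU_map {V : D} {F G : Sheaf J AddCommGrpCat.{v}} (φ : F ⟶ G) {n : ℕ}
    (x : Ext.{w'} (freeSh K V) ((p.sheafPushforwardContinuous AddCommGrpCat.{v} K J).obj F) n) :
    canU.{w} J K p adj V G n (x.comp (Ext.mk₀
      ((p.sheafPushforwardContinuous AddCommGrpCat.{v} K J).map φ)) (add_zero n)) =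
      (canU.{w} J K p adj V F n x).comp (Ext.mk₀ φ) (add_zero n) := by
  rw [canU_apply, canU_apply, extAdj_postcomp_mk₀, Ext.comp_assoc_of_third_deg_zero]

/-- Naturality of `canU` in the object. -/
lemma canU_res {V W : D} (g : V ⟶ W) {F : Sheaf J AddCommGrpCat.{v}} {n : ℕ}
    (x : Ext.{w'} (freeSh K W) ((p.sheafPushforwardContinuous AddCommGrpCat.{v} K J).obj F) n) :
    canU.{w} J K p adj V F n ((Ext.mk₀ ((freeShF K).map g)).comp x (zero_add n)) =
      (Ext.mk₀ ((freeShF J).map (p.map g))).comp (canU.{w} J K p adj W F n x) (zero_add n) := by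
  rw [canU_apply, canU_apply, extAdj_precomp, Ext.mapExactFunctor_mk₀, Ext.mk₀_comp_mk₀_assoc,
    Ext.mk₀_comp_mk₀_assoc, genL_naturality]

/-- Compatibility of `canU` with connecting homomorphisms. -/
lemma canU_comp_extClass {V : D} {S : ShortComplex (Sheaf J AddCommGrpCat.{v})}
    (hS : S.ShortExact)
    (hRS : (S.map (p.sheafPushforwardContinuous AddCommGrpCat.{v} K J)).ShortExact) {n m : ℕ}
    (x : Ext.{w'} (freeSh K V) ((p.sheafPushforwardContinuous AddCommGrpCat.{v} K J).obj S.X₃) n)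
    (h : n + 1 = m) :
    canU.{w} J K p adj V S.X₁ m
      (x.comp (Y := (p.sheafPushforwardContinuous AddCommGrpCat.{v} K J).obj S.X₃)
        (Z := (p.sheafPushforwardContinuous AddCommGrpCat.{v} K J).obj S.X₁) hRS.extClass h) =
      (canU.{w} J K p adj V S.X₃ n x).comp hS.extClass h := by
  rw [canU_apply, canU_apply, extAdj_comp_extClass adj hS hRS x h, Ext.comp_assoc _ _ _ _ h
    (by omega)]

/-- `canU` is bijective for acyclic sheaves. -/
theorem canU_bijective [EnoughInjectives (Sheaf J AddCommGrpCat.{v})] (V : D)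
    (F : Sheaf J AddCommGrpCat.{v})
    (h : ∀ q : ℕ, IsZero (((p.sheafPushforwardContinuous AddCommGrpCat.{v} K J).rightDerived
      (q + 1)).obj F)) (n : ℕ) :
    Function.Bijective (canU.{w, w'} J K p adj V F n) :=
  (extCongrLeft (freeIso J K p adj V) F n).bijective.comp
    (extAdj_bijective adj (freeSh K V) F h n)

end Site

section SiteZ

variable {C : Type u} [Category.{v} C] {D : Type u'} [Category.{v'} D]
  (J : GrothendieckTopology C) (K : GrothendieckTopology D) (p : D ⥤ C) [p.IsContinuous K J]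
  [HasSheafify J AddCommGrpCat.{w₁}] [HasSheafify K AddCommGrpCat.{w₁}]
  {L : Sheaf K AddCommGrpCat.{w₁} ⥤ Sheaf J AddCommGrpCat.{w₁}}
  (adj : L ⊣ p.sheafPushforwardContinuous AddCommGrpCat.{w₁} K J)
  {T : D} (hT : IsTerminal T) (hT' : IsTerminal (p.obj T))

/-- The canonical map `ℤ ⟶ L(ℤ)`. -/
noncomputable def genLZ : zSh J ⟶ L.obj (zSh K) :=
  (homEquivZ J hT' _).symm
    ((adj.unit.app (zSh K)).hom.app (op T) (genZ K hT) :
      ((p.sheafPushforwardContinuous AddCommGrpCat.{w₁} K J).obj (L.obj (zSh K))).obj.obj (op T))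

/-- The canonical map `L(ℤ) ⟶ ℤ`. -/
noncomputable def genRZ : L.obj (zSh K) ⟶ zSh J :=
  (adj.homEquiv _ _).symm ((homEquivZ K hT
    ((p.sheafPushforwardContinuous AddCommGrpCat.{w₁} K J).obj (zSh J))).symm (genZ J hT'))

lemma homEquivZ_adj {F : Sheaf J AddCommGrpCat.{w₁}} (φ : L.obj (zSh K) ⟶ F) :
    homEquivZ K hT _ (adj.homEquiv _ _ φ) =
      homEquivZ J hT' F (genLZ J K p adj hT hT' ≫ φ) := by
  rw [homEquivZ_comp, genLZ, AddEquiv.apply_symm_apply, adj.homEquiv_unit, homEquivZ_comp,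
    homEquivZ_apply]
  rfl

/-- `ℤ ≅ L(ℤ)`. -/
noncomputable def zIso : zSh J ≅ L.obj (zSh K) where
  hom := genLZ J K p adj hT hT'
  inv := genRZ J K p adj hT hT'
  hom_inv_id := by
    apply (homEquivZ J hT' _).injective
    rw [← homEquivZ_adj, genRZ, Equiv.apply_symm_apply, AddEquiv.apply_symm_apply]
    rfl
  inv_hom_id := by
    apply (adj.homEquiv _ _).injective
    apply (homEquivZ K hT _).injective
    rw [homEquivZ_adj J K p adj hT hT', homEquivZ_adj J K p adj hT hT']
    have : genLZ J K p adj hT hT' ≫ genRZ J K p adj hT hT' = 𝟙 _ := by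
      apply (homEquivZ J hT' _).injective
      rw [← homEquivZ_adj, genRZ, Equiv.apply_symm_apply, AddEquiv.apply_symm_apply]
      rfl
    rw [reassoc_of% this, Category.comp_id]

variable [HasExt.{w, max u w₁, max (max u v) (w₁ + 1)} (Sheaf J AddCommGrpCat.{w₁})]
  [HasExt.{w', max u' w₁, max (max u' v') (w₁ + 1)} (Sheaf K AddCommGrpCat.{w₁})]
  [AddF L] [PreservesFiniteLimits L] [PreservesFiniteColimits L]

/-- The canonical map `H^n(D, u_* F) → H^n(C, F)`. -/
noncomputable def canZ (F : Sheaf J AddCommGrpCat.{w₁}) (n : ℕ) :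
    Ext.{w'} (zSh K) ((p.sheafPushforwardContinuous AddCommGrpCat.{w₁} K J).obj F) n →+
      Ext.{w} (zSh J) F n :=
  (extCongrLeft (zIso J K p adj hT hT') F n).toAddMonoidHom.comp (extAdj adj (zSh K) F n)

lemma canZ_apply {F : Sheaf J AddCommGrpCat.{w₁}} {n : ℕ}
    (x : Ext.{w'} (zSh K) ((p.sheafPushforwardContinuous AddCommGrpCat.{w₁} K J).obj F) n) :
    canZ.{w} J K p adj hT hT' F n x =
      (Ext.mk₀ (genLZ J K p adj hT hT')).comp (extAdj adj (zSh K) F n x) (zero_add n) := rfl

/-- Naturality of `canZ` in the sheaf. -/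
lemma canZ_map {F G : Sheaf J AddCommGrpCat.{w₁}} (φ : F ⟶ G) {n : ℕ}
    (x : Ext.{w'} (zSh K) ((p.sheafPushforwardContinuous AddCommGrpCat.{w₁} K J).obj F) n) :
    canZ.{w} J K p adj hT hT' G n (x.comp (Ext.mk₀
      ((p.sheafPushforwardContinuous AddCommGrpCat.{w₁} K J).map φ)) (add_zero n)) =
      (canZ.{w} J K p adj hT hT' F n x).comp (Ext.mk₀ φ) (add_zero n) := by
  rw [canZ_apply, canZ_apply, extAdj_postcomp_mk₀, Ext.comp_assoc_of_third_deg_zero]

/-- Compatibility of `canZ` with connecting homomorphisms. -/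
lemma canZ_comp_extClass {S : ShortComplex (Sheaf J AddCommGrpCat.{w₁})}
    (hS : S.ShortExact)
    (hRS : (S.map (p.sheafPushforwardContinuous AddCommGrpCat.{w₁} K J)).ShortExact) {n m : ℕ}
    (x : Ext.{w'} (zSh K) ((p.sheafPushforwardContinuous AddCommGrpCat.{w₁} K J).obj S.X₃) n)
    (h : n + 1 = m) :
    canZ.{w} J K p adj hT hT' S.X₁ m
      (Ext.comp (Y := (p.sheafPushforwardContinuous AddCommGrpCat.{w₁} K J).obj S.X₃)
        (Z := (p.sheafPushforwardContinuous AddCommGrpCat.{w₁} K J).obj S.X₁) x hRS.extClass h) =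
      Ext.comp (canZ.{w} J K p adj hT hT' S.X₃ n x) hS.extClass h := by
  rw [canZ_apply, canZ_apply, extAdj_comp_extClass adj hS hRS x h, Ext.comp_assoc _ _ _ _ h
    (by omega)]

/-- `canZ` is bijective for acyclic sheaves. -/
theorem canZ_bijective [EnoughInjectives (Sheaf J AddCommGrpCat.{w₁})]
    (F : Sheaf J AddCommGrpCat.{w₁})
    (h : ∀ q : ℕ, IsZero (((p.sheafPushforwardContinuous AddCommGrpCat.{w₁} K J).rightDerived
      (q + 1)).obj F)) (n : ℕ) :
    Function.Bijective (canZ.{w, w'} J K p adj hT hT' F n) :=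
  (extCongrLeft (zIso J K p adj hT hT') F n).bijective.comp
    (extAdj_bijective adj (zSh K) F h n)

end SiteZ

end Groth.Agent.CohtopA.PushCan
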