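import Groth.Agent.CohtopA.PushCan
import Groth.Agent.CohtopB.TopPull

/-!
# The canonical map `H^n(Y, f_* F) → H^n(X, F)` for a continuous map `f : X ⟶ Y`

`pushCan f F n`, natural in `F`, compatible with connecting homomorphisms, bijective if
`R^q f_* F = 0` for `q > 0`; `pushCanU f V F n : H^n(V, f_* F) → H^n(f⁻¹ V, F)`, natural in `V`.
-/

universe u

open CategoryTheory Limits Opposite Abelian TopologicalSpace

namespace Groth.Agent.CohtopA.PushCanTop

open PushCan FreeYo

variable {X Y : TopCat.{u}} (f : X ⟶ Y)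

theorem addF_pull : AddF (CohTop.pull f) := CohtopB.TopPull.additive_pull f

attribute [local instance 2000] addF_pull

/-- The canonical map `H^n(Y, f_* F) → H^n(X, F)`. -/
noncomputable def pushCan (F : CohTop.Ab X) (n : ℕ) :
    CohTop.H ((CohTop.push f).obj F) n →+ CohTop.H F n :=
  canZ (Opens.grothendieckTopology X) (Opens.grothendieckTopology Y) (Opens.map f) (CohtopB.TopPull.adj f)
    (T := ⊤) isTerminalTop isTerminalTop F n

/-- The canonical map `H^n(V, f_* F) → H^n(f⁻¹ V, F)`. -/
noncomputable def pushCanU (V : Opens Y) (F : CohTop.Ab X) (n : ℕ) :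
    CohTop.HU ((CohTop.push f).obj F) n V →+ CohTop.HU F n ((Opens.map f).obj V) :=
  canU (Opens.grothendieckTopology X) (Opens.grothendieckTopology Y) (Opens.map f) (CohtopB.TopPull.adj f)
    V F n

/-- Naturality of `pushCan` in the sheaf. -/
lemma pushCan_map {F G : CohTop.Ab X} (φ : F ⟶ G) {n : ℕ}
    (x : CohTop.H ((CohTop.push f).obj F) n) :
    pushCan f G n (Ext.comp x (Ext.mk₀ ((CohTop.push f).map φ)) (add_zero n)) =
      Ext.comp (pushCan f F n x) (Ext.mk₀ φ) (add_zero n) :=
  canZ_map (Opens.grothendieckTopology X) (Opens.grothendieckTopology Y) (Opens.map f)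
    (CohtopB.TopPull.adj f) (T := ⊤) isTerminalTop isTerminalTop φ x

/-- Compatibility of `pushCan` with connecting homomorphisms. -/
lemma pushCan_comp_extClass {S : ShortComplex (CohTop.Ab X)} (hS : S.ShortExact)
    (hRS : (S.map (CohTop.push f)).ShortExact) {n m : ℕ}
    (x : CohTop.H ((CohTop.push f).obj S.X₃) n) (h : n + 1 = m) :
    pushCan f S.X₁ m
      (Ext.comp (Y := (CohTop.push f).obj S.X₃) (Z := (CohTop.push f).obj S.X₁) x
        hRS.extClass h) =
      Ext.comp (pushCan f S.X₃ n x) hS.extClass h :=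
  canZ_comp_extClass (Opens.grothendieckTopology X) (Opens.grothendieckTopology Y) (Opens.map f)
    (CohtopB.TopPull.adj f) (T := ⊤) isTerminalTop isTerminalTop hS hRS x h

/-- `pushCan` is bijective if the higher direct images vanish. -/
theorem pushCan_bijective (F : CohTop.Ab X)
    (h : ∀ q : ℕ, IsZero ((CohTop.Rpush f (q + 1)).obj F)) (n : ℕ) :
    Function.Bijective (pushCan f F n) :=
  canZ_bijective (Opens.grothendieckTopology X) (Opens.grothendieckTopology Y) (Opens.map f)
    (CohtopB.TopPull.adj f) (T := ⊤) isTerminalTop isTerminalTop F h n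

/-- Naturality of `pushCanU` in the sheaf. -/
lemma pushCanU_map {V : Opens Y} {F G : CohTop.Ab X} (φ : F ⟶ G) {n : ℕ}
    (x : CohTop.HU ((CohTop.push f).obj F) n V) :
    pushCanU f V G n (CohTop.HUmap ((CohTop.push f).map φ) n V x) =
      CohTop.HUmap φ n ((Opens.map f).obj V) (pushCanU f V F n x) :=
  canU_map (Opens.grothendieckTopology X) (Opens.grothendieckTopology Y) (Opens.map f)
    (CohtopB.TopPull.adj f) φ x

/-- Naturality of `pushCanU` in the open. -/
lemma pushCanU_res {V W : Opens Y} (g : V ≤ W) {F : CohTop.Ab X} {n : ℕ}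
    (x : CohTop.HU ((CohTop.push f).obj F) n W) :
    pushCanU f V F n (CohTop.res _ n g x) =
      CohTop.res F n (U := (Opens.map f).obj W) (V := (Opens.map f).obj V)
        (fun _ h => g h) (pushCanU f W F n x) :=
  canU_res (Opens.grothendieckTopology X) (Opens.grothendieckTopology Y) (Opens.map f)
    (CohtopB.TopPull.adj f) (homOfLE g) x

/-- `pushCanU` is bijective if the higher direct images vanish. -/
theorem pushCanU_bijective (V : Opens Y) (F : CohTop.Ab X)
    (h : ∀ q : ℕ, IsZero ((CohTop.Rpush f (q + 1)).obj F)) (n : ℕ) :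
    Function.Bijective (pushCanU f V F n) :=
  canU_bijective (Opens.grothendieckTopology X) (Opens.grothendieckTopology Y) (Opens.map f)
    (CohtopB.TopPull.adj f) V F h n

end Groth.Agent.CohtopA.PushCanTop
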