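import Mathlib.CategoryTheory.Localization.Predicate
import Mathlib.CategoryTheory.Localization.Opposite
import Mathlib.CategoryTheory.Yoneda

/-!
A presheaf on a localized category is representable if its restriction along the localization
functor is representable.
-/

universe w v₁ u₁ u₂

open CategoryTheory Opposite

namespace Groth.Agent.CohtopA.ReprLoc

variable {C : Type u₁} [Category.{v₁} C] {D : Type u₂} [Category.{v₁} D]

/-- Let `L : C ⥤ D` be a localization functor. If `H` is a presheaf on `D` and `L.op ⋙ H` is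
represented by `T`, then `H` is represented by `L T`. -/
theorem nonempty_iso_yoneda (L : C ⥤ D) (W : MorphismProperty C)
    [L.IsLocalization W] (H : Dᵒᵖ ⥤ Type v₁) {T : C} (r : (L.op ⋙ H).RepresentableBy T) :
    Nonempty (yoneda.obj (L.obj T) ≅ H) := by
  let u : H.obj (op (L.obj T)) := r.homEquiv (𝟙 T)
  -- `a : yoneda (L T) ⟶ H`
  let a : yoneda.obj (L.obj T) ⟶ H := yonedaEquiv.symm u
  -- `s : L.op ⋙ H ⟶ L.op ⋙ yoneda (L T)`
  let s : L.op ⋙ H ⟶ L.op ⋙ yoneda.obj (L.obj T) :=
    { app := fun X => TypeCat.ofHom (fun x => L.map (r.homEquiv.symm x))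
      naturality := by
        intro X Y f
        ext x
        have := r.comp_homEquiv_symm (X := Y.unop) (X' := X.unop) x f.unop
        change L.map (r.homEquiv.symm ((L.op ⋙ H).map f x)) =
          L.map f.unop ≫ L.map (r.homEquiv.symm x)
        rw [← Functor.map_comp, this]
        rfl }
  have := Localization.full_whiskeringLeft L.op W.op (Type v₁)
  have := Localization.faithful_whiskeringLeft L.op W.op (Type v₁)
  obtain ⟨s', hs'⟩ := ((Functor.whiskeringLeft Cᵒᵖ Dᵒᵖ (Type v₁)).obj L.op).map_surjective s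
  have hs : ∀ (X : C) (x : H.obj (op (L.obj X))),
      s'.app (op (L.obj X)) x = L.map (r.homEquiv.symm x) := fun X x =>
    congrArg (fun (t : L.op ⋙ H ⟶ L.op ⋙ yoneda.obj (L.obj T)) => t.app (op X) x) hs'
  refine ⟨⟨a, s', ?_, ?_⟩⟩
  · apply yonedaEquiv.injective
    change s'.app _ (H.map (𝟙 _) u) = 𝟙 (L.obj T)
    have h1 : H.map (𝟙 _) u = u := by simp
    rw [h1, hs]
    simp [u]
  · apply ((Functor.whiskeringLeft Cᵒᵖ Dᵒᵖ (Type v₁)).obj L.op).map_injective
    ext X x
    change H.map (Quiver.Hom.op (s'.app (op (L.obj X.unop)) x)) u = x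
    rw [hs]
    have := r.homEquiv_comp (r.homEquiv.symm x) (𝟙 T)
    rw [Category.comp_id, Equiv.apply_symm_apply] at this
    exact this.symm

/-- Let `L : C ⥤ D` be a localization functor. A presheaf `H` on `D` such that `L.op ⋙ H` is
representable is representable. -/
theorem isRepresentable_of_localization (L : C ⥤ D) (W : MorphismProperty C)
    [L.IsLocalization W] (H : Dᵒᵖ ⥤ Type v₁) (h : (L.op ⋙ H).IsRepresentable) :
    H.IsRepresentable := by
  obtain ⟨T, ⟨r⟩⟩ := h.has_representation
  obtain ⟨e⟩ := nonempty_iso_yoneda L W H r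
  exact Functor.IsRepresentable.mk' e

end Groth.Agent.CohtopA.ReprLoc
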