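import Groth.Agent.CohtopA.NoethPts
import Mathlib.Topology.Spectral.Prespectral
import Mathlib.Topology.QuasiSeparated
import Mathlib.Order.Zorn

/-!
# "Points" of directed families of compact opens in a (pre)spectral space
-/

set_option autoImplicit false
universe u

open TopologicalSpace

namespace Groth.Agent.CohtopA.SpectralPts

open NoethPts

variable {X : Type u} [TopologicalSpace X]

omit [TopologicalSpace X] in
theorem exists_lower_of_finite {c : Set (Set X)} (hc : IsChain (· ⊆ ·) c) (hne : c.Nonempty)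
    {a : Set (Set X)} (ha : a.Finite) (hac : a ⊆ c) : ∃ m ∈ c, ∀ s ∈ a, m ⊆ s := by
  induction a, ha using Set.Finite.induction_on with
  | empty =>
    obtain ⟨m, hm⟩ := hne
    exact ⟨m, hm, by simp⟩
  | @insert x t _ _ ih =>
    obtain ⟨m, hm, h⟩ := ih (fun y hy => hac (Set.mem_insert_of_mem _ hy))
    have hx : x ∈ c := hac (Set.mem_insert _ _)
    rcases hc.total hx hm with h1 | h1
    · refine ⟨x, hx, ?_⟩
      intro s hs
      rcases Set.mem_insert_iff.1 hs with rfl | hs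
      · exact subset_rfl
      · exact h1.trans (h s hs)
    · refine ⟨m, hm, ?_⟩
      intro s hs
      rcases Set.mem_insert_iff.1 hs with rfl | hs
      · exact h1
      · exact h s hs

/-- A closed subset meeting all members of a directed family of compact opens
contains an irreducible one with the same property. -/
theorem exists_pt {W : Set (Opens X)} (hd : IsDir W) (hne : W.Nonempty)
    (hcomp : ∀ T ∈ W, IsCompact (T : Set X))
    (C : Set X) (hCc : IsClosed C) (hC : ∀ T ∈ W, (C ∩ T).Nonempty) :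
    ∃ Z ∈ pts W, (Z : Set X) ⊆ C := by
  obtain ⟨D, hD1, hD2⟩ := zorn_superset_nonempty
    {D : Set X | IsClosed D ∧ ∀ T ∈ W, (D ∩ T).Nonempty} (by
      intro c hc1 hc2 hc3
      refine ⟨⋂₀ c, ⟨isClosed_sInter fun s hs => (hc1 hs).1, ?_⟩, fun s hs => Set.sInter_subset_of_mem hs⟩
      intro T hT
      rw [Set.inter_comm]
      refine (hcomp T hT).nonempty_inter_sInter (fun s hs => (hc1 hs).1) ?_
      intro a ha hfin
      obtain ⟨m, hm, hm'⟩ := exists_lower_of_finite hc2 hc3 hfin ha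
      obtain ⟨x, hx1, hx2⟩ := (hc1 hm).2 T hT
      exact ⟨x, hx2, fun s hs => hm' s hs hx1⟩) C ⟨hCc, hC⟩
  have hDmem := hD2.prop
  have hirr : IsIrreducible D := by
    refine ⟨?_, ?_⟩
    · obtain ⟨T, hT⟩ := hne
      exact (hDmem.2 T hT).mono Set.inter_subset_left
    · rw [isPreirreducible_iff_isClosed_union_isClosed]
      intro z₁ z₂ hz₁ hz₂ hz
      by_contra hcon
      rw [not_or] at hcon
      have key : ∀ z : Set X, IsClosed z → ¬ (D ⊆ z) →
          ∃ T ∈ W, ¬ (D ∩ z ∩ T).Nonempty := by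
        intro z hz hnz
        by_contra hcon2
        push Not at hcon2
        apply hnz
        have := hD2.eq_of_subset (t := D ∩ z) ⟨hDmem.1.inter hz, hcon2⟩ Set.inter_subset_left
        rw [← this]
        exact Set.inter_subset_right
      obtain ⟨T₁, hT₁, h₁⟩ := key z₁ hz₁ hcon.1
      obtain ⟨T₂, hT₂, h₂⟩ := key z₂ hz₂ hcon.2
      obtain ⟨T, hT, hTa, hTb⟩ := hd.inf T₁ hT₁ T₂ hT₂
      obtain ⟨x, hx1, hx2⟩ := hDmem.2 T hT
      rcases hz hx1 with h | h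
      · exact h₁ ⟨x, ⟨hx1, h⟩, hTa hx2⟩
      · exact h₂ ⟨x, ⟨hx1, h⟩, hTb hx2⟩
  exact ⟨⟨D, hirr, hDmem.1⟩, hDmem.2, hD1⟩

/-- `V` meets all the points of `W` outside `U`. -/
def Meets (W : Set (Opens X)) (U V : Opens X) : Prop :=
  ∀ Z ∈ pts W, (Z : Set X) ∩ U = ∅ → ((Z : Set X) ∩ V).Nonempty

theorem exists_le_sup {W : Set (Opens X)} (hd : IsDir W) (hne : W.Nonempty)
    (hcomp : ∀ T ∈ W, IsCompact (T : Set X)) {U V : Opens X} (h : Meets W U V) :
    ∃ T ∈ W, T ≤ U ⊔ V := by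
  by_contra hcon
  push Not at hcon
  obtain ⟨Z, hZ, hZ2⟩ := exists_pt hd hne hcomp (((U ⊔ V : Opens X) : Set X)ᶜ)
    (U ⊔ V).isOpen.isClosed_compl (by
      intro T hT
      obtain ⟨x, hx1, hx2⟩ := Set.not_subset.1 (hcon T hT)
      exact ⟨x, hx2, hx1⟩)
  have h1 : (Z : Set X) ∩ U = ∅ := by
    ext x
    simp only [Set.mem_inter_iff, Set.mem_empty_iff_false, iff_false, not_and]
    intro hx1 hx2
    exact hZ2 hx1 (Or.inl hx2)
  obtain ⟨x, hx1, hx2⟩ := h Z hZ h1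
  exact hZ2 hx1 (Or.inr hx2)

/-- The family of opens `V ∩ U ∩ T` where `T ∈ W` and `V` is a compact open meeting all points of
`W` outside `U`. -/
def loc (W : Set (Opens X)) (U : Opens X) : Set (Opens X) :=
  {S | ∃ V : Opens X, IsCompact (V : Set X) ∧ Meets W U V ∧ ∃ T ∈ W, S = V ⊓ (U ⊓ T)}

section QS

variable [PrespectralSpace X] [QuasiSeparatedSpace X]

omit [PrespectralSpace X] in
theorem isCompact_inf {U V : Opens X} (hU : IsCompact (U : Set X)) (hV : IsCompact (V : Set X)) :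
    IsCompact ((U ⊓ V : Opens X) : Set X) :=
  QuasiSeparatedSpace.inter_isCompact _ _ U.isOpen hU V.isOpen hV

omit [PrespectralSpace X] in
theorem isCompact_of_mem_loc {W : Set (Opens X)} (hcomp : ∀ T ∈ W, IsCompact (T : Set X))
    {U : Opens X} (hU : IsCompact (U : Set X)) : ∀ S ∈ loc W U, IsCompact (S : Set X) := by
  rintro _ ⟨V, hV, -, T, hT, rfl⟩
  exact isCompact_inf hV (isCompact_inf hU (hcomp T hT))

omit [PrespectralSpace X] in
theorem isDir_loc {W : Set (Opens X)} (hd : IsDir W) (hne : W.Nonempty)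
    (hcomp : ∀ T ∈ W, IsCompact (T : Set X)) (U : Opens X) : IsDir (loc W U) where
  inf := by
    rintro _ ⟨V₁, hV₁, h₁, T₁, hT₁, rfl⟩ _ ⟨V₂, hV₂, h₂, T₂, hT₂, rfl⟩
    obtain ⟨S₁, hS₁, hS₁'⟩ := exists_le_sup hd hne hcomp h₁
    obtain ⟨S₂, hS₂, hS₂'⟩ := exists_le_sup hd hne hcomp h₂
    obtain ⟨T, hT, hTa, hTb⟩ := hd.inf T₁ hT₁ T₂ hT₂
    obtain ⟨S, hS, hSa, hSb⟩ := hd.inf S₁ hS₁ S₂ hS₂
    refine ⟨(V₁ ⊓ V₂) ⊓ (U ⊓ T), ⟨V₁ ⊓ V₂, isCompact_inf hV₁ hV₂, ?_, T, hT, rfl⟩, ?_, ?_⟩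
    · intro Z hZ hZU
      obtain ⟨x, hx1, hx2⟩ := hZ S hS
      have hxU : x ∉ (U : Set X) := by
        intro hx
        have : x ∈ (Z : Set X) ∩ U := ⟨hx1, hx⟩
        rw [hZU] at this
        exact this
      refine ⟨x, hx1, ?_, ?_⟩
      · rcases hS₁' (hSa hx2) with h | h
        · exact absurd h hxU
        · exact h
      · rcases hS₂' (hSb hx2) with h | h
        · exact absurd h hxU
        · exact h
    · exact inf_le_inf inf_le_left (inf_le_inf_left U hTa)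
    · exact inf_le_inf inf_le_right (inf_le_inf_left U hTb)

omit [PrespectralSpace X] [QuasiSeparatedSpace X] in
theorem mem_loc {W : Set (Opens X)} (hcomp : ∀ T ∈ W, IsCompact (T : Set X))
    (U : Opens X) {T : Opens X} (hT : T ∈ W) : T ⊓ (U ⊓ T) ∈ loc W U :=
  ⟨T, hcomp T hT, fun _ hZ _ => hZ T hT, T, hT, rfl⟩

omit [PrespectralSpace X] [QuasiSeparatedSpace X] in
theorem pts_loc_subset {W : Set (Opens X)} (hcomp : ∀ T ∈ W, IsCompact (T : Set X))
    (U : Opens X) : pts (loc W U) ⊆ pts W := by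
  intro Z hZ T hT
  obtain ⟨x, hx1, hx2⟩ := hZ _ (mem_loc hcomp U hT)
  exact ⟨x, hx1, hx2.1⟩

omit [QuasiSeparatedSpace X] in
theorem exists_lt_of_mem_pts_loc {W : Set (Opens X)} (hd : IsDir W) (hne : W.Nonempty)
    (hcomp : ∀ T ∈ W, IsCompact (T : Set X)) {U : Opens X}
    {Y : IrreducibleCloseds X} (hY : Y ∈ pts (loc W U)) : ∃ Z ∈ pts W, Z < Y := by
  by_cases hcase : ∀ T ∈ W, (((Y : Set X) ∩ (U : Set X)ᶜ) ∩ T).Nonempty
  · obtain ⟨Z, hZ, hZ2⟩ := exists_pt hd hne hcomp _ (Y.isClosed.inter U.isOpen.isClosed_compl) hcase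
    refine ⟨Z, hZ, lt_of_le_of_ne (fun x hx => (hZ2 hx).1) ?_⟩
    rintro rfl
    obtain ⟨T, hT⟩ := hne
    obtain ⟨x, hx1, hx2⟩ := hY _ (mem_loc hcomp U hT)
    exact (hZ2 hx1).2 hx2.2.1
  · exfalso
    push Not at hcase
    obtain ⟨W₁, hW₁, hW₁'⟩ := hcase
    -- the open `V₁ = W₁ \ Y`
    let V₁ : Opens X := W₁ ⊓ ⟨(Y : Set X)ᶜ, Y.isClosed.isOpen_compl⟩
    have hV₁ : Meets W U V₁ := by
      intro Z hZ hZU
      obtain ⟨x, hx1, hx2⟩ := hZ W₁ hW₁
      have hxU : x ∉ (U : Set X) := by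
        intro hx
        have : x ∈ (Z : Set X) ∩ U := ⟨hx1, hx⟩
        rw [hZU] at this
        exact this
      refine ⟨x, hx1, hx2, ?_⟩
      intro hxY
      have : x ∈ ((Y : Set X) ∩ (U : Set X)ᶜ) ∩ W₁ := ⟨⟨hxY, hxU⟩, hx2⟩
      rw [hW₁'] at this
      exact this
    obtain ⟨W₂, hW₂, hW₂'⟩ := exists_le_sup hd hne hcomp hV₁
    obtain ⟨V, hVc, hVo, hV1, hV2⟩ := PrespectralSpace.exists_isCompact_and_isOpen_between
      (K := (W₂ : Set X) ∩ (U : Set X)ᶜ) (U := V₁)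
      ((hcomp W₂ hW₂).inter_right U.isOpen.isClosed_compl) V₁.isOpen (by
        rintro x ⟨hx1, hx2⟩
        rcases hW₂' hx1 with h | h
        · exact absurd h hx2
        · exact h)
    have hV : Meets W U ⟨V, hVo⟩ := by
      intro Z hZ hZU
      obtain ⟨x, hx1, hx2⟩ := hZ W₂ hW₂
      refine ⟨x, hx1, hV1 ⟨hx2, ?_⟩⟩
      intro hx
      have : x ∈ (Z : Set X) ∩ U := ⟨hx1, hx⟩
      rw [hZU] at this
      exact this
    obtain ⟨x, hx1, hx2⟩ := hY (⟨V, hVo⟩ ⊓ (U ⊓ W₁)) ⟨⟨V, hVo⟩, hVc, hV, W₁, hW₁, rfl⟩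
    exact (hV2 hx2.1).2 hx1

omit [QuasiSeparatedSpace X] in
theorem length_lt_of_loc {W : Set (Opens X)} (hd : IsDir W) (hne : W.Nonempty)
    (hcomp : ∀ T ∈ W, IsCompact (T : Set X)) {n : ℕ}
    (hn : ∀ p : LTSeries (pts W), p.length < n + 1) (U : Opens X)
    (p : LTSeries (pts (loc W U))) : p.length < n := by
  let f : pts (loc W U) → pts W := fun z => ⟨z.1, pts_loc_subset hcomp U z.2⟩
  have hf : StrictMono f := fun a b h => h
  obtain ⟨Z, hZ, hZ'⟩ := exists_lt_of_mem_pts_loc hd hne hcomp p.head.2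
  let q : LTSeries (pts W) := (p.map f hf).cons ⟨Z, hZ⟩ hZ'
  have hq := hn q
  have : q.length = p.length + 1 := by
    simp [q]
  omega

end QS

end Groth.Agent.CohtopA.SpectralPts
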