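import Groth.Agent.CohtopA.SpectralPts
import Groth.Agent.CohtopA.QFlasque
import Mathlib.Topology.Spectral.Basic
import Mathlib.Topology.KrullDimension

/-!
# Syzygies on spectral spaces and the vanishing theorem

`Syz d G`: `G` is a `d`-th cosyzygy with quasi-flasque terms. On a directed family of compact opens
whose points have no chains of length `> d`, sections of such a `G` on compact opens extend.
In particular, `d`-th cosyzygies are quasi-flasque on a compact prespectral quasi-separated space of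
dimension at most `d`.
-/

set_option autoImplicit false
universe u

open CategoryTheory Abelian Limits Opposite TopologicalSpace

namespace Groth.Agent.CohtopA.SpectralSyz

open FreeAb NoethPts SpectralPts Sec QFlasque ColimSections

variable {X : TopCat.{u}}

/-- `G` is a `d`-th cosyzygy with quasi-flasque terms. -/
def Syz : ℕ → CohTop.Ab X → Prop
  | 0, _ => True
  | n + 1, G => ∃ (G₁ I : CohTop.Ab X) (i : G₁ ⟶ I) (p : I ⟶ G) (w : i ≫ p = 0),
      (ShortComplex.mk i p w).ShortExact ∧ IsQFlasque I ∧ Syz n G₁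

/-- The relative extension property. -/
def ExtProp (W : Set (Opens X)) (G : CohTop.Ab X) : Prop :=
  ∀ (U : Opens X) (_ : IsCompact (U : Set X)) (s : Γs G U),
    ∃ (T : Opens X) (_ : T ∈ W) (s' : Γs G T),
      r G (inf_le_left : T ⊓ U ≤ T) s' = r G (inf_le_right : T ⊓ U ≤ U) s

/-- Gluing step: if a section `s` over `U` restricted to a member `V ∩ U ∩ T` of `loc W U` extends
to `V ∩ T`, then `s` extends to a member of `W`. -/
theorem exists_ext_of_loc {W : Set (Opens X)} (hd : IsDir W) (hne : W.Nonempty)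
    (hcomp : ∀ T ∈ W, IsCompact (T : Set X)) (G : CohTop.Ab X) (U V T : Opens X) (hT : T ∈ W)
    (hV : Meets W U V) (s : Γs G U) (s' : Γs G (V ⊓ T))
    (h : r G (inf_le_inf_left V inf_le_right : V ⊓ (U ⊓ T) ≤ V ⊓ T) s' =
      r G (inf_le_right.trans inf_le_left : V ⊓ (U ⊓ T) ≤ U) s) :
    ∃ (T : Opens X) (_ : T ∈ W) (s' : Γs G T),
      r G (inf_le_left : T ⊓ U ≤ T) s' = r G (inf_le_right : T ⊓ U ≤ U) s := by
  obtain ⟨w, hw1, hw2⟩ := glue₂ (r G (inf_le_left : U ⊓ T ≤ U) s) s' (by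
    have h1 := congrArg (r G (le_inf (inf_le_right.trans inf_le_left) inf_le_left :
      (U ⊓ T) ⊓ (V ⊓ T) ≤ V ⊓ (U ⊓ T))) h
    rw [r_r, r_r] at h1
    rw [r_r]
    exact h1.symm)
  obtain ⟨S, hS, hS'⟩ := exists_le_sup hd hne hcomp hV
  obtain ⟨c, hc, hc1, hc2⟩ := hd.inf S hS T hT
  have hle : c ≤ (U ⊓ T) ⊔ (V ⊓ T) := by
    rw [← inf_sup_right]
    exact le_inf (hc1.trans hS') hc2
  refine ⟨c, hc, r G hle w, ?_⟩
  have h2 := congrArg (r G (le_inf inf_le_right (inf_le_left.trans hc2) : c ⊓ U ≤ U ⊓ T)) hw1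
  rw [r_r, r_r] at h2
  rw [r_r]
  exact h2

/-- Lifting step. -/
theorem exists_lift_of_extProp [PrespectralSpace X] [QuasiSeparatedSpace X]
    {W : Set (Opens X)} (hd : IsDir W) (hne : W.Nonempty)
    (hcomp : ∀ T ∈ W, IsCompact (T : Set X)) {S : ShortComplex (CohTop.Ab X)} (hS : S.ShortExact)
    (hW : ExtProp W S.X₁) {U : Opens X} (hU : IsCompact (U : Set X)) (s : Γs S.X₃ U) :
    ∃ (T : Opens X) (_ : T ∈ W) (t : Γs S.X₂ (U ⊓ T)), m S.g (U ⊓ T) t = r _ inf_le_left s := by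
  have hepi : Epi S.g := hS.epi_g
  have key := hU.induction_on (p := fun A => ∃ (W' : Opens X) (h : W' ≤ U) (T : Opens X) (_ : T ∈ W)
    (t : Γs S.X₂ (W' ⊓ T)), IsCompact (W' : Set X) ∧ A ⊆ W' ∧
      m S.g (W' ⊓ T) t = r _ (inf_le_left.trans h) s) ?_ ?_ ?_ ?_
  · obtain ⟨W', h, T, hT, t, -, hUW, e⟩ := key
    obtain rfl : W' = U := le_antisymm h hUW
    exact ⟨T, hT, t, e⟩
  · obtain ⟨T, hT⟩ := hne
    refine ⟨⊥, bot_le, T, hT, 0, isCompact_empty, Set.empty_subset _, ?_⟩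
    have := subsingleton_bot S.X₃ (⊥ ⊓ T) (fun x hx => hx.1)
    exact Subsingleton.elim _ _
  · rintro A B hAB ⟨W', h, T, hT, t, hW', hB, e⟩
    exact ⟨W', h, T, hT, t, hW', hAB.trans hB, e⟩
  · rintro A B ⟨W₁, h₁', T₁, hT₁, t₁, hc₁, hA, e₁⟩ ⟨W₂, h₂', T₂, hT₂, t₂, hc₂, hB, e₂⟩
    obtain ⟨T, hT, hTa, hTb⟩ := hd.inf T₁ hT₁ T₂ hT₂
    -- the difference
    have hc₁₂ : IsCompact (((W₁ ⊓ W₂) ⊓ T : Opens X) : Set X) :=
      isCompact_inf (isCompact_inf hc₁ hc₂) (hcomp T hT)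
    obtain ⟨a, ha⟩ := exact_lift hS
      (r _ (le_inf (inf_le_left.trans inf_le_left) (inf_le_right.trans hTa)) t₁ -
        r _ (le_inf (inf_le_left.trans inf_le_right) (inf_le_right.trans hTb)) t₂ :
        Γs S.X₂ ((W₁ ⊓ W₂) ⊓ T)) (by
      rw [map_sub, m_r, m_r, e₁, e₂, r_r, r_r, sub_self])
    obtain ⟨T', hT', b, hb⟩ := hW ((W₁ ⊓ W₂) ⊓ T) hc₁₂ a
    obtain ⟨R, hR, hRa, hRb⟩ := hd.inf T hT T' hT'
    obtain ⟨w, hw₁, hw₂⟩ := glue₂ (r _ (inf_le_inf_left W₁ (hRa.trans hTa)) t₁ : Γs S.X₂ (W₁ ⊓ R))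
      (r _ (inf_le_inf_left W₂ (hRa.trans hTb)) t₂ +
        m S.f (W₂ ⊓ R) (r _ (inf_le_right.trans hRb) b)) (by
      have h1 := congrArg (m S.f (T' ⊓ ((W₁ ⊓ W₂) ⊓ T))) hb
      have h2 := congrArg (r _ (le_inf (inf_le_left.trans (inf_le_right.trans hRb))
        (le_inf (inf_le_inf inf_le_left inf_le_left) (inf_le_left.trans (inf_le_right.trans hRa))) :
          (W₁ ⊓ R) ⊓ (W₂ ⊓ R) ≤ T' ⊓ ((W₁ ⊓ W₂) ⊓ T))) h1
      rw [← m_r, ← m_r, r_r, r_r, m_r S.f _ a, ha, map_sub, r_r, r_r] at h2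
      rw [map_add, ← m_r, r_r, r_r, r_r, h2]
      abel)
    refine ⟨W₁ ⊔ W₂, sup_le h₁' h₂', R, hR,
      r _ (by rw [inf_sup_right]) w, hc₁.union hc₂, Set.union_subset_union hA hB, ?_⟩
    rw [m_r]
    refine sep₂ (by rw [inf_sup_right] : (W₁ ⊔ W₂) ⊓ R = (W₁ ⊓ R) ⊔ (W₂ ⊓ R)) _ _ ?_ ?_
    · rw [r_r, ← m_r, hw₁, m_r, e₁, r_r, r_r]
    · rw [r_r, ← m_r, hw₂, map_add, m_f_g, add_zero, m_r, e₂, r_r, r_r]
  · intro x hx
    obtain ⟨V, h, t, hxV, e⟩ := exists_lift S.g s x hx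
    obtain ⟨V', hV', hV'V, hxV'⟩ := exists_compactOpen hxV
    obtain ⟨T, hT⟩ := hne
    refine ⟨V', mem_nhdsWithin_of_mem_nhds (V'.isOpen.mem_nhds hxV'), V', hV'V.trans h, T, hT,
      r _ (inf_le_left.trans hV'V) t, hV', subset_rfl, ?_⟩
    rw [m_r, e, r_r]

theorem extProp_of_syz [PrespectralSpace X] [QuasiSeparatedSpace X] (d : ℕ) :
    ∀ (W : Set (Opens X)) (_ : IsDir W) (_ : W.Nonempty)
      (_ : ∀ T ∈ W, IsCompact (T : Set X)) (_ : ∀ p : LTSeries (pts W), p.length < d + 1)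
      (G : CohTop.Ab X) (_ : Syz d G), ExtProp W G := by
  induction d with
  | zero =>
    intro W hd hne hcomp hn G _ U hU s
    have hlen := length_lt_of_loc hd hne hcomp hn U
    have hdl := isDir_loc hd hne hcomp U
    have h1 : ∃ R ∈ loc W U, ¬ ((Set.univ : Set X) ∩ R).Nonempty := by
      by_contra hcon
      push Not at hcon
      obtain ⟨T, hT⟩ := hne
      obtain ⟨Z, hZ, -⟩ := SpectralPts.exists_pt hdl ⟨_, mem_loc hcomp U hT⟩
        (isCompact_of_mem_loc hcomp hU) Set.univ isClosed_univ hcon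
      exact absurd (hlen (RelSeries.singleton _ ⟨Z, hZ⟩)) (by simp)
    obtain ⟨_, ⟨V, hV, hVm, T, hT, rfl⟩, hemp⟩ := h1
    refine exists_ext_of_loc hd hne hcomp G U V T hT hVm s 0 ?_
    have := subsingleton_bot G (V ⊓ (U ⊓ T)) (fun x hx => hemp ⟨x, trivial, hx⟩)
    exact Subsingleton.elim _ _
  | succ d ih =>
    intro W hd hne hcomp hn G hG U hU s
    obtain ⟨G₁, I, i, p, w, hS, hI, hG₁⟩ := hG
    have hlen := length_lt_of_loc hd hne hcomp hn U
    have hdl := isDir_loc hd hne hcomp U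
    have hnel : (loc W U).Nonempty := by
      obtain ⟨T, hT⟩ := hne
      exact ⟨_, mem_loc hcomp U hT⟩
    have hcl := isCompact_of_mem_loc hcomp hU
    obtain ⟨_, ⟨V, hV, hVm, T, hT, rfl⟩, t, ht⟩ := exists_lift_of_extProp hdl hnel hcl hS
      (ih (loc W U) hdl hnel hcl hlen G₁ hG₁) hU s
    have hle : V ⊓ (U ⊓ T) ≤ U ⊓ (V ⊓ (U ⊓ T)) := le_inf (inf_le_right.trans inf_le_left) le_rfl
    obtain ⟨t', ht'⟩ := (isQFlasque_iff _).1 hI (V ⊓ T) (V ⊓ (U ⊓ T))
      (inf_le_inf_left V inf_le_right) (isCompact_inf hV (hcomp T hT))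
      (isCompact_inf hV (isCompact_inf hU (hcomp T hT))) (r _ hle t)
    refine exists_ext_of_loc hd hne hcomp G U V T hT hVm s (m p _ t') ?_
    rw [← m_r, ht', m_r]
    refine (congrArg _ ht).trans ?_
    rw [r_r]

/-- Cosyzygies are quasi-flasque on spaces of small dimension. -/
theorem isQFlasque_of_syz [PrespectralSpace X] [QuasiSeparatedSpace X] [CompactSpace X] (d : ℕ)
    (hd : topologicalKrullDim X ≤ d) (G : CohTop.Ab X) (hG : Syz d G) : IsQFlasque G := by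
  intro V U h hV hU s
  have hlen : ∀ p : LTSeries (pts ({⊤} : Set (Opens X))), p.length < d + 1 := by
    intro s
    have h1 : ((s.map Subtype.val (fun a b h => h) : LTSeries (IrreducibleCloseds X)).length :
        WithBot ℕ∞) ≤ topologicalKrullDim X := Order.LTSeries.length_le_krullDim _
    have h2 : (s.length : WithBot ℕ∞) ≤ (d : WithBot ℕ∞) := h1.trans hd
    have h3 : s.length ≤ d := by exact_mod_cast h2
    omega
  obtain ⟨T, hT, s', hs'⟩ := extProp_of_syz d {⊤}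
    ⟨fun a ha b hb => ⟨⊤, rfl, by rw [ha], by rw [hb]⟩⟩ ⟨⊤, rfl⟩
    (by rintro _ rfl; exact isCompact_univ) hlen G hG U hU s
  obtain rfl : T = ⊤ := hT
  refine ⟨r G le_top s', ?_⟩
  change r G h (r G le_top s') = s
  have h1 := congrArg (r G (le_inf le_top le_rfl : U ≤ ⊤ ⊓ U)) hs'
  rw [r_r, r_r, r_self] at h1
  rw [r_r]
  exact h1

/-- Existence of cosyzygies, with the iterated connecting homomorphism. -/
theorem exists_syz (F : CohTop.Ab X) (d : ℕ) :
    ∃ (G : CohTop.Ab X) (_ : Syz d G) (e : Ext.{u} G F d),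
      ∀ (A : CohTop.Ab X) (j k : ℕ) (h : j + d = k) (x : Ext.{u} A F k),
        ∃ y : Ext.{u} A G j, y.comp e h = x := by
  induction d with
  | zero =>
    refine ⟨F, trivial, Ext.mk₀ (𝟙 F), fun A j k h x => ?_⟩
    obtain rfl : j = k := h
    exact ⟨x, Ext.comp_mk₀_id x⟩
  | succ d ih =>
    obtain ⟨G₁, hG₁, e, he⟩ := ih
    obtain ⟨I, Q, i, q, w, hI, hS⟩ := DimShift.exists_shortExact_injective G₁
    refine ⟨Q, ⟨G₁, I, i, q, w, hS, isQFlasque_of_injective I, hG₁⟩,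
      hS.extClass.comp e (add_comm 1 d), ?_⟩
    intro A j k h x
    obtain ⟨y, rfl⟩ := he A (j + 1) k (by omega) x
    obtain ⟨z, rfl⟩ := Ext.covariant_sequence_exact₁ A hS y (Ext.eq_zero_of_injective _) rfl
    refine ⟨z, ?_⟩
    rw [Ext.comp_assoc]
    omega

/-- Vanishing above the dimension on a spectral space. -/
theorem subsingleton_HU_of_krullDim [PrespectralSpace X] [QuasiSeparatedSpace X] [CompactSpace X]
    (d : ℕ) (hd : topologicalKrullDim X ≤ d) (F : CohTop.Ab X) (p : ℕ) (hp : d < p)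
    (U : Opens X) (hU : IsCompact (U : Set X)) : Subsingleton (CohTop.HU F p U) := by
  obtain ⟨G, hG, e, he⟩ := exists_syz F d
  have hQ := isQFlasque_of_syz d hd G hG
  have key : ∀ x : Ext.{u} (freeAb (Opens.grothendieckTopology X) U) F p, x = 0 := by
    intro x
    obtain ⟨k, rfl⟩ : ∃ k, p = (k + 1) + d := ⟨p - d - 1, by omega⟩
    obtain ⟨y, rfl⟩ := he _ (k + 1) _ rfl x
    rw [QFlasque.ext_succ_eq_zero G hQ hU k y, Ext.zero_comp]
  exact subsingleton_of_forall_eq 0 key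

theorem subsingleton_H_of_krullDim [PrespectralSpace X] [QuasiSeparatedSpace X] [CompactSpace X]
    (d : ℕ) (hd : topologicalKrullDim X ≤ d) (F : CohTop.Ab X) (p : ℕ) (hp : d < p) :
    Subsingleton (CohTop.H F p) := by
  have := subsingleton_HU_of_krullDim d hd F p hp ⊤ isCompact_univ
  exact (Flasque.HTopEquiv F p).toEquiv.subsingleton

/-- Top degree classes over compact opens extend (`Ext` form). -/
theorem exists_ext_top [PrespectralSpace X] [QuasiSeparatedSpace X] [CompactSpace X]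
    (d : ℕ) (hd : topologicalKrullDim X ≤ d) (F : CohTop.Ab X) (V U : Opens X) (h : U ≤ V)
    (hV : IsCompact (V : Set X)) (hU : IsCompact (U : Set X))
    (x : Ext.{u} (freeAb (Opens.grothendieckTopology X) U) F d) :
    ∃ y : Ext.{u} (freeAb (Opens.grothendieckTopology X) V) F d,
      (Ext.mk₀ (freeAbMap (Opens.grothendieckTopology X) (homOfLE h))).comp y (zero_add d) = x := by
  obtain ⟨G, hG, e, he⟩ := exists_syz F d
  have hQ := isQFlasque_of_syz d hd G hG
  obtain ⟨y, rfl⟩ := he _ 0 d (zero_add d) x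
  obtain ⟨f, rfl⟩ := Ext.addEquiv₀.symm.surjective y
  obtain ⟨s, hs⟩ := hQ V U h hV hU (homEv U G f)
  obtain ⟨g, rfl⟩ := (homEv_bijective (J := Opens.grothendieckTopology X) V G).2 s
  have hgf : freeAbMap (Opens.grothendieckTopology X) (homOfLE h) ≫ g = f := by
    apply (homEv_bijective (J := Opens.grothendieckTopology X) U G).1
    rw [homEv_freeAbMap]
    exact hs
  refine ⟨(Ext.mk₀ g).comp e (zero_add d), ?_⟩
  rw [Ext.mk₀_comp_mk₀_assoc, hgf]
  rfl

/-- Top degree classes over compact opens extend. -/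
theorem res_surjective [PrespectralSpace X] [QuasiSeparatedSpace X] [CompactSpace X]
    (d : ℕ) (hd : topologicalKrullDim X ≤ d) (F : CohTop.Ab X) (V U : Opens X) (h : U ≤ V)
    (hV : IsCompact (V : Set X)) (hU : IsCompact (U : Set X)) :
    Function.Surjective (CohTop.res F d h) :=
  exists_ext_top d hd F V U h hV hU

end Groth.Agent.CohtopA.SpectralSyz
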