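import Mathlib.Algebra.Homology.DerivedCategory.Ext.ExactSequences
import Mathlib.Algebra.Homology.DerivedCategory.Ext.EnoughInjectives
import Mathlib.CategoryTheory.Preadditive.Injective.Basic
import Mathlib.CategoryTheory.Abelian.Basic
import Mathlib.Algebra.Category.Grp.Adjunctions
import Mathlib.Algebra.Category.Grp.Abelian
import Mathlib.Algebra.Category.Grp.EpiMono
import Mathlib.CategoryTheory.Sites.Abelian
import Mathlib.CategoryTheory.Sites.ConstantSheaf
import Mathlib.GroupTheory.FreeGroup.GeneratorEquiv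

/-!
# Torsion-free objects, left effaceability of `Ext`

* `TF G` : multiplication by `n` on `G` is a monomorphism for all `n ≠ 0`;
* `exists_epi_comp_eq_zero` : every class in `Ext^(n+1)(G, Y)` is killed by an epimorphism onto `G`;
* `ext_eq_zero_of_tf` : if `Ext^1(G, Y) = 0` for all torsion-free `G`, then `Ext^(n+1)(G, Y) = 0`
  for all torsion-free `G` (if every object is a quotient of a torsion-free object);
* `exists_tf_epi` : every abelian sheaf is a quotient of a torsion-free one;
* `tf_free`, `tf_const` : free abelian sheaves and the constant sheaf `ℤ` are torsion-free.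
-/

set_option autoImplicit false
universe w w' v u v' u'

open CategoryTheory Opposite Limits

namespace Groth.Agent.CohtopA.TFree

section Preadditive

variable {C : Type u} [Category.{v} C] [Preadditive C]

/-- `G` is torsion-free: multiplication by `n ≠ 0` is a monomorphism. -/
def TF (G : C) : Prop := ∀ n : ℕ, n ≠ 0 → Mono (n • 𝟙 G)

theorem TF.of_mono {G K : C} (h : TF G) (i : K ⟶ G) [Mono i] : TF K := by
  intro n hn
  have := h n hn
  have h1 : (n • 𝟙 K) ≫ i = i ≫ (n • 𝟙 G) := by
    rw [Preadditive.nsmul_comp, Preadditive.comp_nsmul, Category.id_comp, Category.comp_id]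
  have : Mono ((n • 𝟙 K) ≫ i) := by
    rw [h1]
    infer_instance
  exact mono_of_mono (n • 𝟙 K) i

theorem TF.map {D : Type u'} [Category.{v'} D] [Preadditive D] (F : C ⥤ D) [F.Additive]
    [F.PreservesMonomorphisms] {G : C} (h : TF G) : TF (F.obj G) := by
  intro n hn
  have := h n hn
  have h1 : n • 𝟙 (F.obj G) = F.map (n • 𝟙 G) := by
    rw [F.map_nsmul, F.map_id]
  rw [h1]
  infer_instance

theorem TF.of_iso {G K : C} (h : TF G) (e : K ≅ G) : TF K := h.of_mono e.hom

end Preadditive

section Abelian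

open Abelian

variable {C : Type u} [Category.{v} C] [Abelian C] [HasExt.{w} C]

/-- Left effaceability of `Ext`: every class of positive degree is killed by an epimorphism. -/
theorem exists_epi_comp_eq_zero [EnoughInjectives C] (n : ℕ) : ∀ (G Y : C) (x : Ext G Y (n + 1)),
    ∃ (P : C) (p : P ⟶ G), Epi p ∧ (Ext.mk₀ p).comp x (zero_add (n + 1)) = 0 := by
  induction n with
  | zero =>
    intro G Y x
    let S : ShortComplex C := ShortComplex.mk (Injective.ι Y) (cokernel.π (Injective.ι Y)) (by simp)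
    have hS : S.ShortExact :=
      { exact := ShortComplex.exact_of_g_is_cokernel _ (cokernelIsCokernel _)
        mono_f := by dsimp [S]; infer_instance
        epi_g := by dsimp [S]; infer_instance }
    obtain ⟨y, rfl⟩ := Ext.covariant_sequence_exact₁ G hS x
      (Ext.eq_zero_of_injective (I := Injective.under Y) _) (zero_add 1)
    obtain ⟨f, rfl⟩ := Ext.addEquiv₀.symm.surjective y
    have : Epi S.g := hS.epi_g
    refine ⟨pullback f S.g, pullback.fst f S.g, inferInstance, ?_⟩
    change (Ext.mk₀ (pullback.fst f S.g)).comp ((Ext.mk₀ f).comp hS.extClass _) _ = 0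
    rw [Ext.mk₀_comp_mk₀_assoc, pullback.condition, ← Ext.mk₀_comp_mk₀,
      Ext.comp_assoc_of_second_deg_zero, ShortComplex.ShortExact.comp_extClass, Ext.comp_zero]
  | succ n ih =>
    intro G Y x
    let S : ShortComplex C := ShortComplex.mk (Injective.ι Y) (cokernel.π (Injective.ι Y)) (by simp)
    have hS : S.ShortExact :=
      { exact := ShortComplex.exact_of_g_is_cokernel _ (cokernelIsCokernel _)
        mono_f := by dsimp [S]; infer_instance
        epi_g := by dsimp [S]; infer_instance }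
    obtain ⟨y, rfl⟩ := Ext.covariant_sequence_exact₁ G hS x
      (Ext.eq_zero_of_injective (I := Injective.under Y) _) rfl
    obtain ⟨P, p, hp, hy⟩ := ih _ _ y
    refine ⟨P, p, hp, ?_⟩
    rw [← Ext.comp_assoc, hy, Ext.zero_comp]
    all_goals omega

/-- Dimension shifting in the first variable: if all objects are quotients of torsion-free
objects and `Ext^1(G, Y) = 0` for all torsion-free `G`, then the same holds in all positive degrees. -/
theorem ext_eq_zero_of_tf [EnoughInjectives C] (Y : C)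
    (hP : ∀ G : C, ∃ (P : C) (p : P ⟶ G), Epi p ∧ TF P)
    (h1 : ∀ G : C, TF G → ∀ x : Ext G Y 1, x = 0) (n : ℕ) :
    ∀ G : C, TF G → ∀ x : Ext G Y (n + 1), x = 0 := by
  induction n with
  | zero => exact h1
  | succ n ih =>
    intro G hG x
    obtain ⟨P, p, hp, hx⟩ := exists_epi_comp_eq_zero (n + 1) G Y x
    obtain ⟨P', p', hp', hP'⟩ := hP P
    let q : P' ⟶ G := p' ≫ p
    have hq : Epi q := epi_comp _ _
    have hx' : (Ext.mk₀ q).comp x (zero_add (n + 2)) = 0 := by
      rw [← Ext.mk₀_comp_mk₀_assoc, hx, Ext.comp_zero]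
    let S : ShortComplex C := ShortComplex.mk (kernel.ι q) q (by simp)
    have hS : S.ShortExact :=
      { exact := ShortComplex.exact_of_f_is_kernel _ (kernelIsKernel _)
        mono_f := by dsimp [S]; infer_instance
        epi_g := hq }
    obtain ⟨y, rfl⟩ := Ext.contravariant_sequence_exact₃ hS Y x hx' (n₀ := n + 1) (by omega)
    rw [ih (kernel q) (hP'.of_mono (kernel.ι q)) y, Ext.comp_zero]

end Abelian

section Grp

theorem nsmul_mono_of_injective {A : AddCommGrpCat.{u}} (n : ℕ)
    (h : ∀ a : A, n • a = 0 → a = 0) : Mono (n • 𝟙 A) := by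
  rw [AddCommGrpCat.mono_iff_injective, injective_iff_map_eq_zero]
  intro a ha
  apply h a
  have h1 : (n • 𝟙 A : A ⟶ A).hom a = (n • (𝟙 A : A ⟶ A).hom) a := by
    rw [AddCommGrpCat.hom_nsmul]
  exact h1.symm.trans ha

theorem tf_of_forall {A : AddCommGrpCat.{u}}
    (h : ∀ (n : ℕ) (_ : n ≠ 0) (a : A), n • a = 0 → a = 0) : TF A :=
  fun n hn => nsmul_mono_of_injective n (h n hn)

theorem eq_zero_of_tf {A : AddCommGrpCat.{u}} (h : TF A) (n : ℕ) (hn : n ≠ 0) (a : A)
    (ha : n • a = 0) : a = 0 := by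
  have h1 := h n hn
  rw [AddCommGrpCat.mono_iff_injective, injective_iff_map_eq_zero] at h1
  apply h1
  have h2 : (n • 𝟙 A : A ⟶ A).hom a = (n • (𝟙 A : A ⟶ A).hom) a := by
    rw [AddCommGrpCat.hom_nsmul]
  exact h2.trans ha

theorem tf_freeObj (X : Type u) : TF (AddCommGrpCat.free.{u}.obj X) := by
  apply tf_of_forall
  intro n hn a ha
  have : Module.Free ℤ (FreeAbelianGroup X) := Module.Free.of_basis (FreeAbelianGroup.basis X)
  have h1 : (n : ℤ) • (a : FreeAbelianGroup X) = 0 := by
    rw [natCast_zsmul]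
    exact ha
  have h2 := (smul_eq_zero (M := FreeAbelianGroup X)).1 h1
  rcases h2 with h2 | h2
  · exact absurd (by exact_mod_cast h2) hn
  · exact h2

theorem tf_uliftInt : TF (AddCommGrpCat.of (ULift.{u} ℤ)) := by
  apply tf_of_forall
  intro n hn a ha
  have h1 : n • a.down = 0 := congrArg ULift.down ha
  rw [nsmul_eq_mul, mul_eq_zero] at h1
  rcases h1 with h1 | h1
  · exact absurd (by exact_mod_cast h1) hn
  · exact ULift.ext _ _ h1

end Grp

section Sheaf

variable {C : Type u} [Category.{v} C]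

theorem tf_presheaf {P : Cᵒᵖ ⥤ AddCommGrpCat.{w}} (h : ∀ U, TF (P.obj U)) : TF P := by
  intro n hn
  have : ∀ U, Mono ((n • 𝟙 P : P ⟶ P).app U) := by
    intro U
    have h1 : (n • 𝟙 P : P ⟶ P).app U = n • 𝟙 (P.obj U) := by
      rw [NatTrans.app_nsmul, NatTrans.id_app]
    rw [h1]
    exact h U n hn
  exact NatTrans.mono_of_mono_app _

theorem tf_app_of_tf {P : Cᵒᵖ ⥤ AddCommGrpCat.{w}} (h : TF P) (U : Cᵒᵖ) : TF (P.obj U) :=
  TF.map ((evaluation Cᵒᵖ AddCommGrpCat.{w}).obj U) h

variable (J : GrothendieckTopology C) [HasSheafify J AddCommGrpCat.{w}]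

theorem tf_sheafify {P : Cᵒᵖ ⥤ AddCommGrpCat.{w}} (h : TF P) :
    TF ((presheafToSheaf J AddCommGrpCat.{w}).obj P) :=
  TF.map _ h

omit [HasSheafify J AddCommGrpCat.{w}] in
theorem tf_sections {F : Sheaf J AddCommGrpCat.{w}} (h : TF F) (U : Cᵒᵖ) : TF (F.obj.obj U) :=
  TF.map (sheafToPresheaf J AddCommGrpCat.{w} ⋙ (evaluation Cᵒᵖ AddCommGrpCat.{w}).obj U) h

theorem tf_const : TF ((constantSheaf J AddCommGrpCat.{w}).obj (AddCommGrpCat.of (ULift.{w} ℤ))) :=
  tf_sheafify J (tf_presheaf fun _ => tf_uliftInt)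

theorem tf_free (P : Cᵒᵖ ⥤ Type w) :
    TF ((presheafToSheaf J AddCommGrpCat.{w}).obj (P ⋙ AddCommGrpCat.free)) :=
  tf_sheafify J (tf_presheaf fun _ => tf_freeObj _)

/-- Every abelian sheaf is a quotient of a torsion-free one. -/
theorem exists_tf_epi (F : Sheaf J AddCommGrpCat.{w}) :
    ∃ (P : Sheaf J AddCommGrpCat.{w}) (p : P ⟶ F), Epi p ∧ TF P := by
  let P₀ : Cᵒᵖ ⥤ AddCommGrpCat.{w} := (F.obj ⋙ forget AddCommGrpCat.{w}) ⋙ AddCommGrpCat.free
  let p₀ : P₀ ⟶ F.obj := Functor.whiskerLeft F.obj AddCommGrpCat.adj.counit ≫ F.obj.rightUnitor.hom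
  have hp₀ : ∀ U, Epi (p₀.app U) := by
    intro U
    rw [AddCommGrpCat.epi_iff_surjective]
    intro a
    refine ⟨FreeAbelianGroup.of a, ?_⟩
    have := ConcreteCategory.congr_hom (AddCommGrpCat.adj.right_triangle_components (F.obj.obj U)) a
    exact this
  have : Epi p₀ := NatTrans.epi_of_epi_app _
  refine ⟨(presheafToSheaf J AddCommGrpCat.{w}).obj P₀,
    (presheafToSheaf J AddCommGrpCat.{w}).map p₀ ≫ (sheafificationAdjunction J _).counit.app F,
    ?_, tf_free J _⟩
  infer_instance

end Sheaf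

end Groth.Agent.CohtopA.TFree
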